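import Cfsg.Agent.MXC.Defs

set_option autoImplicit false
set_option linter.unusedSectionVars false

namespace Cfsg.Agent.MXC

open Subgroup Cfsg.Agent.H62 Cfsg.Agent.SR3 Cfsg.Agent.MCF
open scoped commutatorElement

universe u

variable {G : Type u} [Group G] [Finite G] {p n i j k m : ℕ} [hp : Fact p.Prime]
  {S E R N D K Q X : Subgroup G} {e g r s t u x y : G} {a b c l : ℤ}

namespace Bas1

theorem succ_eq (hk : 1 ≤ k) : Gs S (k + 1) = Ga S k := Gs_eq (by omega)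

theorem pG (h : MC S p n) : IsPGroup p (Gs S k) := h.isPGroup.to_le Gs_le

theorem stepK (h : MC S p n) (hk : 1 ≤ k) (hs : s ∈ S) (hs' : s ∉ Ka S k) (hy : y ∈ Ga S k)
    (hc : ⁅y, s⁆ ∈ Ga S (k + 2)) : y ∈ Ga S (k + 1) := by
  lift s to S using hs
  obtain ⟨y, hy, rfl⟩ := hy
  exact coe_Ga.2 (h.mem_of_comm_mem hk (coe_Ka.not.1 hs') hy (coe_Ga.1 hc))

theorem normal2 (h : MC S p n) (h1 : N ≤ Ga S 1) (h2 : S ≤ nm N) : ∃ c, 1 ≤ c ∧ N = Ga S c := by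
  have hN : N ≤ S := h1.trans Ga_le
  haveI : (N.subgroupOf S).Normal := (normal_subgroupOf_iff_le_normalizer hN).2 h2
  obtain ⟨c, hc, e⟩ := MCE.normal_eq h (N := N.subgroupOf S) le_rfl fun x hx => coe_Ga.1 (h1 hx)
  exact ⟨c, hc, by rw [Ga, ← e, subgroupOf_map_subtype, inf_eq_left.2 hN]⟩

end Bas1

open Bas1

theorem Gs_card (h : MC S p n) (h4 : 4 ≤ n) (h1 : 1 ≤ k) (h2 : k + m = n) : Nat.card (Gs S k) = p ^ m := by
  rcases h1.eq_or_lt with rfl | h3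
  · rw [Gs_one, card_Ka h le_rfl h4]
    congr 1; omega
  · rw [Gs_eq h3, card_Ga h (by omega) (m := m) (by omega)]

theorem Bas1.card0 (h : MC S p n) (h4 : 4 ≤ n) (h2 : k + m = n) : Nat.card (Gs S k) = p ^ m := by
  rcases Nat.eq_zero_or_pos k with rfl | h1
  · rw [Gs_zero, h.card, ← h2, zero_add]
  · exact Gs_card h h4 h1 h2

theorem Gs_bot (h : MC S p n) (h4 : 4 ≤ n) (hk : n ≤ k) : Gs S k = ⊥ := by
  rw [Gs_eq (by omega), eq_bot_iff]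
  exact fun x hx => Ga_one h (by omega) hx

theorem Gs_card_le (h : MC S p n) (h4 : 4 ≤ n) : Nat.card (Gs S k) ≤ p * Nat.card (Gs S (k + 1)) := by
  by_cases hk : n ≤ k
  · rw [Gs_bot h h4 hk, Gs_bot h h4 (hk.trans k.le_succ), card_bot, mul_one]
    exact hp.out.pos
  · obtain ⟨m, hm⟩ : ∃ m, k + 1 + m = n := ⟨n - (k + 1), by omega⟩
    rw [card0 h h4 (m := m + 1) (by omega), card0 h h4 hm, pow_succ']

theorem Gs_ex (h : MC S p n) (h4 : 4 ≤ n) (hk : k + 1 ≤ n) : ∃ y ∈ Gs S k, y ∉ Gs S (k + 1) := by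
  obtain ⟨m, hm⟩ : ∃ m, k + 1 + m = n := ⟨n - (k + 1), by omega⟩
  refine SetLike.not_le_iff_exists.1 fun c => ?_
  have := card_le_of_le c
  rw [card0 h h4 (m := m + 1) (by omega), card0 h h4 hm, Nat.pow_le_pow_iff_right hp.out.one_lt] at this
  omega

theorem Gs_gen (h : MC S p n) (h4 : 4 ≤ n) (hy : y ∈ Gs S k) (hy' : y ∉ Gs S (k + 1)) :
    Gs S (k + 1) ⊔ zpowers y = Gs S k :=
  sup_zpowers_eq (pG h) (Gs_anti k.le_succ) (Gs_card_le h h4) hy hy'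

theorem Gs_pow (h : MC S p n) (h4 : 4 ≤ n) (hy : y ∈ Gs S k) : y ^ p ∈ Gs S (k + 1) :=
  pow_mem_of_card (pG h) (Gs_anti k.le_succ) (Gs_card_le h h4) hy

theorem Gs_idx (h : MC S p n) (h4 : 4 ≤ n) (hx : x ∈ S) (h1 : x ≠ 1) :
    ∃ i, i + 1 ≤ n ∧ x ∈ Gs S i ∧ x ∉ Gs S (i + 1) := by
  classical
  have hn : x ∉ Gs S n := by rwa [Gs_bot h h4 le_rfl, mem_bot]
  have ex : ∃ j, x ∉ Gs S j := ⟨n, hn⟩
  have h2 := Nat.find_spec ex
  have h3 := Nat.find_min' ex hn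
  have h0 : Nat.find ex ≠ 0 := fun e => h2 (by rwa [e, Gs_zero])
  obtain ⟨i, hi⟩ := Nat.exists_eq_succ_of_ne_zero h0
  refine ⟨i, by omega, not_not.1 (Nat.find_min ex (by omega)), ?_⟩
  rwa [hi] at h2

theorem Gs_normal (h : MC S p n) (h4 : 4 ≤ n) (h1 : N ≤ Gs S 1) (h2 : S ≤ nm N) :
    ∃ c, 1 ≤ c ∧ c ≤ n ∧ N = Gs S c := by
  by_cases hN : N ≤ Gs S 2
  · obtain ⟨c, hc, e⟩ := normal2 h hN h2
    rw [← succ_eq hc] at e
    by_cases hn : c + 1 ≤ n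
    · exact ⟨c + 1, by omega, hn, e⟩
    · exact ⟨n, by omega, le_rfl, by rw [e, Gs_bot h h4 le_rfl, Gs_bot h h4 (by omega)]⟩
  · refine ⟨1, le_rfl, by omega, eq_of_card (pG h) ?_ h1 (Gs_card_le h h4) hN⟩
    obtain ⟨x, hx, hx'⟩ := SetLike.not_le_iff_exists.1 hN
    obtain ⟨s, hs, hs'⟩ := SetLike.not_le_iff_exists.1 (Ka_ne h (k := 1) h4)
    obtain ⟨c, hc, e⟩ := normal2 h (N := N ⊓ Ga S 1) inf_le_right fun g hg => nm_inf (h2 hg) (nm_Ga hg)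
    have m1 : ⁅x, s⁆ ∈ Ga S c := e ▸ ⟨comm_symm (comm_mem_of_nm (h2 hs) hx), Gs_comm0 (h1 hx) hs⟩
    rcases hc.eq_or_lt with rfl | hc'
    · exact inf_eq_right.1 e
    · exact absurd (Ka_comm h le_rfl h4 hs hs' (h1 hx) (Ga_anti hc' m1)) hx'

theorem Gs_cen (h : MC S p n) (h4 : 4 ≤ n) : S ⊓ ce S = Gs S (n - 1) := by
  rw [Gs_eq (by omega), show n - 1 - 1 = n - 2 by omega]
  refine le_antisymm (fun x hx => ?_) ?_
  · exact ⟨⟨x, hx.1⟩, h.center_le (mem_center_iff.2 fun y => Subtype.ext (mem_ce.1 hx.2 y y.2)), rfl⟩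
  · rintro _ ⟨x, hx, rfl⟩
    exact ⟨x.2, mem_ce.2 fun y hy => congrArg Subtype.val (mem_center_iff.1 (h.le_center hx) ⟨y, hy⟩)⟩

theorem Gs_Zo (h : MC S p n) (h4 : 4 ≤ n) : Zo p S = Gs S (n - 1) := by
  ext x
  rw [mem_Zo, Gs_cen h h4]
  refine ⟨fun c => c.1, fun c => ⟨c, ?_⟩⟩
  have := Gs_pow h h4 c
  rwa [Gs_bot h h4 (by omega), mem_bot] at this

theorem mem_Cs (h : MC S p n) (h4 : 4 ≤ n) : x ∈ Cs S n ↔ x ∈ S ∧ x ∈ ce (Gs S (n - 2)) := by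
  rw [Cs, mem_Ka, Gs_eq (by omega), show n - 2 - 1 = n - 3 by omega, mem_ce]
  refine and_congr_right fun _ => forall₂_congr fun y _ => ⟨fun c => ?_, fun c => ?_⟩
  · exact commutatorElement_eq_one_iff_mul_comm.1 (Ga_one h (by omega) c)
  · rw [commutatorElement_eq_one_iff_mul_comm.2 c]
    exact one_mem _

theorem card_Cs (h : MC S p n) (h4 : 4 ≤ n) : Nat.card (Cs S n) = p ^ (n - 1) :=
  card_Ka h (by omega) (by omega)

theorem Xc.not_le (hx : Xc S n) (h : MC S p n) (h4 : 4 ≤ n) : ¬ Gs S 1 ≤ Cs S n := fun c =>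
  hx (eq_of_le_of_card_ge c (by rw [card_Cs h h4, Gs_card h h4 le_rfl (m := n - 1) (by omega)]))

theorem Xc.inf (hx : Xc S n) (h : MC S p n) (h4 : 4 ≤ n) : Gs S 1 ⊓ Cs S n = Gs S 2 :=
  eq_of_card' (pG h) (le_inf (Gs_anti one_le_two) Gs_two_le_Cs) inf_le_left (Gs_card_le h h4)
    fun c => hx.not_le h h4 (c.trans inf_le_right)

theorem Xc.num (hx : Xc S n) (h : MC S p n) (h4 : 4 ≤ n) : 6 ≤ n ∧ Even n ∧ n ≤ p + 1 := by
  have hne := hx.not_le h h4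
  have ev := (Ka_exc h h4 hne).1
  have p2 := hp.out.two_le
  have h6 : 6 ≤ n := by
    have : n ≠ 4 := by
      rintro rfl
      exact hx rfl
    obtain ⟨r, hr⟩ := ev
    omega
  refine ⟨h6, ev, ?_⟩
  by_contra c
  by_cases c' : n = p + 2
  · rcases hp.out.eq_two_or_odd with e | e
    · omega
    · obtain ⟨r, hr⟩ := ev
      omega
  · refine hne (map_mono ?_)
    have := h.KK_le_KK (j := n - p - 2) (by omega)
    rwa [MCE.blk h (by omega) (by omega), show n - p - 2 + p - 1 = n - 3 by omega] at this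

theorem hK_of (h : MC S p n) (h4 : 4 ≤ n) (hx : ¬ Xc S n) : ∀ k, 1 ≤ k → KK S 1 ≤ KK S k := fun k hk => by
  by_cases h1 : k + 4 ≤ n
  · exact (MCE.blk h hk h1).ge
  by_cases h2 : k = n - 3
  · have e : Gs S 1 = Cs S n := not_not.1 hx
    intro g hg
    have : (g : G) ∈ Cs S n := e ▸ coe_Ka.2 hg
    rw [h2]
    exact coe_Ka.1 this
  · intro g _ y hy
    have := LL_comm' hy g
    rw [h.LL_eq_bot (by omega), mem_bot] at this
    rw [this]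
    exact one_mem _

theorem step (h : MC S p n) (h4 : 4 ≤ n) (hs : s ∈ S) (hs' : s ∉ Gs S 1) (hi : 1 ≤ i) (hi' : i + 3 ≤ n)
    (hy : y ∈ Gs S i) (hc : ⁅y, s⁆ ∈ Gs S (i + 2)) : y ∈ Gs S (i + 1) := by
  rcases hi.eq_or_lt with rfl | h2
  · exact Ka_comm h le_rfl h4 hs hs' hy hc
  · obtain ⟨k, rfl⟩ : ∃ k, i = k + 1 := ⟨i - 1, by omega⟩
    have hk : 1 ≤ k := by omega
    rw [succ_eq hk] at hy
    exact stepK h hk hs (by rwa [Ka_blk h hk (by omega)]) hy hc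

theorem step_top (h : MC S p n) (h4 : 4 ≤ n) (hs : s ∈ S) (hs' : s ∉ Cs S n) (hy : y ∈ Gs S (n - 2))
    (hc : ⁅y, s⁆ = 1) : y ∈ Gs S (n - 1) := by
  rw [Gs_eq (by omega), show n - 2 - 1 = n - 3 by omega] at hy
  rw [Gs_eq (by omega), show n - 1 - 1 = n - 3 + 1 by omega]
  exact stepK h (by omega) hs hs' hy (hc ▸ one_mem _)

theorem Un.step (hs : Un S n s) (h : MC S p n) (h4 : 4 ≤ n) (hi : 1 ≤ i) (hi' : i + 2 ≤ n)
    (hy : y ∈ Gs S i) (hc : ⁅y, s⁆ ∈ Gs S (i + 2)) : y ∈ Gs S (i + 1) := by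
  rcases hi'.eq_or_lt with rfl | h2
  · rw [Gs_bot h h4 le_rfl, mem_bot] at hc
    exact step_top h h4 hs.mem hs.n2 hy hc
  · exact MXC.step h h4 hs.mem hs.n1 hi h2 hy hc

theorem steps (h : MC S p n) (h4 : 4 ≤ n) (hs : s ∈ S) (hs' : s ∉ Gs S 1) (hm : m + 2 ≤ n ∨ s ∉ Cs S n) (hm' : m + 1 ≤ n)
    (hy : y ∈ Gs S 1) (hc : ⁅y, s⁆ ∈ Gs S (m + 1)) : y ∈ Gs S m := by
  have : ∀ j, j ≤ m → y ∈ Gs S j := fun j => by
    induction j with
    | zero => exact fun _ => Gs_anti zero_le_one hy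
    | succ j ih =>
      intro hj
      rcases Nat.eq_zero_or_pos j with rfl | h1
      · exact hy
      · have hc' : ⁅y, s⁆ ∈ Gs S (j + 2) := Gs_anti (by omega) hc
        rcases hm with hm | hm
        · exact step h h4 hs hs' h1 (by omega) (ih (by omega)) hc'
        · exact Un.step ⟨hs, hs', hm⟩ h h4 h1 (by omega) (ih (by omega)) hc'
  exact this m le_rfl

theorem un_of (h : MC S p n) (h4 : 4 ≤ n) (hR : R ≤ S) (h1 : ¬ R ≤ Gs S 1) (h2 : ¬ R ≤ Cs S n) : ∃ s ∈ R, Un S n s := by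
  obtain ⟨x, hx, hx'⟩ := SetLike.not_le_iff_exists.1 h1
  obtain ⟨y, hy, hy'⟩ := SetLike.not_le_iff_exists.1 h2
  by_cases c1 : x ∈ Cs S n
  · by_cases c2 : y ∈ Gs S 1
    · exact ⟨x * y, mul_mem hx hy, hR (mul_mem hx hy), fun c => hx' ((mul_mem_cancel_right c2).1 c),
        fun c => hy' ((mul_mem_cancel_left c1).1 c)⟩
    · exact ⟨y, hy, hR hy, c2, hy'⟩
  · exact ⟨x, hx, hR hx, hx', c1⟩

theorem exists_un (h : MC S p n) (h4 : 4 ≤ n) : ∃ s, Un S n s := by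
  obtain ⟨s, -, hs⟩ := un_of h h4 le_rfl (Ka_ne h (k := 1) h4) (Ka_ne h (k := n - 3) (by omega))
  exact ⟨s, hs⟩

theorem stepC (h : MC S p n) (h4 : 4 ≤ n) (hs : s ∈ S) (hs' : s ∉ Cs S n) (he : e ∈ Cs S n) (hc : ⁅e, s⁆ ∈ Gs S 3) :
    e ∈ Gs S 2 :=
  Ka_comm h (k := n - 3) (by omega) (by omega) hs hs' he hc

end Cfsg.Agent.MXC
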