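import Cfsg.Agent.MXC.Bas1

set_option autoImplicit false
set_option linter.unusedSectionVars false

namespace Cfsg.Agent.MXC

open Subgroup Cfsg.Agent.H62 Cfsg.Agent.SR3 Cfsg.Agent.MCF
open scoped commutatorElement

universe u

variable {G : Type u} [Group G] [Finite G] {p n i j k m : ℕ} [hp : Fact p.Prime]
  {S E R N D K Q X : Subgroup G} {e g r s t u x y : G} {a b c l : ℤ}

namespace Bas2

theorem comm1 (h : MC G p n) (h4 : 4 ≤ n) (i : ℕ) :
    ∀ j, i + j + 2 ≤ n → ⁅GS G i, GS G j⁆ ≤ GS G (i + j + 1) := by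
  have h0 : ∀ j, ⁅GS G j, GS G 0⁆ ≤ GS G (j + 1) := fun j => GS_comm_top j
  induction i with
  | zero => intro j _; rw [commutator_comm, zero_add]; exact h0 j
  | succ i ih =>
    intro j hj
    rcases Nat.eq_zero_or_pos i with rfl | hi
    · match j with
      | 0 => exact h0 1
      | 1 =>
        rw [commutator_le]
        exact fun a ha b hb => h.comm_KK_mem (k := 1) (N := LL G 2) h4
          (fun l hl g _ => LL_comm' hl g) ha hb
      | (j + 2) =>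
        refine le_trans ?_ (GS_anti (show 0 + 1 + (j + 2) + 1 ≤ j + 4 by omega))
        rw [commutator_comm, commutator_le]
        exact fun a ha b hb => (MCE.blk h (k := j + 1) (by omega) (by omega)).ge hb a ha
    · refine (commutator_mono (h.GS_succ hi h4) le_rfl).trans (H83.three_subgroups ?_ ?_)
      · rw [commutator_comm ⊤, commutator_comm]
        exact (commutator_mono le_rfl (h0 j)).trans ((ih _ (by omega)).trans (GS_anti (by omega)))
      · rw [commutator_comm (GS G j)]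
        exact (commutator_mono (ih j (by omega)) le_rfl).trans ((h0 _).trans (GS_anti (by omega)))

theorem pair (h : MC G p n) (h4 : 4 ≤ n) (hj : 1 ≤ j) (hj' : j + 2 ≤ n)
    (e : ⁅GS G j, GS G (n - 1 - j)⁆ ≤ ⊥) : ⁅GS G 1, GS G (n - 1 - 1)⁆ ≤ ⊥ := by
  induction j, hj using Nat.le_induction with
  | base => exact e
  | succ j hj ih =>
    refine ih (by omega) ?_
    obtain ⟨k, rfl⟩ : ∃ k, n = j + k + 2 := ⟨n - j - 2, by omega⟩
    rw [show j + k + 2 - 1 - (j + 1) = k by omega] at e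
    rw [show j + k + 2 - 1 - j = k + 1 by omega, commutator_comm]
    refine (commutator_mono (h.GS_succ (by omega) h4) le_rfl).trans (H83.three_subgroups ?_ ?_)
    · rw [commutator_comm ⊤]
      exact (commutator_mono (GS_comm_top j) le_rfl).trans e
    · refine (commutator_mono (comm1 h h4 j k le_rfl) le_rfl).trans ((GS_comm_top _).trans ?_)
      rw [GS_eq (by omega), h.LL_eq_bot (by omega)]

theorem card1 (h : MC S p n) (h4 : 4 ≤ n) (hR : R ≤ S) (hs : s ∈ R) (hs' : s ∉ Gs S 1) :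
    Nat.card R = p * Nat.card ↥(R ⊓ Gs S 1) :=
  card_eq_inf h.isPGroup Gs_le (by simpa only [Gs_zero] using Gs_card_le (k := 0) h h4) hR fun e => hs' (e hs)

end Bas2

theorem Gs_comm (hx : x ∈ Gs S i) (hy : y ∈ Gs S j) : ⁅x, y⁆ ∈ Gs S (i + j) := by
  rcases le_or_gt i 1 with hi | hi
  · exact Gs_anti (by omega) (Gs_comm0' (Gs_le hx) hy)
  rcases le_or_gt j 1 with hj | hj
  · exact Gs_anti (by omega) (Gs_comm0 hx (Gs_le hy))
  rw [Gs_eq hi] at hx
  rw [Gs_eq hj] at hy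
  rw [Gs_eq (by omega)]
  exact Ga_comm hx hy (by omega)

theorem Gs_comm1 (h : MC S p n) (h4 : 4 ≤ n) (hij : i + j + 2 ≤ n ∨ ¬ Xc S n) (hx : x ∈ Gs S i) (hy : y ∈ Gs S j) :
    ⁅x, y⁆ ∈ Gs S (i + j + 1) := by
  obtain ⟨x, hx, rfl⟩ := hx
  obtain ⟨y, hy, rfl⟩ := hy
  refine ⟨⁅x, y⁆, ?_, rfl⟩
  rcases hij with e | e
  · exact Bas2.comm1 h h4 i j e (commutator_mem_commutator hx hy)
  · exact h.GS_comm h4 (hK_of h h4 e) i j (commutator_mem_commutator hx hy)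

theorem Xc.pair (hX : Xc S n) (h : MC S p n) (h4 : 4 ≤ n) (hj : 1 ≤ j) (hj' : j + 2 ≤ n) (hx : x ∈ Gs S j)
    (hx' : x ∉ Gs S (j + 1)) : ∃ y ∈ Gs S (n - 1 - j), ⁅x, y⁆ ≠ 1 := by
  by_contra! hc
  have h1 : Gs S j ≤ ce (Gs S (n - 1 - j)) := by
    rw [← Gs_gen h h4 hx hx']
    refine sup_le (fun a ha => mem_ce.2 fun b hb => ?_) (zpowers_le.2 (mem_ce.2 fun b hb => ?_))
    · have := Gs_comm hb ha
      rwa [Gs_bot h h4 (by omega), mem_bot, commutatorElement_eq_one_iff_mul_comm] at this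
    · exact (commutatorElement_eq_one_iff_mul_comm.1 (hc b hb)).symm
  have h2 := Bas2.pair h h4 hj hj' (commutator_le.2 fun a ha b hb => mem_bot.2
    (commutatorElement_eq_one_iff_mul_comm.2 (Subtype.ext (mem_ce.1 (h1 (coe_Gs.2 ha)) b (coe_Gs.2 hb)).symm)))
  refine hX.not_le h h4 fun a ha => (mem_Cs h h4).2 ⟨Gs_le ha, mem_ce.2 fun b hb => ?_⟩
  obtain ⟨a, ha, rfl⟩ := ha
  obtain ⟨b, hb, rfl⟩ := hb
  exact (congrArg Subtype.val (commutatorElement_eq_one_iff_mul_comm.1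
    (mem_bot.1 (h2 (commutator_mem_commutator ha hb))))).symm

theorem up_eq (h : MC S p n) (h4 : 4 ≤ n) (h1 : Gs S (n - 1) ≤ E) (h2 : E ≤ Gs S 1) (hx : x ∈ S) (hx' : x ∉ Gs S 1)
    (hn : x ∈ nm E) : ∃ c, 1 ≤ c ∧ c + 1 ≤ n ∧ E = Gs S c := by
  classical
  have key : ∀ d i, i + d + 1 = n → 1 ≤ i → ∀ e ∈ E, e ∈ Gs S i → e ∉ Gs S (i + 1) → Gs S i ≤ E := fun d => by
    induction d with
    | zero => intro i hi _ _ _ _ _; rwa [show i = n - 1 by omega]
    | succ d ih =>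
      intro i hi i1 e he e1 e2
      rw [← Gs_gen h h4 e1 e2]
      refine sup_le ?_ (zpowers_le.2 he)
      rcases Nat.eq_zero_or_pos d with rfl | hd
      · rwa [show i + 1 = n - 1 by omega]
      · exact ih (i + 1) (by omega) (by omega) _ (comm_symm (comm_mem_of_nm hn he)) (Gs_comm0 e1 hx)
          fun c => e2 (step h h4 hx hx' i1 (by omega) e1 c)
  have top : ¬ E ≤ Gs S (n - 1 + 1) := fun c => by
    obtain ⟨y, y1, y2⟩ := Gs_ex (k := n - 1) h h4 (by omega)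
    exact y2 (c (h1 y1))
  have ex : ∃ c, ¬ E ≤ Gs S (c + 1) := ⟨_, top⟩
  have c1 := Nat.find_spec ex
  have c2 : Nat.find ex ≤ n - 1 := Nat.find_min' ex top
  have c3 : 1 ≤ Nat.find ex := Nat.pos_of_ne_zero fun c => c1 (by rwa [c])
  have c4 : E ≤ Gs S (Nat.find ex) := by
    have := not_not.1 (Nat.find_min ex (m := Nat.find ex - 1) (by omega))
    rwa [Nat.sub_add_cancel c3] at this
  obtain ⟨e, e1, e2⟩ := SetLike.not_le_iff_exists.1 c1
  exact ⟨_, c3, by omega, le_antisymm c4 (key (n - 1 - Nat.find ex) _ (by omega) c3 e e1 (c4 e1) e2)⟩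

theorem comm_eq (h : MC S p n) (h4 : 4 ≤ n) (hR : R ≤ S) (hs : s ∈ R) (hu : Un S n s) (hk : 1 ≤ k) :
    ⁅Gs S k, R⁆ = Gs S (k + 1) := by
  refine le_antisymm (commutator_le.2 fun a ha b hb => Gs_comm0 ha (hR hb)) ?_
  have key : ∀ d k, 1 ≤ k → n ≤ k + d + 1 → Gs S (k + 1) ≤ ⁅Gs S k, R⁆ := fun d => by
    induction d with
    | zero => intro k _ e; rw [Gs_bot h h4 e]; exact bot_le
    | succ d ih =>
      intro k k1 e
      rcases le_or_gt n (k + 1) with e' | e'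
      · rw [Gs_bot h h4 e']; exact bot_le
      obtain ⟨y, y1, y2⟩ := Gs_ex (k := k) h h4 (by omega)
      rw [← Gs_gen h h4 (Gs_comm0 y1 hu.mem) fun c => y2 (hu.step h h4 k1 e' y1 c)]
      exact sup_le ((ih (k + 1) (by omega) (by omega)).trans (commutator_mono (Gs_anti (Nat.le_succ k)) le_rfl))
        (zpowers_le.2 (commutator_mem_commutator y1 hs))
  exact key n k hk (by omega)

theorem inf_eq (h : MC S p n) (h4 : 4 ≤ n) (hR : R ≤ S) (h1 : Gs S (n - 1) ≤ R) (hs : s ∈ R) (hs' : s ∉ Gs S 1) :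
    ∃ c, 1 ≤ c ∧ c + 1 ≤ n ∧ R ⊓ Gs S 1 = Gs S c ∧ R = Gs S c ⊔ zpowers s ∧
      Nat.card R = p ^ (n - c + 1) := by
  obtain ⟨c, c1, c2, e⟩ := up_eq (E := R ⊓ Gs S 1) h h4 (le_inf h1 (Gs_anti (by omega))) inf_le_right (hR hs) hs'
    (nm_inf (le_normalizer hs) (nm_Gs (hR hs)))
  have e1 := Bas2.card1 h h4 hR hs hs'
  rw [e] at e1
  refine ⟨c, c1, c2, e, (sup_zpowers_eq (h.isPGroup.to_le hR) (e.ge.trans inf_le_left) e1.le hs
    fun c => hs' (Gs_anti c1 c)).symm, ?_⟩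
  rw [e1, Gs_card (m := n - c) h h4 c1 (by omega), pow_succ']

theorem nm_eq {c' : ℕ} (h : MC S p n) (h4 : 4 ≤ n) (hc : 2 ≤ c') (hc' : c' + 1 ≤ n) (hs : s ∈ S) (hs' : s ∉ Gs S 1)
    (hm : c' + 2 ≤ n ∨ s ∉ Cs S n) (hR : R = Gs S c' ⊔ zpowers s) (h1 : R ⊓ Gs S 1 = Gs S c') :
    S ⊓ nm R = Gs S (c' - 1) ⊔ zpowers s ∧ Nat.card ↥(S ⊓ nm R) = p * Nat.card R := by
  obtain ⟨d, rfl⟩ : ∃ d, c' = d + 1 := ⟨c' - 1, by omega⟩
  rw [Nat.add_sub_cancel]
  have RS : R ≤ S := hR ▸ sup_le Gs_le (zpowers_le.2 hs)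
  have sR : s ∈ R := hR ▸ mem_sup_right (mem_zpowers s)
  have sN : s ∈ S ⊓ nm R := ⟨hs, le_normalizer sR⟩
  have le : Gs S d ≤ S ⊓ nm R := le_inf Gs_le
    (le_nm_of_comm fun g hg x hx => (h1.ge (Gs_comm0 hg (RS hx))).1)
  have e : (S ⊓ nm R) ⊓ Gs S 1 = Gs S d := le_antisymm (fun y hy => steps h h4 hs hs' (.inl hc') (by omega) hy.2
    (h1.le ⟨comm_mem_of_nm hy.1.2 sR, Gs_anti (by omega) (Gs_comm0 hy.2 hs)⟩)) (le_inf le (Gs_anti (by omega)))
  have e1 := Bas2.card1 h h4 inf_le_left sN hs'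
  have e2 := Bas2.card1 h h4 RS sR hs'
  rw [e] at e1
  rw [h1] at e2
  refine ⟨(sup_zpowers_eq (h.isPGroup.to_le inf_le_left) le e1.le sN fun c => hs' (Gs_anti (by omega) c)).symm, ?_⟩
  rw [e1, e2, Gs_card (m := n - (d + 1) + 1) h h4 (by omega) (by omega),
    Gs_card (m := n - (d + 1)) h h4 (by omega) (by omega), pow_succ']

end Cfsg.Agent.MXC
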