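import Cfsg.Agent.MXC.Bas1

set_option autoImplicit false
set_option linter.unusedSectionVars false

namespace Cfsg.Agent.MXC

open Subgroup Cfsg.Agent.H62 Cfsg.Agent.SR3 Cfsg.Agent.MCF
open scoped commutatorElement

universe u

variable {G : Type u} [Group G] [Finite G] {p n i j k m : ℕ} [hp : Fact p.Prime]
  {S E R N D K Q X : Subgroup G} {e g r s t u x y : G} {a b c l : ℤ}

namespace Bas3

theorem pg (h : MC S p n) : IsPGroup p (Gs S k) := h.isPGroup.to_le Gs_le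

theorem nXc (h : MC S p n) (h4 : 4 ≤ n) (hn : p + 2 ≤ n) : ∀ k, 1 ≤ k → KK S 1 ≤ KK S k :=
  hK_of h h4 fun hx => by have := (hx.num h h4).2.2; omega

theorem card_small (h : MC S p n) (h4 : 4 ≤ n) (hn : ¬ p + 2 ≤ n) :
    Nat.card (Gs S 1) ≤ p * p ^ (p - 1) := by
  have h2 := hp.out.two_le
  rw [Gs_card h h4 le_rfl (m := n - 1) (by omega), ← pow_succ']
  exact Nat.pow_le_pow_right (by omega) (by omega)

theorem ab_of (h1 : D ≤ X ⊓ ce X) (hx : x ∈ X) (h : D ⊔ zpowers x = X) : X ≤ ce X := by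
  have hx' : x ∈ ce X := by
    rw [← h]
    refine mem_ce.2 fun y hy => ?_
    have : D ⊔ zpowers x ≤ centralizer {x} := by
      refine sup_le (fun d hd => ?_) ?_
      · rw [mem_centralizer_singleton_iff]
        exact (mem_ce.1 (h1 hd).2 x hx).symm
      · rw [zpowers_le, mem_centralizer_singleton_iff]
    exact mem_centralizer_singleton_iff.1 (this hy)
  calc X = D ⊔ zpowers x := h.symm
    _ ≤ ce X := sup_le (fun d hd => (h1 hd).2) (zpowers_le.2 hx')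

end Bas3

theorem Gs_pow2 (h : MC S p n) (h4 : 4 ≤ n) (hk : 2 ≤ k) (hy : y ∈ Gs S k) : y ^ p ∈ Gs S (k + p - 1) := by
  have h2 := hp.out.two_le
  obtain ⟨y, hy, rfl⟩ := hy
  refine ⟨y ^ p, ?_, rfl⟩
  rw [GS_eq hk] at hy
  rw [GS_eq (by omega)]
  have := h.pow_mem_LL (k := k - 1) (by omega) hy
  rwa [show k - 1 + p - 1 = k + p - 1 - 1 by omega] at this

theorem ord_p (h : MC S p n) (h4 : 4 ≤ n) (hi : 1 ≤ i) (hx : x ∈ Gs S i) (hx' : x ∉ Gs S (i + 1)) (h1 : x ^ p = 1) :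
    n ≤ i + p := by
  by_contra hn
  obtain ⟨x, hx, rfl⟩ := hx
  have hx2 : x ∉ GS S (i + 1) := fun e => hx' ⟨x, e, rfl⟩
  have h1' : x ^ p = 1 := Subtype.ext h1
  rw [GS_eq (by omega), Nat.add_sub_cancel] at hx2
  rcases Nat.lt_or_ge i 2 with h2 | h2
  · obtain rfl : i = 1 := by omega
    exact (h.pow_KK (by omega) (Bas3.nXc h h4 (by omega)) hx hx2).2 (h1' ▸ one_mem _)
  · rw [GS_eq h2] at hx
    refine h.pow_not_mem (k := i - 1) (by omega) hx ?_ (by omega) (h1' ▸ one_mem _)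
    rwa [show i - 1 + 1 = i by omega]

theorem rank_le (h : MC S p n) (h4 : 4 ≤ n) (hn : p + 2 ≤ n) (h1 : X ≤ Gs S 1) (h2 : ∀ x ∈ X, x ^ p ∈ K) :
    Nat.card X ≤ p ^ (p - 1) * Nat.card K := by
  have k1 := h.card_le_of_le_KK hn (Bas3.nXc h h4 hn) (H := X.subgroupOf S) (U := K.subgroupOf S)
    (fun x hx => (coe_Gs (k := 1)).1 (h1 hx)) (fun x hx => h2 x hx)
  rw [Nat.card_congr (subgroupOfEquivOfLe (h1.trans Gs_le)).toEquiv] at k1
  refine k1.trans (Nat.mul_le_mul_left _ ?_)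
  exact Nat.card_le_card_of_injective (fun x : K.subgroupOf S => (⟨x.1.1, x.2⟩ : K))
    fun x y e => Subtype.ext (Subtype.ext (Subtype.mk.inj e))

theorem elem_le (h : MC S p n) (h4 : 4 ≤ n) (h1 : X ≤ Gs S 1) (h2 : X ≠ Gs S 1) (h3 : ∀ x ∈ X, x ^ p = 1) :
    Nat.card X ≤ p ^ (p - 1) := by
  by_cases hn : p + 2 ≤ n
  · simpa using rank_le h h4 hn h1 (K := ⊥) fun x hx => mem_bot.2 (h3 x hx)
  · exact Nat.le_of_mul_le_mul_left
      ((mul_card_le (Bas3.pg h) (lt_of_le_of_ne h1 h2)).trans (Bas3.card_small h h4 hn)) hp.out.pos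

theorem phi_le (h : MC S p n) (h4 : 4 ≤ n) (h1 : ¬ Gs S 1 ≤ ce (Gs S 1)) :
    Nat.card (Gs S 1) ≤ p ^ (p - 1) * Nat.card (Phi (Gs S 1)) := by
  by_cases hn : p + 2 ≤ n
  · exact rank_le h h4 hn le_rfl fun x hx => pow_mem_Phi (Bas3.pg h) hx
  · have hne : (⊥ : Subgroup G) < Phi (Gs S 1) := by
      refine bot_lt_iff_ne_bot.2 fun e => h1 fun a ha => mem_ce.2 fun b hb => ?_
      have := comm_mem_Phi (p := p) (Bas3.pg h) hb ha
      rw [e, mem_bot] at this
      exact commutatorElement_eq_one_iff_mul_comm.1 this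
    have k1 := mul_card_le ((Bas3.pg h).to_le Phi_le) hne
    rw [card_bot, mul_one] at k1
    refine (Bas3.card_small h h4 hn).trans ?_
    rw [mul_comm]
    exact Nat.mul_le_mul_left _ k1

/-- a non-abelian group of order `p³` has centre of order `p` -/
theorem card_cen_cube (hc : Nat.card X = p ^ 3) (h1 : ¬ X ≤ ce X) : Nat.card ↥(X ⊓ ce X) = p := by
  have hX : IsPGroup p X := IsPGroup.of_card hc
  have hne : X ≠ ⊥ := fun e => h1 (e ▸ bot_le)
  obtain ⟨z, -, hz1, hz⟩ := exists_Zo hX le_rfl le_normalizer hne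
  have hd : Nat.card ↥(X ⊓ ce X) ∣ p ^ 3 := hc ▸ card_dvd_of_le inf_le_left
  obtain ⟨k, hk, e⟩ := (Nat.dvd_prime_pow hp.out).1 hd
  have k0 : k ≠ 0 := by
    rintro rfl
    rw [pow_zero, card_eq_one] at e
    have := Zo_le hz
    rw [e, mem_bot] at this
    exact hz1 this
  have k2 : ¬ 2 ≤ k := fun k2 => by
    obtain ⟨x, hx, hx'⟩ := SetLike.not_le_iff_exists.1 h1
    refine h1 (Bas3.ab_of le_rfl hx (sup_zpowers_eq hX inf_le_left ?_ hx fun e => hx' e.2))
    rw [hc, e, ← pow_succ']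
    exact Nat.pow_le_pow_right hp.out.pos (by omega)
  obtain rfl : k = 1 := by omega
  rw [e, pow_one]

/-- a group which is not abelian is not cyclic modulo a central subgroup -/
theorem pow_mem_of_cen (hX : IsPGroup p X) (h1 : D ≤ X ⊓ ce X) (hc : Nat.card X ≤ p ^ 2 * Nat.card D)
    (h2 : ¬ X ≤ ce X) (hx : x ∈ X) : x ^ p ∈ D := by
  have hle : D ⊔ zpowers x ≤ X := sup_le (h1.trans inf_le_left) (zpowers_le.2 hx)
  have k1 := (mul_card_le hX (lt_of_le_of_ne hle fun e => h2 (Bas3.ab_of h1 hx e))).trans hc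
  rw [sq, mul_assoc] at k1
  exact pow_mem_of_card (hX.to_le hle) le_sup_left (Nat.le_of_mul_le_mul_left k1 hp.out.pos)
    (mem_sup_right (mem_zpowers x))

end Cfsg.Agent.MXC
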