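import Cfsg.Agent.MXC.Defs

set_option autoImplicit false
set_option linter.unusedSectionVars false

namespace Cfsg.Agent.MXC

open Subgroup Cfsg.Agent.H62 Cfsg.Agent.SR3 Cfsg.Agent.MCF
open scoped commutatorElement

universe u

variable {G : Type u} [Group G] [Finite G] {p n i j k m : ℕ} [hp : Fact p.Prime]
  {S E R N D K Q X : Subgroup G} {e g r s t u x y : G} {a b c l : ℤ}

namespace Fus1

/-- the strongly embedded subgroup of the automizer of an essential subgroup -/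
theorem se (hS : IsPGroup p S) (hF : (groupFusionSystem S).IsSaturated p)
    (hE : (groupFusionSystem S).IsEssential p E) : ∃ M : Subgroup G, (S ⊓ nm E) ⊔ ce E ≤ M ∧ ¬ nm E ≤ M ∧
      ∀ g ∈ nm E, ∀ x ∈ S ⊓ nm E, x ∉ E → g * x * g⁻¹ ∈ M → g ∈ M := by
  obtain ⟨hlt, hfn, hne⟩ := (H91.isEssential_iff hS hF).1 hE
  have hES := hlt.le
  obtain ⟨M, hM⟩ : ∃ M : Subgroup G, ∀ g, ∀ hg : g ∈ nm E,
      g ∈ M ↔ H91.cjAut E g hg ∈ H91.extAut (groupFusionSystem S) E :=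
    ⟨((H91.extAut (groupFusionSystem S) E).comap E.normalizerMonoidHom).map (nm E).subtype,
      fun g hg => mem_map_iff_mem (nm E).subtype_injective (x := ⟨g, hg⟩)⟩
  have hle := H91.extAut_le_autGroup (groupFusionSystem S) E
  have hle' := H91.autInducedBy_le_extAut (groupFusionSystem S) hlt
  refine ⟨M, fun g hg => ?_, fun e => hne (le_antisymm hle fun α hα => ?_), fun g hg x hx hx' e => ?_⟩
  · have hg' : g ∈ nm E := (sup_le inf_le_right (ce_le_nm le_rfl) : _ ≤ nm E) hg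
    exact (hM g hg').2 (hle' ((fus_mem_autS hg').2 hg))
  · obtain ⟨g, hg, rfl⟩ := (fus_mem_aut hES).1 hα
    exact (hM g hg).1 (e hg)
  · have hn := mul_mem (mul_mem hg hx.2) (inv_mem hg)
    have e1 := (hM _ hn).1 e
    rw [H93.cjAut_mul E (mul_mem hg hx.2) (inv_mem hg), H93.cjAut_mul E hg hx.2,
      H93.cjAut_inv E hg] at e1
    have := H91.finite_mulAut hES
    obtain ⟨k, hk⟩ := H91.pow_eq_one_of_mem_isPGroup (H91.isPGroup_autInducedBy hS E)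
      (H91.cjAut_mem_autInducedBy hx.1 hx.2)
    obtain ⟨a, ha, e2⟩ := ((H91.sat_sylIn hS hF hfn).of_le hle' hle).exists_conj_mem
      (H91.isPGroup_zpowers_of_pow ⟨k, by rw [conj_pow, hk]; simp⟩) (zpowers_le.2 e1)
    have h2 := H91.mem_extAut_of_not_le (H91.sat_receptive' hS hF hfn)
      (mul_mem (hle ha) ((fus_mem_aut hES).2 ⟨g, hg, rfl⟩)) fun h => hx'
      (h (H91.mem_extSub_of_conj_mem hx (by
        convert e2 _ (mem_zpowers _) using 1; group)))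
    exact (hM g hg).2 ((Subgroup.mul_mem_cancel_left _ ha).1 h2)

theorem lenm (hS : IsPGroup p S) (h1 : E ≤ X) (h2 : X ≤ S) (h3 : X ⊓ nm E ≤ E) : X ≤ E := by
  by_contra hn
  exact (H91.lt_normalizerIn (hS.to_le h2) (lt_of_le_not_ge h1 hn)).not_ge h3

end Fus1

theorem es_of (hS : IsPGroup p S) (hF : (groupFusionSystem S).IsSaturated p) (hE : (groupFusionSystem S).IsEssential p E) : Es p S E := by
  obtain ⟨hlt, hfn, -⟩ := (H91.isEssential_iff hS hF).1 hE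
  have hL := loc_of hS hF hfn
  obtain ⟨M, h1, h2, h3⟩ := Fus1.se hS hF hE
  refine ⟨hlt.le, hlt.not_ge, hL, fun K k1 k2 k3 x hx => ?_⟩
  by_contra hc
  exact h2 fun g hg => h3 g hg x ⟨hx.1, k1 hx.2⟩ hc (h1 (hL.fus_le k1 k2 k3 (conj_mem (k2 hg) hx.2)))

theorem Es.gt (h : Es p S E) (hS : IsPGroup p S) : ¬ S ⊓ nm E ≤ E :=
  fun e => h.lt (Fus1.lenm hS h.le le_rfl e)

theorem Es.st (h : Es p S E) (hD : D ≤ E) (i : nm E ≤ nm D) (t : Tr p (S ⊓ nm E) E D ⊥) :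
    S ⊓ St E D ≤ E := by
  have hE := h.loc.pg.to_le h.loc.le
  intro x hx
  refine h.rad (Cl (S ⊓ nm E) E ⊓ St E D) (inf_le_left.trans h.loc.Cl_le)
    (fun g hg => nm_inf (nm_Cl hg) (nm_St hg (i hg))) (fun g hg => ?_)
    ⟨hx.1, le_Cl ⟨hx.1, St_le_nm hD le_rfl hx.2⟩, hx.2⟩
  obtain ⟨m, hm⟩ := t g hg.1
  obtain ⟨k, hk⟩ := St_pow hE hD (pow_mem hg.2 (p ^ m)) hm
  exact ⟨m + k, by rwa [St_bot, ← pow_mul, ← pow_add] at hk⟩

theorem Es.ntr (h : Es p S E) (hS : IsPGroup p S) : ¬ Tr p (S ⊓ nm E) E E ⊥ :=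
  fun t => h.gt hS fun _ hx => h.st le_rfl le_rfl t ⟨hx.1, mem_St_self hx.2⟩

theorem Es.par (h : Es p S E) (hS : IsPGroup p S) (hc : Nat.card ↥(S ⊓ nm E) = p * Nat.card E) :
    Par p (S ⊓ nm E) E :=
  ⟨h.loc, hc, h.ntr hS⟩

theorem Es.chain (h : Es p S E) (C : ℕ → Subgroup G) (m : ℕ) (h0 : C 0 = E) (hm : C m = ⊥)
    (anti : ∀ i < m, C (i + 1) ≤ C i) (inv : ∀ i < m, nm E ≤ nm (C i)) (hx : x ∈ S)
    (st : ∀ i < m, x ∈ St (C i) (C (i + 1))) : x ∈ E := by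
  have hE := h.loc.pg.to_le h.loc.le
  have inv' : ∀ i ≤ m, nm E ≤ nm (C i) := fun i hi => by
    rcases hi.lt_or_eq with hi | rfl
    · exact inv i hi
    · exact fun _ _ => hm ▸ nm_bot
  have le : ∀ i ≤ m, C i ≤ E := fun i hi => by
    induction i with
    | zero => exact h0.le
    | succ i ih => exact (anti i hi).trans (ih (Nat.le_of_succ_le hi))
  have mem : ∀ y, y ∈ nm E ⊓ ⨅ i : Fin m, St (C i) (C (i + 1)) ↔
      y ∈ nm E ∧ ∀ i < m, y ∈ St (C i) (C (i + 1)) := fun y => by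
    rw [mem_inf, mem_iInf]
    exact and_congr_right fun _ => ⟨fun H i hi => H ⟨i, hi⟩, fun H i => H i i.2⟩
  have xn : x ∈ nm E := by
    rcases Nat.eq_zero_or_pos m with rfl | h1
    · rw [← h0, hm]; exact nm_bot
    · exact St_le_nm (le 1 h1) h0.ge (st 0 h1)
  refine h.rad (nm E ⊓ ⨅ i : Fin m, St (C i) (C (i + 1))) inf_le_left
    (le_nm_of_conj fun g hg y hy => ?_) (fun g hg => ?_) ⟨hx, (mem x).2 ⟨xn, st⟩⟩
  · obtain ⟨y1, y2⟩ := (mem y).1 hy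
    exact (mem _).2 ⟨mul_mem (mul_mem hg y1) (inv_mem hg), fun i hi =>
      conj_mem (nm_St (inv' i hi.le hg) (inv' (i + 1) hi hg)) (y2 i hi)⟩
  · obtain ⟨g1, g2⟩ := (mem g).1 hg
    have key : ∀ k ≤ m, ∃ l, g ^ p ^ l ∈ St E (C k) := fun k hk => by
      induction k with
      | zero => exact ⟨0, by rw [pow_zero, pow_one, h0]; exact mem_St_self g1⟩
      | succ k ih =>
        obtain ⟨l, hl⟩ := ih (Nat.le_of_succ_le hk)
        obtain ⟨l', hl'⟩ := St_pow hE (le k (Nat.le_of_succ_le hk)) hl (pow_mem (g2 k hk) (p ^ l))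
        exact ⟨l + l', by rwa [← pow_mul, ← pow_add] at hl'⟩
    obtain ⟨l, hl⟩ := key m le_rfl
    exact ⟨l, by rwa [hm, St_bot] at hl⟩

theorem Es.chain2 (h : Es p S E) (hD : D ≤ E) (i : nm E ≤ nm D) (hx : x ∈ S) (h1 : x ∈ St E D)
    (h2 : x ∈ ce D) : x ∈ E := by
  have hE := h.loc.pg.to_le h.loc.le
  refine h.rad (St E D ⊓ ce D) (inf_le_left.trans (St_le_nm hD le_rfl))
    (fun g hg => nm_inf (nm_St hg (i hg)) (nm_ce (i hg))) (fun g hg => ?_) ⟨hx, h1, h2⟩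
  obtain ⟨k, hk⟩ := St_pow (Z := ⊥) hE hD hg.1 (by rw [St_bot]; exact hg.2)
  exact ⟨k, by rwa [St_bot] at hk⟩

theorem Es.phi (h : Es p S E) : S ⊓ St E (Phi E) ≤ E :=
  h.rad _ (St_le_nm Phi_le le_rfl) (fun _ hg => nm_St hg (nm_Phi hg))
    fun _ hg => pow_mem_ce_of_Phi (h.loc.pg.to_le h.loc.le) hg

theorem Es.sq_le (h : Es p S E) (hS : IsPGroup p S) : p ^ 2 ≤ Nat.card E := by
  by_contra hc
  obtain ⟨k, hk⟩ := (hS.to_le h.le).exists_card_eq
  have h1 := hp.out.one_lt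
  have hk2 : k < 2 := (Nat.pow_lt_pow_iff_right h1).1 (hk ▸ not_le.1 hc)
  refine h.ntr hS (h.loc.tr_of_card le_rfl bot_le le_rfl (fun _ _ => nm_bot) ?_)
  rw [card_bot, mul_one, hk]
  calc p ^ k ≤ p ^ 1 := Nat.pow_le_pow_right h1.le (by omega)
    _ = p := pow_one p

theorem locG (hS : IsPGroup p S) (hF : (groupFusionSystem S).IsSaturated p) (hX : X ≤ S) (hn : S ≤ nm X) : Loc p S X := by
  have e : S ⊓ nm X = S := inf_eq_left.2 hn
  have := loc_of hS hF (P := X) ⟨hX, fun Q _ => card_le_of_le (inf_le_left.trans e.ge)⟩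
  rwa [e] at this

/-- a subgroup of a `p`-group containing `E` whose normalizer of `E` is `E` -/
theorem le_of_nm (hS : IsPGroup p S) (h1 : E ≤ X) (h2 : X ≤ S) (h3 : X ⊓ nm E ≤ E) : X ≤ E :=
  Fus1.lenm hS h1 h2 h3

end Cfsg.Agent.MXC
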