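import Cfsg.Agent.MXC.Bas2
import Cfsg.Agent.MXC.Fus1
import Cfsg.Agent.SR3.TLem

set_option autoImplicit false
set_option linter.unusedSectionVars false

namespace Cfsg.Agent.MXC

open Subgroup Cfsg.Agent.H62 Cfsg.Agent.SR3 Cfsg.Agent.MCF
open scoped commutatorElement

universe u

variable {G : Type u} [Group G] [Finite G] {p n i j k m : ℕ} [hp : Fact p.Prime]
  {S E R N D K Q X : Subgroup G} {e g r s t u x y : G} {a b c l : ℤ}

namespace CC1

theorem z2_ce (h : MC S p n) (h4 : 4 ≤ n) (h1 : R ≤ Cs S n) : Gs S (n - 2) ≤ ce R := fun z hz =>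
  mem_ce.2 fun x hx => (mem_ce.1 ((mem_Cs h h4).1 (h1 hx)).2 z hz).symm

theorem comm_one (hx : x ∈ ce X) (hy : y ∈ X) : ⁅y, x⁆ = 1 :=
  commutatorElement_eq_one_iff_mul_comm.2 (mem_ce.1 hx y hy)

/-- an element outside `γ₁` moves `γ_i / γ_{i+2}` -/
theorem nst (h : MC S p n) (h4 : 4 ≤ n) (hx : x ∈ S) (hx' : x ∉ Gs S 1) (hi : 1 ≤ i) (hi' : i + 3 ≤ n)
    (hc : ∀ y ∈ Gs S i, ⁅y, x⁆ ∈ Gs S (i + 2)) : False := by
  obtain ⟨y, hy, hy'⟩ := Gs_ex (k := i) h h4 (by omega)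
  exact hy' (step h h4 hx hx' hi hi' hy (hc y hy))

theorem upper (h : MC S p n) (h4 : 4 ≤ n) (h1 : R ≤ S) (hj : 1 ≤ j) (he : e ∈ R) (he' : e ∉ Gs S 1)
    (h2 : R ⊓ Gs S 1 = Gs S j) (hk : j + 1 ≤ k) (hk' : k + 2 ≤ n) :
    R ⊓ St R (Gs S (k + 1)) = Gs S k := by
  have hjR : Gs S j ≤ R := h2 ▸ inf_le_left
  refine le_antisymm (fun x hx => ?_) (le_inf ((Gs_anti (by omega)).trans hjR)
    ((Gs_St_S le_rfl).trans (St_anti h1)))
  by_cases hx1 : x ∈ Gs S 1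
  · exact steps h h4 (h1 he) he' (Or.inl hk') (by omega) hx1 ((mem_St.1 hx.2).2 e he)
  · exact (nst h h4 (h1 hx.1) hx1 hj (by omega) fun y hy =>
      Gs_anti (by omega) (comm_symm ((mem_St.1 hx.2).2 y (hjR hy)))).elim

theorem top_eq {v w : ℕ} (h : MC S p n) (h4 : 4 ≤ n) (h1 : R ≤ S) (h2 : R ⊓ Gs S 1 = Gs S j)
    (hv : 1 ≤ v) (hv' : v + 3 ≤ n) (hw : v + 2 ≤ w) (hw' : w ≤ j + v) :
    R ⊓ St (Gs S v) (Gs S w) = Gs S j := by
  have hjR : Gs S j ≤ R := h2 ▸ inf_le_left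
  refine le_antisymm (fun x hx => ?_) (le_inf hjR
    (le_St (Gs_le.trans nm_Gs) fun g hg x hx => Gs_anti hw' (Gs_comm hg hx)))
  by_cases hx1 : x ∈ Gs S 1
  · exact h2 ▸ ⟨hx.1, hx1⟩
  · exact (nst h h4 (h1 hx.1) hx1 hv hv' fun y hy =>
      Gs_anti hw (comm_symm ((mem_St.1 hx.2).2 y hy))).elim

/-- an element centralising `R` modulo a central subgroup fixes all commutators -/
theorem fix_comm (hD : D ≤ R ⊓ ce R) (hg : g ∈ St R D) : ⁅R, R⁆ ≤ centralizer {g} := by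
  refine commutator_le.2 fun x hx y hy => ?_
  rw [mem_centralizer_singleton_iff]
  have cx := hD ((mem_St.1 hg).2 x hx)
  have cy := hD ((mem_St.1 hg).2 y hy)
  have key : g * ⁅x, y⁆ * g⁻¹ = ⁅x, y⁆ := by
    rw [conj_comm, conj_eq_comm, conj_eq_comm]
    generalize ⁅g, x⁆ = z at cx
    generalize ⁅g, y⁆ = w at cy
    have e1 : ⁅z, w * y⁆ = 1 := by
      rw [← commutatorElement_inv, comm_one cx.2 (mul_mem cy.1 hy), inv_one]
    have e2 : ⁅x, w⁆ = 1 := comm_one cy.2 hx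
    have hc : ⁅x, y⁆ ∈ R := comm_mem_of_nm (le_normalizer hx) hy
    rw [comm_mul_left, e1, mul_one, comm_mul_right, e2, one_mul, ← mem_ce.1 cy.2 _ hc,
      mul_inv_cancel_right, ← mem_ce.1 cx.2 _ hc, mul_inv_cancel_right]
  exact (mul_inv_eq_iff_eq_mul.1 key).symm

end CC1

open CC1

theorem cc0 (h : MC S p n) (h4 : 4 ≤ n) (hX : Xc S n) (hR : Es p S R) (h1 : R ≤ Cs S n) (h2 : ¬ R ≤ Gs S 1) :
    ∃ j e, 2 ≤ j ∧ j + 2 ≤ n ∧ e ∈ R ∧ e ∉ Gs S 1 ∧ R ⊓ Gs S 1 = Gs S j ∧ R = Gs S j ⊔ zpowers e ∧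
      Nat.card R = p ^ (n - j + 1) := by
  obtain ⟨e, he, he'⟩ := SetLike.not_le_iff_exists.1 h2
  have hz : Gs S (n - 2) ≤ R := (le_inf Gs_le (z2_ce h h4 h1)).trans hR.cen
  obtain ⟨j, j1, j2, e1, e2, e3⟩ := inf_eq h h4 hR.le ((Gs_anti (by omega)).trans hz) he he'
  refine ⟨j, e, ?_, ?_, he, he', e1, e2, e3⟩
  · by_contra hj
    obtain rfl : j = 1 := by omega
    exact hX.not_le h h4 ((e1 ▸ inf_le_left : Gs S 1 ≤ R).trans h1)
  · by_contra hj
    obtain ⟨y, hy, hy'⟩ := Gs_ex (k := n - 2) h h4 (by omega)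
    refine hy' (Gs_anti (j := j) (by omega) ?_)
    exact e1 ▸ ⟨hz hy, Gs_anti (by omega) hy⟩

theorem cc_cen (h : MC S p n) (h4 : 4 ≤ n) (h1 : R ≤ Cs S n) (hj : 2 ≤ j) (hj' : j + 3 ≤ n) (he : e ∈ R) (he' : e ∉ Gs S 1)
    (h2 : R ⊓ Gs S 1 = Gs S j) : R ⊓ ce R = Gs S (n - 2) := by
  have hjR : Gs S j ≤ R := h2 ▸ inf_le_left
  have hS : R ≤ S := h1.trans Cs_le
  refine le_antisymm (fun x hx => ?_) (le_inf ((Gs_anti (by omega)).trans hjR) (z2_ce h h4 h1))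
  by_cases hx1 : x ∈ Gs S 1
  · refine steps h h4 (hS he) he' (Or.inl (by omega)) (by omega) hx1 (comm_symm ?_)
    rw [comm_one hx.2 he]
    exact one_mem _
  · refine (nst h h4 (hS hx.1) hx1 (i := j) (by omega) hj' fun y hy => ?_).elim
    rw [comm_one hx.2 (hjR hy)]
    exact one_mem _

theorem cc_nm (h : MC S p n) (h4 : 4 ≤ n) (h1 : R ≤ Cs S n) (hj : 3 ≤ j) (he : e ∈ R) (he' : e ∉ Gs S 1)
    (h2 : R ⊓ Gs S 1 = Gs S j) : S ⊓ nm R ≤ Cs S n := by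
  intro x hx
  by_contra hc
  have hS : R ≤ S := h1.trans Cs_le
  refine he' (Gs_anti (by omega) (stepC h h4 hx.1 hc (h1 he) (Gs_anti hj ?_)))
  rw [← h2]
  exact ⟨comm_symm (comm_mem_of_nm hx.2 he), Gs_comm0 (i := 0) (Gs_zero.ge (hS he)) hx.1⟩

theorem cc1 (h : MC S p n) (h4 : 4 ≤ n) (hX : Xc S n) (hR : Es p S R) (h1 : R ≤ Cs S n) (h2 : ¬ R ≤ Gs S 1) :
    Nat.card R ≤ p ^ 4 ∨ (n = 6 ∧ R = Cs S n) := by
  obtain ⟨j, e, j1, j2, he, he', e1, -, e3⟩ := cc0 h h4 hX hR h1 h2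
  obtain ⟨n6, ev, -⟩ := hX.num h h4
  have hp1 := hp.out.one_lt
  by_cases hj : n ≤ j + 3
  · exact Or.inl (e3 ▸ Nat.pow_le_pow_right hp1.le (by omega))
  by_cases h6 : n = 6 ∧ j = 2
  · refine Or.inr ⟨h6.1, eq_of_le_of_card_ge h1 ?_⟩
    rw [card_Cs h h4, e3, h6.1, h6.2]
  exfalso
  have hS : R ≤ S := hR.le
  have hjR : Gs S j ≤ R := e1 ▸ inf_le_left
  have cen := cc_cen h h4 h1 j1 (by omega) he he' e1
  -- the chain is invariant
  have inv1 : ∀ d k, k + d = n - 2 → j + 1 ≤ k → nm R ≤ nm (Gs S k) := by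
    intro d
    induction d with
    | zero =>
      intro k hk _ g hg
      obtain rfl : k = n - 2 := by omega
      rw [← cen]
      exact nm_inf hg (nm_ce hg)
    | succ d ih =>
      intro k hk hk' g hg
      rw [← upper h h4 hS (by omega) he he' e1 hk' (by omega)]
      exact nm_inf hg (nm_St hg (ih (k + 1) (by omega) (by omega) hg))
  have inv2 : ∀ k, j + 1 ≤ k → k + 2 ≤ n → nm R ≤ nm (Gs S k) := fun k h1 h2 =>
    inv1 (n - 2 - k) k (by omega) h1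
  have inv0 : nm R ≤ nm (Gs S j) := by
    intro g hg
    by_cases j3 : 3 ≤ j
    · rw [← top_eq (v := n - 3) (w := n) h h4 hS e1 (by omega) (by omega) (by omega) (by omega)]
      refine nm_inf hg (nm_St (inv2 _ (by omega) (by omega) hg) ?_)
      rw [Gs_bot h h4 le_rfl]
      exact nm_bot
    · obtain ⟨k, hk⟩ := ev
      rw [← top_eq (v := 3) (w := 5) h h4 hS e1 (by omega) (by omega) (by omega) (by omega)]
      exact nm_inf hg (nm_St (inv2 _ (by omega) (by omega) hg) (inv2 _ (by omega) (by omega) hg))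
  have inv : ∀ k, j ≤ k → k + 2 ≤ n → nm R ≤ nm (Gs S k) := fun k h1 h2 => by
    rcases h1.eq_or_lt with rfl | h1
    · exact inv0
    · exact inv2 k h1 h2
  have tr : ∀ d, j + d + 2 ≤ n → Tr p (S ⊓ nm R) R R (Gs S (j + d)) := by
    intro d
    induction d with
    | zero =>
      intro _
      refine hR.loc.tr_of_card le_rfl hjR le_rfl inv0 ?_
      rw [e3, Gs_card (m := n - j) h h4 (by omega) (by omega), pow_succ, mul_comm]
    | succ d ih =>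
      intro hd
      have hle : Gs S (j + d) ≤ R := (Gs_anti (by omega)).trans hjR
      exact hR.loc.trans le_rfl hle (ih (by omega)) (hR.loc.tr_of_card hle (Gs_anti (by omega))
        (inv _ (by omega) (by omega)) (inv _ (by omega) (by omega)) (Gs_card_le h h4))
  have tr2 : Tr p (S ⊓ nm R) R R (Gs S (n - 2)) := by
    have := tr (n - 2 - j) (by omega)
    rwa [show j + (n - 2 - j) = n - 2 by omega] at this
  have hz : Gs S (n - 2) ≤ R := (Gs_anti (by omega)).trans hjR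
  refine hR.ntr h.isPGroup ?_
  by_cases j3 : 3 ≤ j
  · refine hR.loc.trans le_rfl hz tr2 (hR.loc.tr_of_le hz bot_le (inv _ (by omega) (by omega))
      (fun _ _ => nm_bot) fun x hx => ?_)
    rw [St_bot]
    exact ((mem_Cs h h4).1 (cc_nm h h4 h1 j3 he he' e1 hx)).2
  · obtain rfl : j = 2 := by omega
    have nR : S ≤ nm R := le_nm_of_card h.isPGroup hS (by
      rw [e3, h.card, ← pow_succ', show n - 2 + 1 + 1 = n by omega])
    obtain ⟨c, c1, c2, ec⟩ := Gs_normal (N := ⁅R, R⁆) h h4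
      (commutator_le.2 fun x hx y hy => Gs_comm0 (i := 0) (Gs_zero.ge (hS hx)) (hS hy))
      fun g hg => TLem.nm_comm (nR hg) (nR hg)
    have c3 : c ≤ 3 := by
      by_contra hc
      refine nst h h4 (hS he) he' (i := 2) (by omega) (by omega) fun y hy => Gs_anti (j := c) (by omega) ?_
      exact ec ▸ commutator_mem_commutator (hjR hy) he
    intro g hg
    obtain ⟨m, hm⟩ := tr2 g hg
    have h3 : g ^ p ^ m ∈ St (Gs S (n - 2)) ⊥ := by
      rw [St_bot]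
      intro z hz
      have : z ∈ ⁅R, R⁆ := ec ▸ Gs_anti (by omega) hz
      exact mem_centralizer_singleton_iff.1 (fix_comm cen.ge hm this)
    obtain ⟨m', hm'⟩ := St_pow (h.isPGroup.to_le hS) hz hm h3
    exact ⟨m + m', by rwa [pow_add, pow_mul]⟩

end Cfsg.Agent.MXC
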