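import Cfsg.Agent.MXC.Fus1

set_option autoImplicit false
set_option linter.unusedSectionVars false

namespace Cfsg.Agent.MXC

open Subgroup Cfsg.Agent.H62 Cfsg.Agent.SR3 Cfsg.Agent.MCF
open scoped commutatorElement

universe u

variable {G : Type u} [Group G] [Finite G] {p n i j k m : ℕ} [hp : Fact p.Prime]
  {S E R N D K Q X : Subgroup G} {e g r s t u x y : G} {a b c l : ℤ}

namespace Fus2

theorem core (hs : H91.SylIn p N ⊤) (h2 : Q ≤ N) (hK : ∀ g, g ∈ nm K) (k4 : N ⊓ K ≤ Q) (hg : g ∈ nm (Q ⊔ K)) :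
    ∃ k ∈ K, g * k ∈ nm Q := by
  have hQ : IsPGroup p Q := hs.isPGroup.to_le h2
  have s1 := hs.inf_normal (N := K) fun a _ n hn => conj_mem (hK a) hn
  have s2 : H91.SylIn p Q (Q ⊔ K) := H91.sylIn_of_maximal le_sup_left hQ fun H hH h1 h3 x hx => by
    obtain ⟨a, ha, b, hb, rfl⟩ := (mem_sup_of_nm fun z _ => hK z).1 (h3 hx)
    have e := s1.eq_of_le (H := H ⊓ K) (hH.to_le inf_le_left) (le_inf (k4.trans h1) inf_le_right)
      (inf_le_inf_right _ le_top)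
    exact mul_mem ha (k4 (e.le ⟨(mul_mem_cancel_left (h1 ha)).1 hx, hb⟩))
  obtain ⟨a, ha, e⟩ := s2.exists_conj_mem (H := cj g Q) (hQ.map _) (cj_eq hg ▸ cj_mono g le_sup_left)
  obtain ⟨q, hq, k, hk, rfl⟩ := (mem_sup_of_nm fun z _ => hK z).1 ha
  have h3 : q * k * g ∈ nm Q := mem_nm_of_conj fun x hx => by
    have := e _ (conj_mem_cj g hx)
    rwa [show q * k * (g * x * g⁻¹) * (q * k)⁻¹ = q * k * g * x * (q * k * g)⁻¹ by group] at this
  refine ⟨g⁻¹ * k * g⁻¹⁻¹, conj_mem (hK _) hk, ?_⟩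
  have := mul_mem (inv_mem (le_normalizer hq)) h3
  rwa [show q⁻¹ * (q * k * g) = g * (g⁻¹ * k * g⁻¹⁻¹) by group] at this

end Fus2

theorem alp (hS : IsPGroup p S) (hF : (groupFusionSystem S).IsSaturated p) {M : Subgroup G} (hM : nm S ≤ M) (Φ : Subgroup G → Prop)
    (h1 : ∀ g ∈ M, ∀ Q, Φ Q → Φ (cj g Q))
    (h2 : ∀ R Q, (groupFusionSystem S).IsEssential p R → Q ≤ R → Φ Q → nm R ≤ M)
    (hQ : Q ≤ S) (hP : Φ Q) (hg : cj g Q ≤ S) : ∃ m ∈ M, m⁻¹ * g ∈ ce Q := by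
  have hf : H91.M (groupFusionSystem S) Q fun x => g * x * g⁻¹ :=
    H91.M_group_iff.2 ⟨hQ, fun x hx => hg (conj_mem_cj g hx), g, fun _ _ => rfl⟩
  obtain ⟨m, hm, e⟩ := H91.alperin_induction hS hF (P := Q)
    (C := fun f => ∃ m ∈ M, ∀ x ∈ Q, f x = m * x * m⁻¹)
    (fun f hf => ⟨1, one_mem _, fun x hx => by simp [hf x hx]⟩)
    (fun f f' R α _ ⟨m, hm, e⟩ hR hα h3 h4 => by
      have hR' : R ≤ S ∧ nm R ≤ M := by
        rcases hR with rfl | hR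
        · exact ⟨le_rfl, hM⟩
        · refine ⟨hR.1.1, h2 R (cj m Q) hR ?_ (h1 m hm Q hP)⟩
          rintro _ ⟨x, hx, rfl⟩
          exact (e x hx ▸ h3 x hx :)
      obtain ⟨w, hw, rfl⟩ := (fus_mem_aut hR'.1).1 hα
      refine ⟨w * m, mul_mem (hR'.2 hw) hm, fun x hx => ?_⟩
      rw [h4 x hx, H91.efn_cjAut _ _ _ (h3 x hx), e x hx]; group) hf
  refine ⟨m, hm, mem_ce.2 fun x hx => ?_⟩
  have := e x hx
  calc x * (m⁻¹ * g) = m⁻¹ * (m * x * m⁻¹) * g := by group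
    _ = _ := by rw [← this]; group

theorem ext0 (hS : IsPGroup p S) (hF : (groupFusionSystem S).IsSaturated p) (hE : (groupFusionSystem S).IsEssential p E) (h1 : E ≤ Q) (h2 : Q ≤ S ⊓ nm E)
    (hg : g ∈ nm E) (hg' : g ∈ nm (Q ⊔ ce E)) : ∃ c ∈ ce E, g * c ∈ nm Q := by
  have hP := hE.2.1
  have hq : Q ≤ nm (ce E) := fun x hx => nm_ce (h2 hx).2
  have hf : H91.M (groupFusionSystem S) E fun x => g * x * g⁻¹ :=
    H91.M_group_iff.2 ⟨hP.1, fun x hx => hP.1 (conj_mem hg hx), g, fun _ _ => rfl⟩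
  obtain ⟨f, hf', e⟩ := hf.extend (H91.mem_normalizer_iff_im_conj.1 hg)
    (H91.sat_receptive' hS hF hP) (R := Q) fun w hw => by
      obtain ⟨s, hs, c, hc, e⟩ := (mem_sup_of_nm hq).1 (conj_mem hg' (mem_sup_left hw))
      refine H91.mem_extSub.2 ⟨h2 hw, s, (h2 hs).1, fun x hx => ?_⟩
      have := mem_ce.1 hc _ (conj_mem hg hx)
      calc g * (w * x * w⁻¹) * g⁻¹ = g * w * g⁻¹ * (g * x * g⁻¹) * (g * w * g⁻¹)⁻¹ := by group
        _ = s * (c * (g * x * g⁻¹)) * c⁻¹ * s⁻¹ := by rw [← e]; group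
        _ = _ := by rw [← this]; group
  obtain ⟨-, h3, w, hw⟩ := H91.M_group_iff.1 hf'
  have hc : g⁻¹ * w ∈ ce E := mem_ce.2 fun x hx => by
    have := (hw x (mem_sup_left hx)).symm.trans (e x hx)
    calc x * (g⁻¹ * w) = g⁻¹ * (g * x * g⁻¹) * w := by group
      _ = _ := by rw [← this]; group
  refine ⟨_, hc, mem_nm_of_conj fun x hx => ?_⟩
  have h4 : g * (g⁻¹ * w) ∈ nm (Q ⊔ ce E) := mul_mem hg' (le_normalizer (mem_sup_right hc))
  rw [mul_inv_cancel_left] at h4 ⊢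
  have h5 : w * x * w⁻¹ ∈ S := hw x (mem_sup_right hx) ▸ h3 x (mem_sup_right hx)
  obtain ⟨q, hq', c, hc', e'⟩ := (mem_sup_of_nm hq).1 (conj_mem h4 (mem_sup_left hx))
  rw [← e'] at h5 ⊢
  have h6 : q ∈ S := (h2 hq').1
  exact mul_mem hq' (h1 (H91.centric_centralizerIn_le hE.1 ⟨(S.mul_mem_cancel_left h6).1 h5, hc'⟩))

theorem frat2 (hL : Loc p N E) (h2 : Q ≤ N) (k1 : ce E ≤ K) (k2 : K ≤ nm E) (k3 : nm E ≤ nm K)
    (k4 : N ⊓ K ≤ Q) (hg : g ∈ nm E) (hg' : g ∈ nm (Q ⊔ K)) : ∃ k ∈ K, g * k ∈ nm (Q ⊔ ce E) := by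
  have := normal_subgroupOf_of_le_normalizer (show nm E ≤ nm (ce E) from fun _ => nm_ce)
  set f := QuotientGroup.mk' ((ce E).subgroupOf (nm E))
  have hs : H91.SylIn p ((N.subgroupOf (nm E)).map f) ⊤ := by
    refine ⟨le_top, (hL.pg.comap_of_injective _ (nm E).subtype_injective).map f, fun e => hL.syl ?_⟩
    rw [relIndex_top_right, index_map, QuotientGroup.range_mk', index_top, mul_one,
      QuotientGroup.ker_mk'] at e
    refine e.trans (index_dvd_of_le fun x hx => ?_)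
    obtain ⟨a, ha, b, hb, e⟩ := (mem_sup_of_nm (fun _ hn => nm_ce (hL.norm hn))).1 hx
    have : x = ⟨a, hL.norm ha⟩ * ⟨b, ce_le_nm le_rfl hb⟩ := Subtype.ext e.symm
    exact this ▸ mul_mem (mem_sup_left ha) (mem_sup_right hb)
  have cn : ∀ (X : Subgroup G) (a : nm E), (a : G) ∈ nm X → f a ∈ nm ((X.subgroupOf (nm E)).map f) :=
    fun X a ha => mem_nm_of_conj (by
      rintro _ ⟨x, hx, rfl⟩
      exact ⟨a * x * a⁻¹, conj_mem (X := X) ha hx, by rw [map_mul, map_mul, map_inv]⟩)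
  obtain ⟨_, ⟨k, hk, rfl⟩, e⟩ := Fus2.core (Q := (Q.subgroupOf (nm E)).map f) (K := (K.subgroupOf (nm E)).map f)
    (g := f ⟨g, hg⟩) hs (map_mono (comap_mono h2))
    (fun a => by
      obtain ⟨a, rfl⟩ := QuotientGroup.mk'_surjective _ a
      exact cn K a (k3 a.2))
    (by
      rintro _ ⟨⟨a, ha, rfl⟩, b, hb, e⟩
      have e0 : b⁻¹ * a ∈ (ce E).subgroupOf (nm E) := QuotientGroup.eq.1 e
      have e' : (b : G)⁻¹ * a ∈ K := k1 e0
      exact ⟨a, k4 ⟨ha, (mul_mem_cancel_left (inv_mem hb)).1 e'⟩, rfl⟩)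
    (by
      rw [← Subgroup.map_sup, ← subgroupOf_sup (h2.trans hL.norm) k2]
      exact cn _ _ hg')
  have h4 : g * k ∈ nm E := mul_mem hg k.2
  refine ⟨k, hk, mem_nm_of_cj_le ?_⟩
  rw [cj_sup, cj_eq (nm_ce h4)]
  refine sup_le ?_ le_sup_right
  rintro _ ⟨x, hx, rfl⟩
  lift x to nm E using hL.norm (h2 hx)
  obtain ⟨n, hn, e⟩ := conj_mem e ⟨x, hx, rfl⟩
  rw [← map_mul, ← map_inv, ← map_mul, ← map_mul] at e
  have e := QuotientGroup.eq.1 e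
  have : (MulAut.conj (g * k : G)).toMonoidHom x = n * (n⁻¹ * (⟨g, hg⟩ * k * x * (⟨g, hg⟩ * k)⁻¹) : nm E) := by
    simp [mul_assoc]
  exact this ▸ mul_mem (mem_sup_left hn) (mem_sup_right e)

end Cfsg.Agent.MXC
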