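import Cfsg.Agent.MXC.Bas2
import Cfsg.Agent.MXC.Fus1

set_option autoImplicit false
set_option linter.unusedSectionVars false

namespace Cfsg.Agent.MXC

open Subgroup Cfsg.Agent.H62 Cfsg.Agent.SR3 Cfsg.Agent.MCF
open scoped commutatorElement

universe u

variable {G : Type u} [Group G] [Finite G] {p n i j k m : ℕ} [hp : Fact p.Prime]
  {S E R N D K Q X : Subgroup G} {e g r s t u x y : G} {a b c l : ℤ}

namespace TyB

theorem nm_com (h : g ∈ nm X) (h' : g ∈ nm K) : g ∈ nm ⁅X, K⁆ := by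
  rw [mem_nm_iff] at h h' ⊢
  rw [cj, map_commutator]
  exact congrArg₂ (fun A B : Subgroup G => ⁅A, B⁆) h h'

theorem big {d : ℕ} (h : MC S p n) (h4 : 4 ≤ n) (hR : Es p S R) (hs : s ∈ R) (hu : Un S n s) (h2 : 2 ≤ d)
    (hd : d + 3 ≤ n) (hi : R ⊓ Gs S 1 = Gs S d) (hc : Nat.card R = p ^ (n - d + 1)) : False := by
  have hRp := h.isPGroup.to_le hR.le
  have hle : Gs S d ≤ R := hi ▸ inf_le_left
  have c0 : Nat.card (Gs S d) = p ^ (n - d) := Gs_card h h4 (by omega) (by omega)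
  have c1 : Nat.card (Gs S (d + 1)) = p ^ (n - d - 1) := Gs_card h h4 (by omega) (by omega)
  have e1 : ⁅R, R⁆ = Gs S (d + 1) := by
    refine le_antisymm (commutator_le.2 fun x hx => (le_St_of_card_sq hRp ((Gs_anti (by omega)).trans hle)
      (hR.le.trans nm_Gs) ?_ hx).2) ?_
    · rw [hc, c1, ← pow_add]
      exact le_of_eq (congrArg _ (by omega))
    · rw [← comm_eq h h4 hR.le hs hu (by omega : 1 ≤ d)]
      exact commutator_mono hle le_rfl
  have n1 : ∀ k, nm R ≤ nm (Gs S (d + 1 + k)) := fun k => by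
    induction k with
    | zero => exact fun g hg => e1 ▸ nm_com hg hg
    | succ k ih =>
      rw [← add_assoc, ← comm_eq h h4 hR.le hs hu (by omega : 1 ≤ d + 1 + k)]
      exact fun g hg => nm_com (ih hg) hg
  have e2 : R ⊓ St (Gs S (d + 1)) (Gs S (d + 1 + 2)) = Gs S d := by
    refine eq_of_card' hRp (le_inf hle (le_St (Gs_le.trans nm_Gs) fun g hg x hx =>
      Gs_anti (by omega) (Gs_comm hg hx))) inf_le_left (by rw [hc, c0, pow_succ']) fun k => ?_
    obtain ⟨y, hy, hy'⟩ := Gs_ex (k := d + 1) h h4 (by omega)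
    exact hy' (hu.step h h4 (by omega) (by omega) hy (comm_symm ((k hs).2.2 y hy)))
  have n0 : nm R ≤ nm (Gs S d) := fun g hg => e2 ▸ nm_inf hg (nm_St (n1 0 hg) (n1 2 hg))
  obtain ⟨x, hx, hx'⟩ := Gs_ex (k := d - 1) h h4 (by omega)
  rw [show d - 1 + 1 = d by omega] at hx'
  refine hx' (hi ▸ ⟨hR.chain (fun i => Nat.casesOn i R fun i => Gs S (d + i)) (n - d + 1) rfl
    (Gs_bot h h4 (by omega)) (fun i _ => ?_) (fun i _ => ?_) (Gs_le hx) fun i _ => ?_, Gs_anti (by omega) hx⟩)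
  · rcases i with _ | i
    · exact hle
    · exact Gs_anti (by omega)
  · rcases i with _ | _ | i
    · exact le_rfl
    · exact n0
    · show nm R ≤ nm (Gs S (d + (i + 1)))
      rw [add_comm i, ← add_assoc]
      exact n1 i
  · rcases i with _ | i
    · exact St_anti hR.le (Gs_St_S (m := d) (by omega) hx)
    · exact S_St_Gs (by omega) (Gs_le hx)

end TyB

theorem tyb (h : MC S p n) (h4 : 4 ≤ n) (hR : Es p S R) (hs : s ∈ R) (hu : Un S n s) :
    Nat.card R = p ^ 2 ∨ (Nat.card R = p ^ 3 ∧ ¬ R ≤ ce R) := by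
  have hZ : Gs S (n - 1) ≤ R := by
    rw [← Gs_cen h h4]
    exact (inf_le_inf_left _ (centralizer_le hR.le)).trans hR.cen
  obtain ⟨d, h1, hd, hi, hg, hc⟩ := inf_eq h h4 hR.le hZ hs hu.n1
  have h2 : 2 ≤ d := by
    by_contra k
    obtain rfl : d = 1 := by omega
    rw [Gs_gen (k := 0) h h4 (Gs_zero.ge hu.mem) hu.n1, Gs_zero] at hg
    exact hR.lt hg.ge
  by_cases h3 : d + 3 ≤ n
  · exact (TyB.big h h4 hR hs hu h2 h3 hi hc).elim
  by_cases h5 : d + 1 = n
  · exact .inl (hc.trans (congrArg _ (by omega)))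
  have e : Nat.card R = p ^ 3 := hc.trans (congrArg _ (by omega))
  refine .inr ⟨e, fun k => ?_⟩
  have := card_le_sq h hu.mem hu.n1 hu.n2 hR.le (k hs)
  rw [e, Nat.pow_le_pow_iff_right hp.out.one_lt] at this
  omega

end Cfsg.Agent.MXC
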