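import Cfsg.Agent.MXC.Bas1
import Cfsg.Agent.S5316
import Cfsg.Agent.S5269

set_option autoImplicit false
set_option linter.unusedSectionVars false

namespace Cfsg.Agent.MXC

open Subgroup Cfsg.Agent.H62 Cfsg.Agent.SR3 Cfsg.Agent.MCF
open scoped commutatorElement

universe u

variable {G : Type u} [Group G] [Finite G] {p n i j k m : ℕ} [hp : Fact p.Prime]
  {S E R N D K Q X : Subgroup G} {e g r s t u x y : G} {a b c l : ℤ}

theorem size (h : MC S p n) (h5 : 5 ≤ p) (hn : 5 ≤ n) (hF : (groupFusionSystem S).IsSaturated p) (hE : (groupFusionSystem S).IsEssential p E) :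
    Nat.card E = p ^ 2 ∨ (Nat.card E = p ^ 3 ∧ ¬ E ≤ ce E) ∨ p ^ 4 ≤ Nat.card E := by
  by_cases c : (Nat.card ↥E = p ^ 2 ∧ Cfsg.IsElementaryAbelian p E) ∨
      (Nat.card ↥E = p ^ 3 ∧ Cfsg.IsExtraspecial p ↥E ∧ Monoid.exponent ↥E = p)
  · rcases c with c | ⟨c1, c2, -⟩
    · exact Or.inl c.1
    · refine Or.inr (Or.inl ⟨c1, fun e => ?_⟩)
      have e1 : center E = ⊤ := eq_top_iff.2 fun x _ => mem_center_iff.2 fun y => Subtype.ext (e x.2 y y.2)
      have e2 := c2.2
      rw [e1, card_top, c1] at e2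
      have := Nat.pow_right_injective hp.out.two_le (e2.trans (pow_one p).symm)
      omega
  · exact Or.inr (Or.inr (S5316.result p h5 h.isPGroup n h.card hn ((mc_iff h.card h.three_le).1 h) _ hF E hE c))

theorem nrm (h : MC S p n) (h5 : 5 ≤ p) (hn : 5 ≤ n) (hF : (groupFusionSystem S).IsSaturated p) (hE : (groupFusionSystem S).IsEssential p E) (hN : S ≤ nm E) :
    E = Gs S 1 ∨ E = Cs S n := by
  have hG : ∀ k, Ga S k = S.lowerCentralSeries k := fun k => top_subtype_lowerCentralSeries S k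
  have := (S5269.result p h.isPGroup n h.card (by omega) ((mc_iff h.card h.three_le).1 h) _ hF h5 (Gs S 1)
    (fun x => by
      rw [Gs_one, mem_Ka, ← hG, ← hG]
      refine and_congr_right fun _ => forall₂_congr fun y _ => ?_
      rw [← inv_mem_iff, commutatorElement_inv, commutatorElement_def]) E hE
    (normal_subgroupOf_of_le_normalizer hN)).2
  rcases this with e | e | ⟨e, -⟩
  · exact Or.inl e
  · obtain ⟨k, rfl⟩ : ∃ k, n = k + 4 := ⟨n - 4, by omega⟩
    refine Or.inr (e.trans ?_)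
    rw [Cs, show k + 4 - 3 = k + 1 by omega]
    ext x
    refine ⟨fun ⟨hx, h'⟩ => ⟨⟨x, hx⟩, (S5270.mem_KK_iff h).2 fun y hy =>
      Subtype.ext (h' y ⟨y, hy, rfl⟩), rfl⟩, ?_⟩
    rintro ⟨x, hx, rfl⟩
    refine ⟨x.2, ?_⟩
    rintro _ ⟨y, hy, rfl⟩
    exact congrArg Subtype.val ((S5270.mem_KK_iff h).1 hx y hy)
  · omega

end Cfsg.Agent.MXC
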