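import Cfsg.Agent.MXC.Bas2

set_option autoImplicit false
set_option linter.unusedSectionVars false

namespace Cfsg.Agent.MXC

open Subgroup Cfsg.Agent.H62 Cfsg.Agent.SR3 Cfsg.Agent.MCF
open scoped commutatorElement

universe u

variable {G : Type u} [Group G] [Finite G] {p n i j k m : ℕ} [hp : Fact p.Prime]
  {S E R N D K Q X : Subgroup G} {e g r s t u x y : G} {a b c l : ℤ}

theorem exists_a (h : MC S p n) (h4 : 4 ≤ n) (ht : t ∈ nm S) (k : ℕ) : ∃ a, Wt t (Gs S k) (Gs S (k + 1)) a :=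
  exists_wt (h.isPGroup.to_le Gs_le) (Gs_anti (Nat.le_succ k)) (Gs_card_le h h4) (nmS_Gs ht) (nmS_Gs ht)

theorem wt_uniq (h : MC S p n) (h4 : 4 ≤ n) (hj : j + 1 ≤ n) (h1 : Wt t (Gs S j) (Gs S (j + 1)) a)
    (h2 : Wt t (Gs S j) (Gs S (j + 1)) b) : (p : ℤ) ∣ a - b := by
  obtain ⟨x, hx, hx'⟩ := Gs_ex h h4 hj
  refine dvd_of_zpow_mem (Gs_pow h h4 hx) hx' ?_
  have := mul_mem (inv_mem (h1 x hx)) (h2 x hx)
  convert this using 1
  group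

/-- the weight is read off from one element of index `j` -/
theorem wt_of_mem (h : MC S p n) (h4 : 4 ≤ n) (h1 : Wt t (Gs S j) (Gs S (j + 1)) a) (hx : x ∈ Gs S j)
    (hx' : x ∉ Gs S (j + 1)) (h2 : t * x ^ b * t⁻¹ * (x ^ c)⁻¹ ∈ Gs S (j + 1)) (ht : t ∈ nm S) :
    (p : ℤ) ∣ a * b - c := by
  refine dvd_of_zpow_mem (Gs_pow h h4 hx) hx' ?_
  have := mul_mem (inv_mem (h1 _ (zpow_mem hx b))) h2
  convert this using 1
  group

theorem wt_ne (h : MC S p n) (h4 : 4 ≤ n) (hj : j + 1 ≤ n) (ht : t ∈ nm S) (h1 : Wt t (Gs S j) (Gs S (j + 1)) a) :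
    ¬ (p : ℤ) ∣ a := by
  rintro ⟨c, rfl⟩
  obtain ⟨x, hx, hx'⟩ := Gs_ex h h4 hj
  have h2 : x ^ ((p : ℤ) * c) ∈ Gs S (j + 1) := by
    rw [zpow_mul, zpow_natCast]
    exact zpow_mem (Gs_pow h h4 hx) c
  have h3 := mul_mem (h1 x hx) h2
  rw [inv_mul_cancel_right] at h3
  exact hx' ((mem_normalizer_iff.1 (nmS_Gs ht) x).2 h3)

theorem wt_chain (h : MC S p n) (h4 : 4 ≤ n) (ha : Wt t S (Gs S 1) a) (hb : Wt t (Gs S 1) (Gs S 2) b) (ht : t ∈ nm S)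
    (hj : j + 3 ≤ n ∨ ¬ Xc S n) : Wt t (Gs S (j + 1)) (Gs S (j + 2)) (b * a ^ j) := by
  induction j with
  | zero => simpa using hb
  | succ j ih =>
    by_cases hn : n ≤ j + 2
    · intro x hx
      rw [Gs_bot h h4 hn, mem_bot] at hx
      simp [hx]
    obtain ⟨k, hk⟩ := exists_a h h4 ht (j + 2)
    obtain ⟨y, hy, hy'⟩ := Gs_ex h h4 (k := j + 1) (by omega)
    obtain ⟨s, hs⟩ := exists_un h h4
    have e := wt_comm (ih (hj.imp_left fun e => by omega)) ha hk (Gs_anti (Nat.le_succ _)) Gs_le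
      (Gs_St_S le_rfl) (le_St (Gs_le.trans nm_Gs) fun g hg x hx => by
        have := Gs_comm1 h h4 (i := 1) (j := j + 1) (hj.imp_left fun e => by omega) hg hx
        rwa [show 1 + (j + 1) + 1 = j + 2 + 1 by omega] at this)
      (fun _ ha _ hb => Gs_comm0 ha hb) (Gs_le.trans (S_St_Gs le_rfl)) (S_St_Gs le_rfl) hy hs.mem
    have d := dvd_of_zpow_mem (Gs_pow h h4 (Gs_comm0 hy hs.mem))
      (fun e => hy' (hs.step h h4 (by omega) (by omega) hy e)) e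
    refine hk.congr (fun x hx => Gs_pow h h4 hx) ?_
    rw [← dvd_neg, neg_sub, pow_succ, ← mul_assoc]
    exact d

theorem wt_top (h : MC S p n) (h4 : 4 ≤ n) (hX : Xc S n) (ht : t ∈ nm S) (hb : Wt t (Gs S 1) (Gs S 2) b)
    (hc : Wt t (Gs S (n - 2)) (Gs S (n - 1)) c) : Wt t (Gs S (n - 1)) ⊥ (b * c) := by
  obtain ⟨m, rfl⟩ : ∃ m, n = m + 3 := ⟨n - 3, by omega⟩
  have hB : Gs S (m + 2 + 1) = ⊥ := Gs_bot h h4 le_rfl
  change Wt t (Gs S (m + 1)) (Gs S (m + 2)) c at hc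
  change Wt t (Gs S (m + 2)) ⊥ (b * c)
  rw [← hB]
  obtain ⟨k, hk⟩ := exists_a h h4 ht (m + 2)
  obtain ⟨x, hx, hx'⟩ := Gs_ex h h4 (k := 1) (by omega)
  obtain ⟨y, hy, hxy⟩ := hX.pair h h4 le_rfl (by omega) hx hx'
  change y ∈ Gs S (m + 1) at hy
  have c3 : ∀ a ∈ Gs S 1, ∀ b ∈ Gs S (m + 1), ⁅a, b⁆ ∈ Gs S (m + 2) := fun a ha b hb =>
    Gs_comm0' (Gs_le ha) hb
  have e := wt_comm hb hc hk (Gs_anti (Nat.le_succ _)) (Gs_anti (Nat.le_succ _))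
    (le_St (Gs_le.trans nm_Gs) fun g hg x hx => by
      have := Gs_comm hg hx
      rwa [show 2 + (m + 1) = m + 2 + 1 by omega] at this)
    (le_St (Gs_le.trans nm_Gs) fun g hg x hx => Gs_comm hg hx) c3
    (Gs_le.trans (S_St_Gs le_rfl)) (Gs_le.trans (S_St_Gs le_rfl)) hx hy
  have d := dvd_of_zpow_mem (Gs_pow h h4 (c3 x hx y hy)) (by rwa [hB, mem_bot]) e
  refine hk.congr (fun x hx => Gs_pow h h4 hx) ?_
  rw [← dvd_neg, neg_sub]
  exact d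

theorem pw (h : MC S p n) (h4 : 4 ≤ n) (hN : NA S n) : ∃ e s, 1 ≤ s ∧ Pw S n e s := by
  classical
  have ex : ∀ m, ¬ Gs S 1 ≤ St (Gs S 1) (Gs S m) → ∃ x ∈ Gs S 1, ∃ y ∈ Gs S 1, ⁅x, y⁆ ∉ Gs S m := by
    intro m hm
    by_contra hc
    push Not at hc
    exact hm (le_St (Gs_le.trans nm_Gs) hc)
  have P0 : ∃ x ∈ Gs S 1, ∃ y ∈ Gs S 1, ⁅x, y⁆ ∉ Gs S n :=
    ex n (by rw [Gs_bot h h4 le_rfl, St_bot]; exact hN.na)
  have hP : ∃ m, ∃ x ∈ Gs S 1, ∃ y ∈ Gs S 1, ⁅x, y⁆ ∉ Gs S m := ⟨n, P0⟩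
  have k3 : 3 ≤ Nat.find hP := by
    obtain ⟨x, hx, y, hy, e⟩ := Nat.find_spec hP
    by_contra hc
    exact e (Gs_anti (by omega) (Gs_comm hx hy))
  obtain ⟨k, hk⟩ : ∃ k, Nat.find hP = k + 1 + 1 := ⟨Nat.find hP - 2, by omega⟩
  have k1 : k + 2 ≤ n := hk ▸ Nat.find_min' hP P0
  have k2 : k + 3 ≤ n ∨ ¬ Xc S n := by
    by_cases hX : Xc S n
    · have := Nat.find_min' hP (ex _ (hN.nx hX))
      omega
    · exact Or.inr hX
  have c1 : ∀ x ∈ Gs S 1, ∀ y ∈ Gs S 1, ⁅x, y⁆ ∈ Gs S (k + 1) := by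
    have := Nat.find_min hP (m := k + 1) (by omega)
    push Not at this
    exact this
  have hR : ∃ e, ∃ i j, i + j + 1 + e = k ∧ ∃ x ∈ Gs S (i + 1), ∃ y ∈ Gs S (j + 1),
      ⁅x, y⁆ ∉ Gs S (k + 1 + 1) := ⟨k - 1, 0, 0, by omega, hk ▸ Nat.find_spec hP⟩
  obtain ⟨i, j, hij, x, hx, y, hy, hxy⟩ := Nat.find_spec hR
  have mx : ∀ i' j', i' + j' = i + j + 1 → ∀ x ∈ Gs S (i' + 1), ∀ y ∈ Gs S (j' + 1),
      ⁅x, y⁆ ∈ Gs S (k + 1 + 1) := by
    intro i' j' e x hx y hy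
    by_contra hc
    by_cases e0 : Nat.find hR = 0
    · exact hc (Gs_anti (by omega) (Gs_comm hx hy))
    · exact Nat.find_min hR (m := Nat.find hR - 1) (by omega) ⟨i', j', by omega, x, hx, y, hy, hc⟩
  generalize Nat.find hR = e at hij
  have key : ∀ t ∈ nm S, ∀ a : ℤ, Wt t S (Gs S 1) a → ∀ m, m + 3 ≤ n ∨ ¬ Xc S n →
      Wt t (Gs S (m + 1)) (Gs S (m + 2)) (a ^ (e + (m + 1))) := by
    intro t ht a ha m hm
    obtain ⟨b, hb⟩ := exists_a h h4 ht 1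
    have c2 : ∀ x ∈ Gs S (i + 1), ∀ y ∈ Gs S (j + 1), ⁅x, y⁆ ∈ Gs S (k + 1) := fun x hx y hy =>
      c1 x (Gs_anti (by omega) hx) y (Gs_anti (by omega) hy)
    have e1 := wt_comm (wt_chain h h4 ha hb ht (j := i) (k2.imp_left fun e => by omega))
      (wt_chain h h4 ha hb ht (j := j) (k2.imp_left fun e => by omega))
      (wt_chain h h4 ha hb ht (j := k) k2) (Gs_anti (Nat.le_succ _)) (Gs_anti (Nat.le_succ _))
      (le_St (Gs_le.trans nm_Gs) (mx (i + 1) j (by omega)))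
      (le_St (Gs_le.trans nm_Gs) (mx (j + 1) i (by omega))) c2
      (Gs_le.trans (S_St_Gs le_rfl)) (Gs_le.trans (S_St_Gs le_rfl)) hx hy
    have d := dvd_of_zpow_mem (Gs_pow h h4 (c2 x hx y hy)) hxy e1
    have na : ¬ (p : ℤ) ∣ a := wt_ne h h4 (j := 0) (by omega) ht (by rwa [Gs_zero])
    have nb : ¬ (p : ℤ) ∣ b := wt_ne h h4 (j := 1) (by omega) ht hb
    have pp : Prime (p : ℤ) := Nat.prime_iff_prime_int.1 hp.out
    rw [← hij, show b * a ^ i * (b * a ^ j) - b * a ^ (i + j + 1 + e) =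
      b * (a ^ (i + j) * (b - a ^ (e + 1))) by ring] at d
    have d' := ((pp.dvd_or_dvd ((pp.dvd_or_dvd d).resolve_left nb)).resolve_left
      fun e => na (pp.dvd_of_dvd_pow e))
    refine (wt_chain h h4 ha hb ht hm).congr (fun x hx => Gs_pow h h4 hx) ?_
    rw [show b * a ^ m - a ^ (e + (m + 1)) = (b - a ^ (e + 1)) * a ^ m by ring]
    exact d'.mul_right _
  have low : ∀ t ∈ nm S, ∀ a : ℤ, Wt t S (Gs S 1) a → ∀ j, 1 ≤ j → j + 2 ≤ n →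
      Wt t (Gs S j) (Gs S (j + 1)) (a ^ (e + j)) := by
    intro t ht a ha m h1 h2
    obtain ⟨m, rfl⟩ : ∃ m', m = m' + 1 := ⟨m - 1, by omega⟩
    exact key t ht a ha m (Or.inl h2)
  by_cases hX : Xc S n
  · refine ⟨e, 2 * e + n - 1, by omega, fun _ => rfl, fun e => absurd hX e, low, fun t ht a ha => ?_⟩
    have h1 := low t ht a ha (n - 2) (by omega) (by omega)
    rw [show n - 2 + 1 = n - 1 by omega] at h1
    have := wt_top h h4 hX ht (low t ht a ha 1 le_rfl (by omega)) h1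
    rwa [← pow_add, show e + 1 + (e + (n - 2)) = 2 * e + n - 1 by omega] at this
  · refine ⟨e, e + n - 1, by omega, fun e => absurd e hX, fun _ => rfl, low, fun t ht a ha => ?_⟩
    have := key t ht a ha (n - 2) (Or.inr hX)
    rwa [Gs_bot h h4 (k := n - 2 + 2) (by omega), show e + (n - 2 + 1) = e + n - 1 by omega,
      show n - 2 + 1 = n - 1 by omega] at this

theorem stab (h : MC S p n) (h4 : 4 ≤ n) (hL : Loc p S (Gs S 1)) (hx : x ∈ nm (Gs S 1))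
    (h1 : ∀ j, 1 ≤ j → j + 1 ≤ n → x ∈ St (Gs S j) (Gs S (j + 1))) : x ∈ S ⊔ ce (Gs S 1) := by
  let P : Subgroup G := nm (Gs S 1) ⊓ ⨅ j, ⨅ _ : 1 ≤ j, ⨅ _ : j + 1 ≤ n, St (Gs S j) (Gs S (j + 1))
  have mP : ∀ g, g ∈ P ↔ g ∈ nm (Gs S 1) ∧ ∀ j, 1 ≤ j → j + 1 ≤ n → g ∈ St (Gs S j) (Gs S (j + 1)) :=
    fun g => by simp only [P, mem_inf, mem_iInf]
  have key : ∀ g ∈ P, ∀ j, j + 1 ≤ n → ∃ m, g ^ p ^ m ∈ St (Gs S 1) (Gs S (j + 1)) := by
    intro g hg j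
    induction j with
    | zero => exact fun _ => ⟨0, by simpa using mem_St_self ((mP g).1 hg).1⟩
    | succ j ih =>
      intro hj
      obtain ⟨m, hm⟩ := ih (by omega)
      obtain ⟨m', hm'⟩ := St_pow (h.isPGroup.to_le Gs_le) (Gs_anti (by omega)) hm
        (((mP _).1 (pow_mem hg (p ^ m))).2 (j + 1) (by omega) hj)
      exact ⟨m + m', by rwa [pow_add, pow_mul]⟩
  have := hL.max (K := ce (Gs S 1)) (P := P) le_rfl (fun _ => nm_ce)
    (fun g hg => (mP g).2 ⟨nm_Gs hg, fun j _ _ => S_St_Gs le_rfl hg⟩) inf_le_left fun g hg => by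
      have := key g hg (n - 1) (by omega)
      rwa [Gs_bot h h4 (k := n - 1 + 1) (by omega), St_bot] at this
  exact this.trans (sup_le_sup_left inf_le_left _) ((mP x).2 ⟨hx, h1⟩)

/-- an element of `N(S)` of weight one on `S / γ₁` is induced by `S` on `γ₁` -/
theorem stab_of (h : MC S p n) (h4 : 4 ≤ n) (hL : Loc p S (Gs S 1)) (hN : NA S n) (ht : t ∈ nm S) (ha : Wt t S (Gs S 1) 1) :
    t ∈ S ⊔ ce (Gs S 1) := by
  obtain ⟨e, s, -, hP⟩ := pw h h4 hN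
  refine stab h h4 hL (nmS_Gs ht) fun j h1 h2 => St_of_wt ?_ (nmS_Gs ht)
  by_cases h3 : j + 2 ≤ n
  · simpa using hP.low t ht 1 ha j h1 h3
  · obtain rfl : j = n - 1 := by omega
    rw [Gs_bot h h4 (k := n - 1 + 1) (by omega)]
    simpa using hP.top t ht 1 ha

end Cfsg.Agent.MXC
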