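import Cfsg.Agent.MXC.CC1
import Cfsg.Agent.MXC.Bas3
import Cfsg.Agent.MXC.Wts
import Cfsg.Agent.MXC.Fus2
import Cfsg.Agent.MXC.TyB
import Cfsg.Agent.MXC.Wrap

/-! Project MXC (notes/MXC.md, section CC2). -/

set_option autoImplicit false
set_option linter.unusedSectionVars false

namespace Cfsg.Agent.MXC

open Subgroup Cfsg.Agent.H62 Cfsg.Agent.SR3 Cfsg.Agent.MCF
open scoped commutatorElement

universe u

variable {G : Type u} [Group G] [Finite G] {p n i j k m : ℕ} [hp : Fact p.Prime]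
  {S E R N D K Q X : Subgroup G} {e g r s t u x y : G} {a b c l : ℤ}

namespace CC2

theorem six (h : MC S p 6) (hX : Xc S 6) (h5 : 5 ≤ p) (hN : N ≤ Cs S 6) (h2 : Gs S 2 ≤ N) (hRN : R ≤ N)
    (he : e ∉ Gs S 1) (hR : R = Gs S 3 ⊔ zpowers e) (t1 : ∀ x ∈ R, t * x * t⁻¹ * x ∈ Gs S 4) (t2 : t ∈ St N R)
    (t3 : t ∈ ce (Gs S 4)) : False := by
  have h4 : 4 ≤ 6 := by norm_num
  have cN : N ≤ ce (Gs S 4) := fun x hx => ((mem_Cs h h4).1 (hN hx)).2
  have eR : e ∈ R := hR ▸ mem_sup_right (mem_zpowers e)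
  have eS : e ∈ S := Cs_le (hN (hRN eR))
  have R3 : Gs S 3 ≤ R := hR ▸ le_sup_left
  obtain ⟨x, hx, hx'⟩ := Gs_ex (k := 2) h h4 (by norm_num)
  obtain ⟨y, hy, z1⟩ := hX.pair h h4 (j := 2) (by norm_num) (by norm_num) hx hx'
  change y ∈ Gs S 3 at hy
  have hy' : y ∉ Gs S 4 := fun k => z1 (commutatorElement_eq_one_iff_mul_comm.2 (cN (h2 hx) y k).symm)
  have c4 : ⁅y, e⁆ ∈ Gs S 4 := Gs_comm0 hy eS
  have c5 : ⁅y, e⁆ ∉ Gs S 5 := fun k => hy' (step h h4 eS he (i := 3) (by norm_num) le_rfl hy k)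
  have Y4 : zpowers ⁅y, e⁆ ≤ Gs S 4 := zpowers_le.2 c4
  have sN : N ≤ St (Gs S 4) (zpowers ⁅y, e⁆) := cN.trans (ce_le_St le_rfl Y4)
  have nY : N ≤ nm (zpowers ⁅y, e⁆) := fun _ k => (sN k).1
  have g3 := Gs_gen h h4 hy hy'
  have N3 := R3.trans hRN
  have N4 := (Gs_anti (S := S) (Nat.le_succ 3)).trans N3
  have yR : y ∈ St R (zpowers ⁅y, e⁆) := by
    have : y ∈ St (Gs S 3) (zpowers ⁅y, e⁆) := by
      rw [← g3]
      exact mem_St_sup_zpowers (N4.trans nY) (nY (N3 hy)) (sN (N3 hy)) (by simp)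
    rw [hR]
    exact mem_St_sup_zpowers (N3.trans nY) (nY (hRN eR)) this (mem_zpowers _)
  have w := wt_comm (t := t) (A := N) (A' := R) (i := 1) (B := Gs S 3) (B' := Gs S 4) (j := -1) (W := Gs S 4)
    (Y := zpowers ⁅y, e⁆) (k := 1) (wt_one_of_St t2) (fun x hx => by simpa using t1 x (R3 hx))
    (wt_one_of_St (ce_le_St le_rfl Y4 t3)) hRN (Gs_anti (Nat.le_succ 3))
    (fun r hr => by
      rw [← g3]
      exact mem_St_sup_zpowers (N4.trans nY) (nY (N3 hy)) (sN (hRN hr)) (comm_symm (yR.2 r hr)))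
    (le_St_symm sN (N4.trans nY)) (fun a ha b hb => Gs_comm0' (Cs_le (hN ha)) hb) sN (N3.trans sN) (h2 hx) hy
  obtain ⟨k, hk⟩ := mem_zpowers_iff.1 w
  have z5 : ⁅x, y⁆ ∈ Gs S 5 := Gs_comm hx hy
  obtain ⟨l, rfl⟩ := dvd_of_zpow_mem (Gs_pow h h4 c4) c5 (hk ▸ zpow_mem z5 _)
  have cp := Gs_pow2 h h4 (by norm_num) c4
  rw [Gs_bot h h4 (by omega), mem_bot] at cp
  rw [zpow_mul, zpow_natCast, cp, one_zpow] at hk
  have zp := Gs_pow h h4 z5
  rw [Gs_bot h h4 le_rfl] at zp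
  have := Int.le_of_dvd (by norm_num) (Int.dvd_neg.2 (dvd_of_zpow_mem zp z1 (mem_bot.2 hk.symm)))
  omega

theorem big (h : MC S p (j + 3)) (h4 : 4 ≤ j + 3) (hX : Xc S (j + 3)) (h5 : 5 ≤ p) (hj : Odd j) (ht : t ∈ nm S)
    (eS : e ∈ S) (he : e ∉ Gs S 1) (t1 : t * e * t⁻¹ * e ∈ Gs S 1) (t3 : t ∈ ce (Gs S (j + 1))) : False := by
  obtain ⟨a, ha⟩ := exists_a h h4 ht 0
  obtain ⟨b, hb⟩ := exists_a h h4 ht 1
  have a1 := wt_of_mem (b := 1) (c := -1) h h4 ha (Gs_zero.ge eS) he (by simpa using t1) ht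
  rw [Gs_zero] at ha
  have hw := wt_chain (j := j) h h4 ha hb ht (Or.inl le_rfl)
  have fix : ∀ x ∈ Gs S (j + 1), ∀ Y : Subgroup G, t * x ^ (1 : ℤ) * t⁻¹ * (x ^ (1 : ℤ))⁻¹ ∈ Y := fun x hx Y => by
    rw [zpow_one, ← t3 x hx]
    simp
  obtain ⟨x, hx, hx'⟩ := Gs_ex (k := j + 1) h h4 (by omega)
  have w1 := wt_of_mem h h4 hw hx hx' (fix x hx _) ht
  obtain ⟨z, hz, hz'⟩ := Gs_ex (k := j + 2) h h4 le_rfl
  have w2 := wt_of_mem h h4 ((wt_top h h4 hX ht hb hw).mono le_rfl bot_le) hz hz'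
    (fix z (Gs_anti (Nat.le_succ _) hz) _) ht
  rw [← ZMod.intCast_zmod_eq_zero_iff_dvd] at a1 w1 w2
  push_cast at a1 w1 w2
  have a2 : (a : ZMod p) = -1 := by linear_combination a1
  rw [a2, hj.neg_one_pow] at w1 w2
  have two : ((2 : ℕ) : ZMod p) = 0 := by
    push_cast
    linear_combination (b - 1 : ZMod p) * w1 - w2
  have := Nat.le_of_dvd two_pos ((ZMod.natCast_eq_zero_iff _ _).1 two)
  omega

end CC2

theorem cc2 (h : MC S p n) (h4 : 4 ≤ n) (hX : Xc S n) (hF : (groupFusionSystem S).IsSaturated p) (hE : (groupFusionSystem S).IsEssential p R) (h1 : R ≤ Cs S n) (h2 : ¬ R ≤ Gs S 1) :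
    R = Cs S n := by
  obtain ⟨n6, ev, np⟩ := hX.num h h4
  have h5 : 5 ≤ p := by omega
  have p1 := hp.out.one_lt
  have hS := h.isPGroup
  have hR := es_of hS hF hE
  obtain ⟨j, e, j2, jn, eR, he, inf, gen, card⟩ := cc0 h h4 hX hR h1 h2
  refine ((cc1 h h4 hX hR h1 h2).resolve_left fun c4 => ?_).2
  rw [card, Nat.pow_le_pow_iff_right p1] at c4
  have cC : Cs S n ≤ ce (Gs S (n - 2)) := fun x hx => ((mem_Cs h h4).1 hx).2
  rcases jn.eq_or_lt with rfl | jn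
  · have ab : R ≤ ce R := by
      have a1 : Gs S j ≤ ce R := le_centralizer_iff.1 (h1.trans cC)
      have a2 : zpowers e ≤ ce R := le_centralizer_iff.1 (gen.le.trans (sup_le
        (a1.trans (centralizer_le (zpowers_le.2 eR))) (le_centralizer _)))
      exact gen.le.trans (sup_le a1 a2)
    rw [show j + 2 - j + 1 = 3 by omega] at card
    rcases size h h5 (by omega) hF hE with k | k | k
    · exact absurd (Nat.pow_right_injective p1 (card.symm.trans k)) (by decide)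
    · exact k.2 ab
    · rw [card, Nat.pow_le_pow_iff_right p1] at k
      omega
  obtain rfl : n = j + 3 := by omega
  rw [show j + 3 - j + 1 = 4 by omega] at card
  obtain ⟨gN, cN⟩ := nm_eq h h4 j2 (by omega) (hR.le eR) he (Or.inl (by omega)) gen inf
  have par := hR.par hS cN
  have cen : R ⊓ ce R = Gs S (j + 1) := cc_cen h h4 h1 j2 le_rfl eR he inf
  have NC := cc_nm h h4 h1 (by omega) eR he inf
  have hD : Gs S (j + 1) ≤ R := cen.ge.trans inf_le_left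
  have iD : nm R ≤ nm (Gs S (j + 1)) := fun _ k => cen ▸ nm_inf k (nm_ce k)
  have trD : Tr p (S ⊓ nm R) R (Gs S (j + 1)) ⊥ :=
    hR.loc.tr_of_le hD bot_le iD (fun _ _ => nm_bot) ((NC.trans cC).trans (St_bot _).ge)
  have cD : Nat.card R = p ^ 2 * Nat.card (Gs S (j + 1)) := by
    rw [card, Gs_card (m := 2) h h4 (by omega) rfl, ← pow_add]
  have pR := hS.to_le hR.le
  obtain ⟨t, tN, tC, tc, t1, -, t2⟩ := par.invol (hp.out.odd_of_ne_two (by omega)) le_rfl hD le_rfl iD cD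
    (le_St_of_card_sq pR hD (le_normalizer.trans iD) cD.le)
    (fun x hx => pow_mem_of_cen pR cen.ge cD.le (fun k => he (Gs_anti (by omega) (cen.le ⟨eR, k eR⟩))) hx)
    (fun k => hR.ntr hS (hR.loc.trans le_rfl hD k trD))
  have t3 : t ∈ ce (Gs S (j + 1)) := (St_bot _).le (trD.mem tC tc)
  by_cases j3 : j = 3
  · subst j3
    exact CC2.six h hX h5 NC (gN.ge.trans' le_sup_left) hR.loc.le he gen t1 t2 t3
  have eN : e ∈ S ⊓ nm R := hR.loc.le eR
  obtain ⟨m, hm, e1⟩ := alp hS hF (M := nm S) le_rfl (fun Q => p ^ 5 ≤ Nat.card Q ∧ ¬ Q ≤ Gs S 1)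
    (fun g hg Q hQ => ⟨(card_cj g Q).symm ▸ hQ.1, fun k => hQ.2 fun x hx => by
      simpa [mul_assoc] using conj_mem (inv_mem (nmS_Gs hg)) (k (conj_mem_cj g hx))⟩)
    (fun R' Q hR' le hQ => by
      exfalso
      have es := es_of hS hF hR'
      have c5 := hQ.1.trans (card_le_of_le le)
      have n1 : ¬ R' ≤ Gs S 1 := fun k => hQ.2 (le.trans k)
      by_cases k : R' ≤ Cs S (j + 3)
      · rcases cc1 h h4 hX es k n1 with k | k
        · have := (Nat.pow_le_pow_iff_right p1).1 (c5.trans k)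
          omega
        · omega
      · obtain ⟨s, hs, un⟩ := un_of h h4 es.le n1 k
        rcases tyb h h4 es hs un with k | ⟨k, -⟩ <;> rw [k, Nat.pow_le_pow_iff_right p1] at c5 <;> omega)
    (Q := S ⊓ nm R) (g := t) inf_le_left ⟨by rw [cN, card, ← pow_succ'], fun k => he (k eN)⟩
    ((cj_eq tN).le.trans inf_le_left)
  have act : ∀ x ∈ S ⊓ nm R, m * x * m⁻¹ = t * x * t⁻¹ := fun x hx => by
    calc _ = m * (x * (m⁻¹ * t)) * t⁻¹ := by group
      _ = _ := by rw [e1 x hx]; group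
  refine CC2.big h h4 hX h5 (Nat.not_even_iff_odd.1 fun k => ?_) hm (hR.le eR) he
    (by rw [act e eN]; exact Gs_anti (by omega) (t1 e eR)) fun x hx => ?_
  · rw [Nat.even_iff] at k ev
    omega
  · have := act x (hR.loc.le (hD hx))
    rw [← t3 x hx, mul_inv_cancel_right] at this
    exact (mul_inv_eq_iff_eq_mul.1 this).symm

end Cfsg.Agent.MXC
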