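import Cfsg.Agent.MXC.Defs
import Cfsg.Agent.MCE.Quad

set_option autoImplicit false
set_option linter.unusedSectionVars false

namespace Cfsg.Agent.MXC

open Subgroup Cfsg.Agent.H62 Cfsg.Agent.SR3 Cfsg.Agent.MCF
open scoped commutatorElement

universe u

section Ring

open Cfsg.Agent.H90 Cfsg.Agent.MCE

variable {p : ℕ} [hp : Fact p.Prime]

theorem torA_ring {R : Type*} [Ring R] [Algebra (ZMod p) R] {Γ : Type*} [Group Γ] {ρ : Γ →* R}
    [Module.Finite (ZMod p) R] (h5 : 5 ≤ p) (inj : Function.Injective ρ)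
    {H : Subgroup Γ} (se : SE p H) (hH : H ≠ ⊤) {x : Γ} (hx : x ∈ H) (x1 : x ≠ 1)
    (qa : (ρ x - 1) * (ρ x - 1) = 0) {l : ZMod p} (l0 : l ≠ 0) :
    ∃ f, MU (ρ x - 1) f ∧ (∃ g ∉ H, ρ g = 1 + f) ∧ ∃ h,
      ρ h = 1 + (l - 1) • ((ρ x - 1) * f) + (l⁻¹ - 1) • (f * (ρ x - 1)) := by
  obtain ⟨g, hg⟩ : ∃ g, g ∉ H := by
    by_contra hc
    push Not at hc
    exact hH (eq_top_iff.2 fun g _ => hc g)
  have px : ∃ k, x ^ p ^ k = 1 := pelt inj (N := 2) (by rw [sq, qa])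
  have gg : ρ g⁻¹ * ρ g = 1 := by rw [← map_mul, inv_mul_cancel, map_one]
  have e1 : ρ (g * x * g⁻¹) - 1 = ρ g * (ρ x - 1) * ρ g⁻¹ := by
    rw [mul_sub, sub_mul, mul_one, ← map_mul, ← map_mul, ← map_mul, mul_inv_cancel, map_one]
  obtain ⟨-, f, mu, q, hf⟩ := quad0 h5 inj se hx x1 (fun h => hg (se x hx x1 px g h)) qa (by
    rw [e1]; simp only [mul_assoc, e3 gg, one_mul, z3 qa, mul_zero])
  obtain ⟨y, hy⟩ := exists_of_inG q.one_add
  have ha := qe_of (p := p) qa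
  generalize ρ x - 1 = a at *
  let ι : ZMod p →ₙ+* R := (algebraMap (ZMod p) R : ZMod p →+* R)
  have hι : ∀ t, ι t = algebraMap (ZMod p) R t := fun t => rfl
  obtain ⟨φ, h0, h1, h2⟩ := mu.exists_hom' ι (fun t => (Algebra.commutes t a).symm)
    (fun t => (Algebra.commutes t f).symm) (by simp [hι]) (by simp [hι])
  have hφ : ρ.toHomUnits.range.comap φ = ⊤ := sl2_eq_top
    (fun t => InG.mem (by rw [h1 (xu t) t rfl, hι, ← Algebra.smul_def]; exact ha.mem t))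
    fun t => InG.mem (by rw [h2 (xl t) t rfl, hι, ← Algebra.smul_def]; exact q.mem t)
  let D : Matrix.SpecialLinearGroup (Fin 2) (ZMod p) :=
    ⟨!![l, 0; 0, l⁻¹], by simp [Matrix.det_fin_two, l0]⟩
  obtain ⟨h, hh⟩ : φ D ∈ ρ.toHomUnits.range := (hφ ▸ Subgroup.mem_top D :)
  refine ⟨f, mu, ⟨y, fun h => hf y h hy, hy⟩, h, ?_⟩
  have : ρ h = (φ D : R) := by rw [← hh]; rfl
  rw [this, h0]
  simp only [embFun, D, hι, ← Algebra.smul_def, ent00, ent01, ent10, ent11, zero_smul, add_zero]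
  module

theorem torA_pow {R : Type*} [Ring R] [Algebra (ZMod p) R] {Γ : Type*} [Group Γ] {ρ : Γ →* R}
    {x : Γ} (qa : (ρ x - 1) * (ρ x - 1) = 0) (m : ℕ) :
    ρ (x ^ m) = 1 + (m : ZMod p) • (ρ x - 1) := by
  rw [map_pow]
  induction m with
  | zero => simp
  | succ m ih =>
    have e : ρ x = 1 + (ρ x - 1) := by simp
    rw [pow_succ, ih, Nat.cast_succ, add_smul, one_smul]
    conv_lhs => rw [add_mul, one_mul, smul_mul_assoc]; enter [2, 2, 2]; rw [e]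
    rw [mul_add, qa, mul_one, add_zero]; abel

theorem torA_mod {W : Type*} [AddCommGroup W] [Module (ZMod p) W] [Finite W] {Γ : Type*} [Group Γ]
    (σ : Γ →* Module.End (ZMod p) W) {H : Subgroup Γ} (h5 : 5 ≤ p)
    (se : ∀ u ∈ H, σ u ≠ 1 → (∃ k, σ (u ^ p ^ k) = 1) → ∀ g, g * u * g⁻¹ ∈ H → g ∈ H)
    (hK : ∀ g, σ g = 1 → g ∈ H) (hH : H ≠ ⊤) {r : Γ} (hr : r ∈ H) (r1 : σ r ≠ 1)
    (q : (σ r - 1) * (σ r - 1) = 0) {l : ℤ} (l0 : (l : ZMod p) ≠ 0) (l1 : (l : ZMod p) ≠ 1) :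
    ∃ t y, y ∉ H ∧ σ (t * r * t⁻¹ * (r ^ l ^ 2)⁻¹) = 1 ∧
      (∀ x, σ r x = x → σ t (σ t x - x) = l • (σ t x - x)) ∧
      (∀ x, σ r x = x → ∃ u, σ t x - x = σ r u - u) ∧
      (∃ v, σ r v ≠ v ∧ σ t (l • v) = v) ∧ ∀ x, σ r x = x → σ t x = x → σ y x = x := by
  have : Module.Finite (ZMod p) W := Module.Finite.of_finite
  let π := σ.toHomUnits.rangeRestrict
  have sπ : Function.Surjective π := σ.toHomUnits.rangeRestrict_surjective
  let ρ : σ.toHomUnits.range →* Module.End (ZMod p) W :=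
    (Units.coeHom _).comp σ.toHomUnits.range.subtype
  have inj : Function.Injective ρ := Units.val_injective.comp Subtype.val_injective
  have hρ : ∀ g, ρ (π g) = σ g := fun g => rfl
  have k1 : ∀ g, π g = 1 ↔ σ g = 1 := fun g => by
    rw [← hρ, map_eq_one_iff ρ inj]
  have mH : ∀ g, π g ∈ H.map π ↔ g ∈ H := fun g => by
    refine ⟨?_, fun h => ⟨g, h, rfl⟩⟩
    rintro ⟨h, hh, e⟩
    have := mul_mem hh (hK (h⁻¹ * g) ((k1 _).1 (by rw [map_mul, map_inv, e, inv_mul_cancel])))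
    rwa [mul_inv_cancel_left] at this
  have se' : SE p (H.map π) := by
    rintro _ ⟨u, hu, rfl⟩ u1 ⟨k, hk⟩ g hg
    obtain ⟨g, rfl⟩ := sπ g
    rw [← map_inv, ← map_mul, ← map_mul, mH] at hg
    exact (mH g).2 (se u hu (fun e => u1 ((k1 u).2 e)) ⟨k, (k1 _).1 (by rw [map_pow, hk])⟩ g hg)
  have hH' : H.map π ≠ ⊤ := fun e => hH (eq_top_iff.2 fun g _ => (mH g).1 (e ▸ mem_top _))
  obtain ⟨f, mu, ⟨y, hy, ey⟩, t, et⟩ := torA_ring h5 inj se' hH' ((mH r).2 hr)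
    (fun e => r1 ((k1 r).1 e)) q l0
  obtain ⟨y, rfl⟩ := sπ y
  obtain ⟨t, rfl⟩ := sπ t
  rw [hρ] at mu ey et
  rw [hρ] at et
  have pw := torA_pow (p := p) q (l.natAbs ^ 2)
  have er : σ r = 1 + (σ r - 1) := by simp
  have a0 : σ r - 1 ≠ 0 := sub_ne_zero.2 r1
  have ar : ∀ x, σ r x - x = (σ r - 1) x := fun x => rfl
  generalize σ r - 1 = a at *
  set c : ZMod p := (l : ZMod p) with hc
  have ta : σ t * a = c • a := by
    rw [et]
    simp only [add_mul, one_mul, smul_mul_assoc, mu.efe, mul_assoc, mu.ee, mul_zero, smul_zero]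
    module
  have at' : a * σ t = c⁻¹ • a := by
    rw [et]
    simp only [mul_add, mul_one, mul_smul_comm, z3 mu.ee, e4' mu.efe, smul_zero]
    module
  have tf : σ t * (f * a) = c⁻¹ • (f * a) := by
    rw [et]
    simp only [add_mul, one_mul, smul_mul_assoc, mul_assoc, z3 mu.ff, mul_zero, smul_zero,
      e4' mu.efe]
    module
  have zs : ∀ x : W, l • x = c • x := fun x => (Int.cast_smul_eq_zsmul (ZMod p) l x).symm
  have fx : ∀ x, σ r x = x → σ t x - x = a ((c - 1) • f x) := fun x hx => by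
    have : a x = 0 := by rw [← ar, hx, sub_self]
    rw [et]
    simp [this]
  refine ⟨t, y, fun h => hy ((mH y).2 h), ?_, fun x hx => ?_, fun x hx => ⟨_, (fx x hx).trans (ar _).symm⟩,
    ?_, fun x hx ht => ?_⟩
  · have e1 : r ^ l ^ 2 = r ^ l.natAbs ^ 2 := by
      rw [← zpow_natCast, Nat.cast_pow, Int.natAbs_sq]
    have e2 : ((l.natAbs ^ 2 : ℕ) : ZMod p) = c ^ 2 := by
      rw [← Int.cast_natCast, Nat.cast_pow, Int.natAbs_sq, Int.cast_pow]
    have e3 : σ (t * r) = σ (r ^ l ^ 2 * t) := by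
      rw [map_mul, map_mul, e1, pw, er, e2, mul_add, add_mul, mul_one, one_mul, ta, smul_mul_assoc, at',
        smul_smul]
      congr 2
      field_simp
    have e4 : t * r * t⁻¹ * (r ^ l ^ 2)⁻¹ = t * r * (r ^ l ^ 2 * t)⁻¹ := by group
    rw [e4, map_mul, e3, ← map_mul, mul_inv_cancel, map_one]
  · rw [fx x hx, zs, ← Module.End.mul_apply, ta, LinearMap.smul_apply]
  · obtain ⟨u, hu⟩ : ∃ u, a u ≠ 0 := by
      by_contra h
      push Not at h
      exact a0 (LinearMap.ext h)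
    refine ⟨(f * a) u, fun e => hu ?_, ?_⟩
    · rw [← sub_eq_zero, ar, ← Module.End.mul_apply, e4' mu.efe] at e
      exact e
    · rw [zs, map_smul, ← Module.End.mul_apply, tf, LinearMap.smul_apply, smul_smul,
        mul_inv_cancel₀ l0, one_smul]
  · have h1 := fx x hx
    rw [ht, sub_self, map_smul, eq_comm, smul_eq_zero] at h1
    have h2 : a (f x) = 0 := h1.resolve_left (sub_ne_zero.2 l1)
    have h3 : f x = 0 := by
      rw [← mu.fef, Module.End.mul_apply, Module.End.mul_apply, h2, map_zero]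
    rw [ey]
    simp [h3]

end Ring

variable {G : Type u} [Group G] [Finite G] {p n i j k m : ℕ} [hp : Fact p.Prime]
  {S E R N D K Q X : Subgroup G} {e g r s t u x y : G} {a b c l : ℤ}

theorem torA {V L M : Subgroup G} (h5 : 5 ≤ p) (hV : V ≤ ce V) (hV' : ∀ v ∈ V, v ^ p = 1)
    (hL : L ≤ nm V) (se : ∀ u ∈ L, u ∈ M → u ∉ ce V → (∃ k, u ^ p ^ k ∈ ce V) →
      ∀ g ∈ L, g * u * g⁻¹ ∈ M → g ∈ M) (hK : L ⊓ ce V ≤ M) (hM : ¬ L ≤ M) (hr : r ∈ L)
    (hrM : r ∈ M) (hr' : r ∉ ce V) (q : ∀ v ∈ V, ⁅r, ⁅r, v⁆⁆ = 1) (hl : Prim p l) :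
    ∃ t ∈ L, ∃ y ∈ L, y ∉ M ∧ t * r * t⁻¹ * (r ^ l ^ 2)⁻¹ ∈ ce V ∧
      (∀ x ∈ V, Commute r x → t * ⁅t, x⁆ * t⁻¹ = ⁅t, x⁆ ^ l) ∧
      (∀ x ∈ V, Commute r x → ∃ u ∈ V, ⁅t, x⁆ = ⁅r, u⁆) ∧
      (∃ v ∈ V, ¬ Commute r v ∧ t * v ^ l * t⁻¹ = v) ∧
      ∀ x ∈ V, Commute r x → Commute t x → Commute y x := by
  let _ : CommGroup V := { (inferInstance : Group V) with
    mul_comm := fun a b => Subtype.ext (hV b.2 a a.2) }
  have : Module (ZMod p) (Additive V) := AddCommGroup.zmodModule fun v =>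
    (Subtype.ext (hV' _ (Additive.toMul v).2) : (Additive.toMul v) ^ p = 1)
  let κ : Additive V → G := fun x => (Additive.toMul x : V)
  have κi : Function.Injective κ := Subtype.val_injective
  have κm : ∀ x, κ x ∈ V := fun x => (Additive.toMul x).2
  have κs : ∀ x ∈ V, ∃ w, κ w = x := fun x hx => ⟨Additive.ofMul ⟨x, hx⟩, rfl⟩
  have κsub : ∀ x w, κ (x - w) = κ x * (κ w)⁻¹ := fun x w => by
    rw [sub_eq_add_neg]; rfl
  have κz : ∀ (z : ℤ) x, κ (z • x) = κ x ^ z := fun z x => rfl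
  let φ : L →* MulAut V := V.normalizerMonoidHom.comp (inclusion hL)
  let σ : L →* Module.End (ZMod p) (Additive V) :=
    { toFun := fun g => AddMonoidHom.toZModLinearMap p (MonoidHom.toAdditive (φ g).toMonoidHom)
      map_one' := by rw [map_one]; rfl
      map_mul' := fun a b => by rw [map_mul]; rfl }
  have hσ : ∀ (g : L) x, κ (σ g x) = g * κ x * (g : G)⁻¹ := fun g x => rfl
  have hc : ∀ (g : L) x, κ (σ g x - x) = ⁅(g : G), κ x⁆ := fun g x => by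
    rw [κsub, hσ, commutatorElement_def]
  have fix : ∀ (g : L) x, σ g x = x ↔ Commute (g : G) (κ x) := fun g x => by
    rw [← κi.eq_iff, hσ, mul_inv_eq_iff_eq_mul]; rfl
  have k1 : ∀ g : L, σ g = 1 ↔ (g : G) ∈ ce V := fun g => by
    constructor
    · intro e x hx
      obtain ⟨w, rfl⟩ := κs x hx
      exact ((fix g w).1 (by rw [e]; rfl)).eq.symm
    · intro e
      exact LinearMap.ext fun w => (fix g w).2 (e _ (κm w)).symm
  have l1 : (l : ZMod p) ≠ 1 := fun e => by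
    have := (hl.dvd_iff 1).1 ((ZMod.intCast_zmod_eq_zero_iff_dvd _ _).1 (by simp [e]))
    have := Nat.le_of_dvd one_pos this
    omega
  obtain ⟨t, y, hy, h1, h2, h3, ⟨v, h4, h4'⟩, h6⟩ := torA_mod σ (H := M.subgroupOf L) (r := ⟨r, hr⟩) h5
    (fun u hu u1 ⟨k, hk⟩ g hg => se u u.2 hu (fun e => u1 ((k1 u).2 e)) ⟨k, (k1 _).1 hk⟩ g g.2 hg)
    (fun g e => hK ⟨g.2, (k1 g).1 e⟩) (fun e => hM (subgroupOf_eq_top.1 e)) hrM
    (fun e => hr' ((k1 _).1 e)) (LinearMap.ext fun w => κi (by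
      have := hc ⟨r, hr⟩ (σ ⟨r, hr⟩ w - w)
      rw [hc ⟨r, hr⟩ w] at this
      exact this.trans (q _ (κm w)))) hl.ne_zero l1
  refine ⟨t, t.2, y, y.2, hy, (k1 _).1 h1, fun x hx e => ?_, fun x hx e => ?_,
    ⟨κ v, κm v, fun e => h4 ((fix _ v).2 e), ?_⟩, fun x hx e e' => ?_⟩
  · obtain ⟨w, rfl⟩ := κs x hx
    have := congrArg κ (h2 w ((fix _ w).2 e))
    rwa [hσ, κz, hc] at this
  · obtain ⟨w, rfl⟩ := κs x hx
    obtain ⟨u, hu⟩ := h3 w ((fix _ w).2 e)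
    have := congrArg κ hu
    rw [hc, hc] at this
    exact ⟨κ u, κm u, this⟩
  · have := congrArg κ h4'
    rwa [hσ, κz] at this
  · obtain ⟨w, rfl⟩ := κs x hx
    exact (fix y w).1 (h6 w ((fix _ w).2 e) ((fix t w).2 e'))

end Cfsg.Agent.MXC
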