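import Cfsg.Agent.MXC.SE
import Cfsg.Agent.MXC.TorA

set_option autoImplicit false
set_option linter.unusedSectionVars false

namespace Cfsg.Agent.MXC

open Subgroup Cfsg.Agent.H62 Cfsg.Agent.SR3 Cfsg.Agent.MCF
open scoped commutatorElement

universe u

variable {G : Type u} [Group G] [Finite G] {p n i j k m : ℕ} [hp : Fact p.Prime]
  {S E R N D K Q X : Subgroup G} {e g r s t u x y : G} {a b c l : ℤ}

theorem Co.tor (h : Co p n S E) (hr : r ∈ Gs S 1) (h1 : r ∈ nm E) (h2 : r ∉ E)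
    (q : ∀ v ∈ Zo p E, ⁅r, ⁅r, v⁆⁆ = 1) {L : Subgroup G} (l1 : L ≤ nm E) (l2 : nm E ≤ nm L)
    (l3 : ce E ≤ L) (l4 : r ∈ L) (hl : Prim p l) : ∃ t ∈ L, To p S E l r t := by
  have VE : Zo p E ≤ E := Zo_le.trans inf_le_left
  have cV : ce E ≤ ce (Zo p E) := centralizer_le VE
  have hL : L ≤ nm (Zo p E) := fun _ hg => nm_Zo (l1 hg)
  obtain ⟨t, tL, y, -, yM, e0, e1, e2, ⟨v, hv, e3, e4⟩, e5⟩ := torA (V := Zo p E) (L := L) (M := nm (W0 p S)) h.h5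
    (fun _ hv => cV (Zo_le hv).2) (fun _ hv => (mem_Zo.1 hv).2) hL
    (fun u hu hM h3 h5 g hg h6 => h.se2 (l1 hu) hM h3 h5 (l1 hg) h6) (inf_le_right.trans (ce_le_nm h.W_le))
    (fun e => h.nW fun g hg => h.se (Gs_le hr) h1 h2 hg (e (conj_mem (l2 hg) l4))) l4 (nm_Wc (le_normalizer hr))
    (fun e => h2 (h.ceV ⟨Gs_le hr, e⟩)) q hl
  have nK : nm E ≤ nm (L ⊓ ce (Zo p E)) := fun g hg => nm_inf (l2 hg) (nm_ce (nm_Zo hg))
  obtain ⟨m, m1, m2, m3⟩ := h.ext (E ⊔ zpowers r) (L ⊓ ce (Zo p E)) le_sup_left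
    (sup_le (le_inf (h.le.trans Gs_le) le_normalizer) (zpowers_le.2 ⟨Gs_le hr, h1⟩))
    (fun e => h2 (e (mem_sup_right (mem_zpowers r)))) (le_inf l3 cV) (inf_le_left.trans l1) nK
    (fun x hx => mem_sup_left (h.ceV ⟨hx.1, hx.2.2⟩)) t (l1 tL) (mem_nm_of_cj_le (by
      rw [cj_sup, cj_sup, cj_eq (l1 tL), cj_eq (nK (l1 tL))]
      refine sup_le (sup_le (le_sup_left.trans le_sup_left) ?_) le_sup_right
      rw [cj, MonoidHom.map_zpowers, zpowers_le]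
      change t * r * t⁻¹ ∈ _
      rw [← inv_mul_cancel_right (t * r * t⁻¹) (r ^ l ^ 2)]
      exact mul_mem (mem_sup_right ⟨L.mul_mem (L.mul_mem (L.mul_mem tL l4) (L.inv_mem tL)) (L.inv_mem (L.zpow_mem l4 _)), e0⟩)
        (mem_sup_left (mem_sup_right (zpow_mem (mem_zpowers r) _)))))
  have k : ∀ x ∈ Zo p E, m * x * m⁻¹ = t * x * t⁻¹ := fun x hx => by
    calc m * x * m⁻¹ = m * (x * (m⁻¹ * t)) * t⁻¹ := by group
      _ = _ := by rw [mem_ce.1 m3.2 x hx]; group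
  have k' : ∀ x ∈ Zo p E, ⁅m, x⁆ = ⁅t, x⁆ := fun x hx => by
    rw [commutatorElement_def, k x hx, commutatorElement_def]
  refine ⟨m, by simpa using mul_mem tL (inv_mem m3.1), m1, m2, fun x hx e => ?_, fun x hx e => ?_, fun e => yM ?_,
    v, hv, e3, by rw [k _ (zpow_mem hv l), e4]⟩
  · rw [k' x hx, k _ (comm_mem_of_nm (hL tL) hx), e1 x hx e]
  · rw [k' x hx]
    exact e2 x hx e
  · refine ce_le_nm le_rfl (mem_ce.2 fun x hx => (e5 x (h.W_le hx) ?_ ?_).symm)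
    · exact mem_ce.1 (Zo_le (W0_le h.mc h.h4 hx)).2 r hr
    · have := k x (h.W_le hx)
      rw [← mem_ce.1 e x hx, mul_inv_cancel_right, eq_mul_inv_iff_mul_eq] at this
      exact this.symm

theorem To.wtZ (ht : To p S E l r t) (h : Co p n S E) (hr : r ∈ S) (hW : W0 p S = Gs S (n - 1)) :
    Wt t (Gs S (n - 1)) ⊥ l := by
  have h4 := h.h4
  have t1 : t ∈ nm (Gs S (n - 1)) := hW ▸ nm_Wc ht.tG
  obtain ⟨z, hz, e⟩ : ∃ z ∈ Gs S (n - 1), ¬ z * t = t * z := by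
    have := ht.nW
    rw [hW, mem_ce] at this
    simpa using this
  have hb : Gs S (n - 1 + 1) = ⊥ := Gs_bot h.mc h4 (by omega)
  have := Gs_gen h.mc h4 (comm_mem_of_nm t1 hz) (by
    rw [hb, mem_bot, commutatorElement_eq_one_iff_mul_comm]
    exact fun e' => e e'.symm)
  rw [← this, hb]
  refine wt_of_gen nm_bot nm_bot ?_
  rw [ht.eig z (h.Z_le hz) (mem_ce.1 ((Gs_cen h.mc h4).ge hz).2 r hr), mul_inv_cancel]
  exact one_mem _

end Cfsg.Agent.MXC
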