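import Cfsg.Agent.MXC.Bas3
import Cfsg.Agent.MXC.Wts
import Cfsg.Agent.MXC.Tor

set_option autoImplicit false
set_option linter.unusedSectionVars false

namespace Cfsg.Agent.MXC

open Subgroup Cfsg.Agent.H62 Cfsg.Agent.SR3 Cfsg.Agent.MCF
open scoped commutatorElement

universe u

variable {G : Type u} [Group G] [Finite G] {p n i j k m : ℕ} [hp : Fact p.Prime]
  {S E R N D K Q X : Subgroup G} {e g r s t u x y : G} {a b c l : ℤ}

namespace CoreN

theorem cast_eq (h : (p : ℤ) ∣ a - b) : (a : ZMod p) = b := by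
  have := (ZMod.intCast_zmod_eq_zero_iff_dvd _ _).2 h
  push_cast at this
  exact sub_eq_zero.1 this

/-- the arithmetic of the weights -/
theorem arith (h5 : 5 ≤ p) (hl : Prim p l) {d : ℕ} (h1 : (p : ℤ) ∣ b * a ^ (m + 1) - l)
    (h2 : (p : ℤ) ∣ b * a ^ m * 1 - 1 ∨ (p : ℤ) ∣ b * a ^ m * 1 - l) (h3 : (p : ℤ) ∣ b * a ^ j * l - 1)
    (hd : j + d = m + 1) : d = 2 ∨ p + 1 ≤ d := by
  have l0 := hl.ne_zero
  have e1 := cast_eq h1
  have e3 := cast_eq h3
  push_cast at e1 e3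
  have e4 : (l : ZMod p) ^ 2 = (a : ZMod p) ^ d := by
    rw [← hd, pow_add] at e1
    linear_combination (-(l : ZMod p)) * e1 + (a : ZMod p) ^ d * e3
  have P : ∀ k : ℕ, (l : ZMod p) ^ k = 1 → p - 1 ∣ k := fun k hk => IsPrimitiveRoot.dvd_of_pow_eq_one hl k hk
  rcases h2 with h2 | h2
  · have e2 := cast_eq h2
    push_cast at e2
    have e5 : (a : ZMod p) = l := by
      rw [pow_succ] at e1
      linear_combination e1 - (a : ZMod p) * e2
    rw [e5] at e4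
    rcases le_total d 2 with hd2 | hd2
    · obtain ⟨k, hk⟩ := Nat.exists_eq_add_of_le hd2
      have : (l : ZMod p) ^ k = 1 := by
        apply mul_left_cancel₀ (pow_ne_zero d l0)
        rw [← pow_add, ← hk, e4, mul_one]
      have := P k this
      rcases Nat.eq_zero_or_pos k with k0 | k0
      · omega
      · have := Nat.le_of_dvd k0 this
        omega
    · obtain ⟨k, hk⟩ := Nat.exists_eq_add_of_le hd2
      have : (l : ZMod p) ^ k = 1 := by
        apply mul_left_cancel₀ (pow_ne_zero 2 l0)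
        rw [← pow_add, ← hk, ← e4, mul_one]
      have := P k this
      rcases Nat.eq_zero_or_pos k with k0 | k0
      · omega
      · have := Nat.le_of_dvd k0 this
        omega
  · have e2 := cast_eq h2
    push_cast at e2
    have e5 : (a : ZMod p) = 1 := by
      apply mul_left_cancel₀ l0
      rw [pow_succ] at e1
      linear_combination e1 - (a : ZMod p) * e2
    rw [e5, one_pow] at e4
    have := Nat.le_of_dvd two_pos (P 2 e4)
    omega

end CoreN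

theorem Co.coreN (h : Co p n S E) (hX : ¬ Xc S n) (hl : Prim p l) (hr : r ∈ Gs S 2)
    (ht : To p S E l r t) (ht' : t ∈ nm S) (hW : W0 p S = Gs S (n - 1)) : False := by
  have hm := h.mc
  have h4 := h.h4
  have h5 := h.h5
  obtain ⟨m, rfl⟩ : ∃ m, n = m + 4 := ⟨n - 4, by omega⟩
  obtain ⟨a, ha⟩ := exists_a hm h4 ht' 0
  obtain ⟨b, hb⟩ := exists_a hm h4 ht' 1
  rw [Gs_zero] at ha
  have w : ∀ j, Wt t (Gs S (j + 1)) (Gs S (j + 2)) (b * a ^ j) := fun j =>
    wt_chain hm h4 ha hb ht' (Or.inr hX)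
  have hbot : ∀ k, m + 4 ≤ k → Gs S k = ⊥ := fun k hk => Gs_bot hm h4 hk
  have hZ : Wt t (Gs S (m + 3)) (Gs S (m + 3 + 1)) l := by
    rw [hbot (m + 3 + 1) le_rfl]
    exact ht.wtZ h (Gs_le hr) hW
  have e1 : (p : ℤ) ∣ b * a ^ (m + 1 + 1) - l := wt_uniq hm h4 (j := m + 3) le_rfl (w (m + 2)) hZ
  have hC : Gs S 1 = Cs S (m + 4) := not_not.1 hX
  have hce : ∀ g ∈ Gs S 1, ∀ x ∈ Gs S (m + 2), x * g = g * x := fun g hg x hx =>
    mem_ce.1 ((mem_Cs hm h4).1 (hC ▸ hg)).2 x hx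
  have hV : ∀ x ∈ Gs S (m + 2), x ∈ Zo p E := fun x hx => by
    have c1 : x ∈ ce E := mem_ce.2 fun g hg => (hce g (h.le hg) x hx).symm
    refine mem_Zo.2 ⟨⟨h.cen ⟨Gs_le hx, c1⟩, c1⟩, ?_⟩
    have := Gs_pow2 hm h4 (by omega) hx
    rwa [hbot _ (by omega), mem_bot] at this
  have hr1 : r ∈ Gs S 1 := Gs_anti (by omega) hr
  have e2 : (p : ℤ) ∣ b * a ^ (m + 1) * 1 - 1 ∨ (p : ℤ) ∣ b * a ^ (m + 1) * 1 - l := by
    obtain ⟨x, hx, hx'⟩ := Gs_ex hm h4 (k := m + 2) (by omega)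
    have hy : ⁅t, x⁆ ∈ Gs S (m + 2) := comm_mem_of_nm (nmS_Gs ht') hx
    by_cases hy' : ⁅t, x⁆ ∈ Gs S (m + 2 + 1)
    · refine Or.inl (wt_of_mem hm h4 (w (m + 1)) hx hx' ?_ ht')
      rw [zpow_one]
      exact hy'
    · refine Or.inr (wt_of_mem hm h4 (w (m + 1)) hy hy' ?_ ht')
      rw [zpow_one, ht.eig x (hV x hx) (hce r hr1 x hx).symm, mul_inv_cancel]
      exact one_mem _
  obtain ⟨v, hv, hrv, ev⟩ := ht.neg
  have v1 : v ∈ Gs S 1 := h.le (Zo_le hv).1
  have v0 : v ≠ 1 := fun e => hrv (e ▸ Commute.one_right r)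
  obtain ⟨i, hi, vi, vi'⟩ := Gs_idx hm h4 (Gs_le v1) v0
  obtain ⟨j, rfl⟩ : ∃ j, i = j + 1 := by
    rcases i with _ | j
    · exact absurd v1 vi'
    · exact ⟨j, rfl⟩
  have e3 : (p : ℤ) ∣ b * a ^ j * l - 1 := by
    refine wt_of_mem hm h4 (w j) vi vi' ?_ ht'
    rw [ev, zpow_one, mul_inv_cancel]
    exact one_mem _
  rcases CoreN.arith h5 hl (d := m + 2 - j) e1 e2 e3 (by omega) with e | e
  · have := Gs_comm1 hm h4 (Or.inr hX) hr vi
    rw [hbot _ (by omega), mem_bot] at this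
    exact hrv (commutatorElement_eq_one_iff_commute.1 this)
  · have := ord_p hm h4 (by omega) vi vi' (mem_Zo.1 hv).2
    omega

end Cfsg.Agent.MXC
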