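import Cfsg.Agent.MXC.Defs
import Cfsg.Agent.H62.FrobSum
import Cfsg.Agent.MCE.Ten

set_option autoImplicit false
set_option linter.unusedSectionVars false

namespace Cfsg.Agent.MXC

open Subgroup Cfsg.Agent.H62 Cfsg.Agent.SR3 Cfsg.Agent.MCF
open scoped commutatorElement

universe u

variable {G : Type u} [Group G] [Finite G] {p n i j k m : ℕ} [hp : Fact p.Prime]
  {S E R N D K Q X : Subgroup G} {e g r s t u x y : G} {a b c l : ℤ}

theorem frob {H : Type*} [Group H] [Finite H] {w : ℕ} {ρ : H →* Matrix (Fin w) (Fin w) (ZMod p)}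
    {s : H} (inj : Function.Injective ρ) (h1 : s ^ p = 1) (hi : ¬ p ∣ (zpowers s).index)
    (hN : normalizer (zpowers s : Set H) ≤ zpowers s) (h2 : (ρ s - 1) ^ (p - 1) = 0) :
    zpowers s = ⊤ := by
  classical
  have hP : IsPGroup p (zpowers s) := by
    rintro ⟨_, k, rfl⟩
    refine ⟨1, Subtype.ext ?_⟩
    change (s ^ k) ^ p ^ 1 = 1
    rw [pow_one, ← zpow_natCast, ← zpow_mul, mul_comm, zpow_mul, zpow_natCast, h1, one_zpow]
  have hC : normalizer ((hP.toSylow hi : Subgroup H) : Set H) ≤ centralizer ((hP.toSylow hi : Subgroup H) : Set H) :=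
    hN.trans (by
      rintro _ ⟨i, rfl⟩ _ ⟨j, rfl⟩
      exact (Commute.zpow_zpow_self s j i).eq)
  have hc := MonoidHom.ker_transferSylow_isComplement' _ hC
  obtain ⟨K, hK⟩ : ∃ K, K = (MonoidHom.transferSylow _ hC).ker := ⟨_, rfl⟩
  have nK : K.Normal := hK ▸ inferInstance
  rw [← hK, IsPGroup.toSylow_coe] at hc
  have hord : orderOf s ∣ p := orderOf_dvd_of_pow_eq_one h1
  have hf : ∀ i, i < p - 1 → ∀ k ∈ K, k * s ^ (i + 1) = s ^ (i + 1) * k → k = 1 := by
    intro i hi k hk hki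
    have e1 : s ∈ zpowers (s ^ (i + 1)) := mem_zpowers_pow_iff.2
      (Nat.Coprime.coprime_dvd_right hord ((Nat.coprime_comm.1
        ((Nat.Prime.coprime_iff_not_dvd hp.out).2 (Nat.not_dvd_of_pos_of_lt (by omega) (by omega))))))
    have e2 : Commute k s := by
      obtain ⟨m, hm⟩ := mem_zpowers_iff.1 e1
      rw [← hm]
      exact Commute.zpow_right hki m
    refine disjoint_def.1 hc.disjoint hk (hN (centralizer_le_normalizer _ ?_))
    rintro _ ⟨j, rfl⟩
    exact (e2.zpow_right j).eq.symm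
  have := Fintype.ofFinite K
  have hs := sum_eq_card_of_fpf ρ K (h := s) (n := p - 1) (by rw [normalizer_eq_top]; trivial) hf (by
    rw [Nat.sub_add_cancel hp.out.one_lt.le, ← h2, ← MCE.geom_char (F := ZMod p) p]
    simp only [map_pow])
  have hcard : (Fintype.card K : ZMod p) ≠ 0 := by
    rw [Ne, ZMod.natCast_eq_zero_iff, ← Nat.card_eq_fintype_card, ← hc.index_eq_card]
    exact hi
  have hb : K = ⊥ := eq_bot_iff.2 fun k hk => inj (by
    have e1 : ρ k * ∑ k : K, ρ k = ∑ k : K, ρ k := by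
      rw [Finset.mul_sum, ← Equiv.sum_comp (Equiv.mulLeft (⟨k, hk⟩ : K)) fun k : K => ρ k]
      exact Finset.sum_congr rfl fun x _ => (map_mul ρ _ _).symm
    rw [hs, ← nsmul_one, mul_smul_comm, mul_one, ← Nat.cast_smul_eq_nsmul (ZMod p),
      ← Nat.cast_smul_eq_nsmul (ZMod p)] at e1
    rw [map_one]
    exact smul_right_injective _ hcard e1)
  have := hc.sup_eq_top
  rwa [hb, bot_sup_eq] at this

end Cfsg.Agent.MXC
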