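import Cfsg.Agent.MXC.Bas1

set_option autoImplicit false
set_option linter.unusedSectionVars false

namespace Cfsg.Agent.MXC

open Subgroup Cfsg.Agent.H62 Cfsg.Agent.SR3 Cfsg.Agent.MCF
open scoped commutatorElement Matrix

universe u

variable {G : Type u} [Group G] [Finite G] {p n i j k m : ℕ} [hp : Fact p.Prime]
  {S E R N D K Q X : Subgroup G} {e g r s t u x y : G} {a b c l : ℤ}

theorem rep (h : MC S p n) (h4 : 4 ≤ n) {a w : ℕ} (ha : 1 ≤ a) (hb : a + w ≤ n) {M : Subgroup G} (h1 : M ≤ nm (Gs S a))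
    (h2 : M ≤ nm (Gs S (a + w))) (hc : ∀ x ∈ Gs S a, ∀ y ∈ Gs S a, ⁅x, y⁆ ∈ Gs S (a + w))
    (he : ∀ x ∈ Gs S a, x ^ p ∈ Gs S (a + w)) :
    ∃ (κ : G → Fin w → ZMod p) (ρ : M →* Matrix (Fin w) (Fin w) (ZMod p)),
      MCE.Crd (fun k => Gs S (a + k)) κ ∧
      (∀ g : M, ∀ y ∈ Gs S a, ρ g *ᵥ κ y = κ (g * y * (g : G)⁻¹)) ∧
      (∀ g : M, ρ g = 1 ↔ (g : G) ∈ St (Gs S a) (Gs S (a + w))) ∧
      (∀ g : M, (g : G) ∈ S → ρ g - 1 ∈ MCE.L (ZMod p) w 1) ∧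
      (∀ g : M, Un S n g → MCE.Ex 1 (ρ g - 1)) ∧
      ∀ d ≤ w, ∀ g : M, MCE.Zr d d (ρ g) → (g : G) ∈ nm (Gs S (a + d)) := by
  have anti : Antitone fun k => Gs S (a + k) := fun _ _ e => Gs_anti (by omega)
  obtain ⟨κ, hκ⟩ := MCE.exists_crd (p := p) (w := w) (X := fun k => Gs S (a + k)) anti hc he
    fun i hi => by
      obtain ⟨y, h3, h5⟩ := Gs_ex h h4 (k := a + i) (by omega)
      refine ⟨y, h3, h5, fun z hz => ?_⟩
      have hz' : z ∈ Gs S (a + i + 1) ⊔ zpowers y := (Gs_gen h h4 h3 h5).ge hz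
      have hy : y ∈ nm (Gs S (a + i + 1)) := nm_Gs (Gs_le h3)
      obtain ⟨u, hu, v, hv, rfl⟩ := (mem_sup_of_nm' (zpowers_le.2 hy)).1 hz'
      obtain ⟨k, rfl⟩ := mem_powers_iff_mem_zpowers.2 hv
      refine ⟨k, ?_⟩
      have := conj_mem (inv_mem (pow_mem hy k)) hu
      rwa [inv_inv, mul_assoc] at this
  let act : M →* MulAut G := (MulAut.conj : G →* MulAut G).comp M.subtype
  have ha' : ∀ (g : M) (y : G), act g y = g * y * (g : G)⁻¹ := fun _ _ => rfl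
  have ia : ∀ g : M, ∀ y ∈ Gs S (a + 0), act g y ∈ Gs S (a + 0) :=
    fun g y hy => conj_mem (h1 g.2) hy
  obtain ⟨ρ, hρ⟩ := hκ.exists_rho act ia fun g y hy => conj_mem (h2 g.2) hy
  have cm : ∀ (g : M) (y : G), y⁻¹ * act g y = ⁅y⁻¹, (g : G)⁆ := fun g y => by
    rw [ha']; simp [commutatorElement_def, mul_assoc]
  have tr : ∀ g : M, (g : G) ∈ S → ∀ k < w, ∀ y ∈ Gs S (a + k),
      y⁻¹ * act g y ∈ Gs S (a + (k + 1)) := fun g hg k _ y hy => by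
    rw [cm]; exact Gs_comm0 (inv_mem hy) hg
  refine ⟨κ, ρ, hκ, hρ, fun g => ⟨fun e => ⟨h2 g.2, fun y hy => ?_⟩, fun e => ?_⟩,
    fun g hg => hκ.tri (ia g) (hρ g) (tr g hg),
    fun g hg => hκ.reg (ia g) (hρ g) (tr g hg.mem) fun k hk y hy e => ?_,
    fun d hd g e => mem_nm_of_conj fun y hy =>
      hκ.of_Zr (ia g) (hρ g) hd e (anti (Nat.zero_le d) hy) hy⟩
  · have h3 := hκ.of_one (ia g) (hρ g) e (y := y⁻¹) (inv_mem hy)
    rw [cm, inv_inv] at h3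
    exact comm_symm h3
  · refine hκ.eq_one (ia g) (hρ g) fun y hy => ?_
    rw [cm]
    exact comm_symm (e.2 _ (inv_mem hy))
  · rw [cm] at e
    exact (Gs S _).inv_mem_iff.1 (hg.step h h4 (i := a + k) (by omega) (by omega) (inv_mem hy) e)

end Cfsg.Agent.MXC
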