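import Cfsg.Agent.MXC.Bas3
import Cfsg.Agent.MXC.Wts
import Cfsg.Agent.MXC.Rep
import Cfsg.Agent.MXC.Frob

set_option autoImplicit false
set_option linter.unusedSectionVars false

namespace Cfsg.Agent.MXC

open Subgroup Cfsg.Agent.H62 Cfsg.Agent.SR3 Cfsg.Agent.MCF
open scoped commutatorElement

universe u

variable {G : Type u} [Group G] [Finite G] {p n i j k m : ℕ} [hp : Fact p.Prime]
  {S E R N D K Q X : Subgroup G} {e g r s t u x y : G} {a b c l : ℤ}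

namespace FrobG

theorem dvd_of_cop (hk : 1 ≤ k) (hc : Nat.Coprime k (p - 1)) (h : (p : ℤ) ∣ a ^ k - 1) : (p : ℤ) ∣ a - 1 := by
  rw [← ZMod.intCast_zmod_eq_zero_iff_dvd] at h ⊢
  push_cast at h ⊢
  rw [sub_eq_zero] at h ⊢
  have a0 : (a : ZMod p) ≠ 0 := fun z => by
    rw [z, zero_pow (by omega)] at h
    exact zero_ne_one h
  have := pow_gcd_eq_one.2 ⟨h, ZMod.pow_card_sub_one_eq_one a0⟩
  rwa [hc.gcd_eq_one, pow_one] at this

/-- the centralizer of the centre is induced by `S` -/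
theorem le_of (h : MC S p n) (h4 : 4 ≤ n) (hL : Loc p S (Gs S 1)) (hN : NA S n)
    (hZ : nm (Gs S 1) ≤ nm (Gs S (n - 1)))
    (key : ∀ g ∈ nm S, g ∈ ce (Gs S (n - 1)) → g ∈ S ⊔ ce (Gs S 1)) :
    nm (Gs S 1) ⊓ ce (Gs S (n - 1)) ≤ S ⊔ ce (Gs S 1) := by
  obtain ⟨M, hM⟩ : ∃ M, M = nm (Gs S 1) ⊓ ce (Gs S (n - 1)) := ⟨_, rfl⟩
  have pΓ : IsPGroup p (Gs S 1) := hL.pg.to_le Gs_le
  have SM : S ≤ M := hM ▸ le_inf nm_Gs (le_centralizer_iff.1 ((Gs_cen h h4).ge.trans inf_le_right))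
  have CM : ce (Gs S 1) ≤ M := hM ▸ le_inf (ce_le_nm le_rfl) (centralizer_le (Gs_anti (by omega)))
  have M1 : M ≤ nm (Gs S 1) := hM ▸ inf_le_left
  obtain ⟨c, c1, c2, hc⟩ := Gs_normal h h4 (Phi_le (X := Gs S 1)) fun g hg => nm_Phi (nm_Gs hg)
  obtain ⟨w, rfl⟩ : ∃ w, c = 1 + w := ⟨c - 1, by omega⟩
  have hw : w ≤ p - 1 := by
    have := phi_le h h4 hN.na
    rw [hc, Gs_card h h4 le_rfl (m := n - 1) (by omega), Gs_card h h4 c1 (m := n - (1 + w)) (by omega), ← pow_add,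
      Nat.pow_le_pow_iff_right hp.out.one_lt] at this
    omega
  obtain ⟨κ, ρ, -, -, hker, htri, -⟩ := rep h h4 (a := 1) (w := w) le_rfl c2 M1
    (fun g hg => hc ▸ nm_Phi (M1 hg)) (fun x hx y hy => hc ▸ comm_mem_Phi pΓ hx hy) fun x hx => hc ▸ pow_mem_Phi pΓ hx
  rw [← hc] at hker
  let π := QuotientGroup.mk' ρ.ker
  have hπ : ∀ g : M, π g = 1 ↔ (g : G) ∈ St (Gs S 1) (Phi (Gs S 1)) := fun g =>
    (QuotientGroup.eq_one_iff g).trans (hker g)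
  obtain ⟨s, hs, hs'⟩ := Gs_ex h h4 (k := 0) (by omega)
  have sS : s ∈ S := Gs_le hs
  let s' : M := ⟨s, SM sS⟩
  let T : Subgroup G := ((zpowers (π s')).comap π).map M.subtype
  have hT : ∀ g : M, (g : G) ∈ T ↔ π g ∈ zpowers (π s') := fun g => mem_map_iff_mem M.subtype_injective
  have KT : ∀ g ∈ M, g ∈ St (Gs S 1) (Phi (Gs S 1)) → g ∈ T := fun g hg k =>
    (hT ⟨g, hg⟩).2 ((hπ ⟨g, hg⟩).2 k ▸ one_mem _)
  have ST : S ≤ T := by
    refine Gs_zero.ge.trans ((Gs_gen h h4 hs hs').ge.trans (sup_le (fun g hg => ?_) (zpowers_le.2 ?_)))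
    · exact KT g (SM (Gs_le hg)) (le_St_Phi pΓ hg)
    · exact (hT s').2 (mem_zpowers _)
  have CT : ce (Gs S 1) ≤ T := fun g hg => KT g (CM hg) (ce_le_St le_rfl Phi_le hg)
  have TM : T ≤ M := map_subtype_le _
  have sp : π s' ^ p = 1 := by
    rw [← map_pow, hπ]
    exact le_St_Phi pΓ (Gs_pow h h4 hs)
  have top : zpowers (π s') = ⊤ := by
    refine frob (ρ := QuotientGroup.lift ρ.ker ρ le_rfl) ((injective_iff_map_eq_one _).2 fun q hq => ?_) sp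
      (fun k => hL.syl ?_) (fun q hq => ?_) ?_
    · obtain ⟨g, rfl⟩ := QuotientGroup.mk'_surjective _ q
      exact (QuotientGroup.eq_one_iff g).2 hq
    · rw [← index_comap_of_surjective _ (QuotientGroup.mk'_surjective ρ.ker),
        ← comap_map_eq_self_of_injective M.subtype_injective (comap _ _)] at k
      rw [← relIndex_mul_relIndex _ _ _ ((sup_le ST CT).trans TM) M1]
      exact (k.trans (relIndex_dvd_of_le_left M (sup_le ST CT))).mul_right _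
    · obtain ⟨g, rfl⟩ := QuotientGroup.mk'_surjective _ q
      have gT : (g : G) ∈ nm T := mem_nm_of_conj fun x hx => (hT (g * ⟨x, TM hx⟩ * g⁻¹)).2 (by
        rw [map_mul, map_mul, map_inv]
        exact conj_mem hq ((hT ⟨x, TM hx⟩).1 hx))
      obtain ⟨y, hy, e⟩ := hL.frat T ST CT (TM.trans M1) g (M1 g.2) gT
      exact (hT g).1 ((mul_mem_cancel_right hy).1
        (sup_le ST CT (key _ e (hM.le (mul_mem g.2 (TM hy))).2)))
    · exact MCE.L_eq_zero (MCE.Fl_pow (htri s' sS) (p - 1)) (by rw [mul_one]; exact_mod_cast hw)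
  refine hM ▸ hL.fus_le M1 (fun g hg => hM ▸ nm_inf (nm_nm hg) (nm_ce (hZ hg))) fun g hg => ?_
  obtain ⟨i, hi⟩ := top.ge (mem_top (π ⟨g, hg⟩))
  have : π (⟨g, hg⟩ ^ p) = 1 := by
    rw [map_pow, ← hi, ← zpow_natCast, ← zpow_mul, mul_comm, zpow_mul, zpow_natCast, sp, one_zpow]
  obtain ⟨m, hm⟩ := pow_mem_ce_of_Phi pΓ ((hπ _).1 this)
  exact ⟨m + 1, by rw [pow_succ', pow_mul]; exact hm⟩

end FrobG

open FrobG in
theorem frobG (h : MC S p n) (h4 : 4 ≤ n) (hL : Loc p S (Gs S 1)) (hN : NA S n)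
    (hZ : nm (Gs S 1) ≤ nm (Gs S (n - 1))) (ht : t ∈ nm (Gs S 1)) (hl : Prim p l)
    (hw : Wt t (Gs S (n - 1)) ⊥ l) : ∃ c ∈ ce (Gs S 1), t * c ∈ nm S := by
  have hb : Gs S (n - 1 + 1) = ⊥ := Gs_bot h h4 (by omega)
  have uq : ∀ {g : G} {a b : ℤ}, Wt g (Gs S (n - 1)) ⊥ a → Wt g (Gs S (n - 1)) ⊥ b → (p : ℤ) ∣ a - b :=
    fun k k' => wt_uniq h h4 (j := n - 1) (by omega) (hb ▸ k) (hb ▸ k')
  have ea : ∀ g ∈ nm S, ∃ a, Wt g S (Gs S 1) a := fun g hg => by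
    have := exists_a h h4 hg 0
    rwa [Gs_zero] at this
  obtain ⟨e, s, hs, P⟩ := pw h h4 hN
  obtain ⟨y, hy, hy'⟩ := hL.frat (nm (Gs S 1) ⊓ ce (Gs S (n - 1)))
    (le_inf nm_Gs (le_centralizer_iff.1 ((Gs_cen h h4).ge.trans inf_le_right)))
    (le_inf (ce_le_nm le_rfl) (centralizer_le (Gs_anti (by omega)))) inf_le_left t ht
    (nm_inf (nm_nm ht) (nm_ce (hZ ht)))
  obtain ⟨a, ha⟩ := ea _ hy'
  have cop := (hl.of_pow hs (uq (P.top _ hy' a ha) fun x hx => by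
    rw [mul_assoc t, ← mem_ce.1 hy.2 x hx, show t * (x * y) * (t * y)⁻¹ = t * x * t⁻¹ by group]
    exact hw x hx)).2
  have key : ∀ g ∈ nm S, g ∈ ce (Gs S (n - 1)) → g ∈ S ⊔ ce (Gs S 1) := fun g hg hg' => by
    obtain ⟨b, hb⟩ := ea g hg
    exact stab_of h h4 hL hN hg (hb.congr (fun x hx => Gs_pow h h4 (k := 0) (Gs_zero.ge hx))
      (dvd_of_cop hs cop (uq (P.top g hg b hb) (wt_one_of_St ((St_bot _).ge hg')))))
  have := le_of h h4 hL hN hZ key hy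
  rw [sup_comm, mem_sup_of_nm' fun g hg => nm_ce (nm_Gs hg)] at this
  obtain ⟨c, hc, z, hz, rfl⟩ := this
  exact ⟨c, hc, (mul_mem_cancel_right (le_normalizer hz)).1 (mul_assoc t c z ▸ hy')⟩

end Cfsg.Agent.MXC
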