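import Cfsg.Agent.MXC.CoreX1
import Cfsg.Agent.MXC.Tor
import Cfsg.Agent.MXC.FrobG

set_option autoImplicit false
set_option linter.unusedSectionVars false

namespace Cfsg.Agent.MXC

open Subgroup Cfsg.Agent.H62 Cfsg.Agent.SR3 Cfsg.Agent.MCF
open scoped commutatorElement

universe u

variable {G : Type u} [Group G] [Finite G] {p n i j k m : ℕ} [hp : Fact p.Prime]
  {S E R N D K Q X : Subgroup G} {e g r s t u x y : G} {a b c l : ℤ}

theorem Co.coreX (h : Co p n S E) (hX : Xc S n) (hN : ¬ S ≤ nm E) : False := by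
  obtain ⟨hNA, i, i1, i3, hEi, -, hE2, j, x, ij, jn, ev, xE, xj, xj'⟩ := h.x1 hX hN
  have hW := h.W_eq hX
  have h4 := h.h4
  obtain ⟨r, hr, hr'⟩ := SetLike.not_le_iff_exists.1 hE2
  have rG : r ∈ Gs S 1 := Gs_anti (by omega) hr
  have rZ : ∀ y ∈ E, ⁅r, y⁆ ∈ Gs S (n - 1) := fun y hy => Gs_anti (by omega) (Gs_comm hr (hEi hy))
  have rV : ∀ y ∈ E, ⁅r, y⁆ ∈ Zo p E := fun y hy => h.Z_le (rZ y hy)
  have VE : Zo p E ≤ E := Zo_le.trans inf_le_left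
  have rE : r ∈ nm E := mem_nm_of_conj fun y hy => by
    rw [conj_eq_comm]; exact mul_mem (VE (rV y hy)) hy
  have hb : Gs S (n - 1 + 1) = ⊥ := Gs_bot h.mc h4 (by omega)
  have rc : ∀ y ∈ Gs S (i + 1), Commute r y := fun y hy => by
    have : ⁅r, y⁆ ∈ Gs S (n - 1 + 1) := Gs_anti (by omega) (Gs_comm hr hy)
    rw [hb, mem_bot] at this
    exact commutatorElement_eq_one_iff_commute.1 this
  have q : ∀ v ∈ Zo p E, ⁅r, ⁅r, v⁆⁆ = 1 := fun v hv =>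
    commutatorElement_eq_one_iff_commute.2 (rc _ (Gs_anti (by omega) (rZ v (VE hv))))
  have l3 : ce E ≤ nm E ⊓ St E (Zo p E) := le_inf (ce_le_nm le_rfl) (ce_le_St le_rfl VE)
  obtain ⟨l, hl⟩ := exists_prim p
  obtain ⟨t0, t0L, ht0⟩ := h.tor (L := nm E ⊓ St E (Zo p E)) rG rE hr' q inf_le_left
    (fun g hg => nm_inf (nm_nm hg) (nm_St hg (nm_Zo hg))) l3 ⟨rE, nm_Zo rE, rV⟩ hl
  obtain ⟨c, hc, tS⟩ := frobG h.mc h4 h.locG hNA (hW ▸ nm_Wc) ht0.tG hl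
    (ht0.wtZ h (Gs_le rG) hW)
  have ht := ht0.mul h.le ((W0_le h.mc h4).trans (Zo_le.trans inf_le_left)) hc
  have tL := mul_mem t0L (l3 (centralizer_le h.le hc))
  generalize t0 * c = t at ht tL tS
  have wZ := ht.wtZ h (Gs_le rG) hW
  obtain ⟨e, s, s1, hw⟩ := pw h.mc h4 hNA
  obtain ⟨a, ha⟩ := exists_a h.mc h4 tS 0
  rw [Gs_zero] at ha
  have d1 : (p : ℤ) ∣ a ^ s - l := wt_uniq h.mc h4 (j := n - 1) (t := t) (by omega)
    (by rw [hb]; exact hw.top t tS a ha) (by rw [hb]; exact wZ)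
  have pa := (hl.of_pow s1 d1).1
  have wj := hw.low t tS a ha j (by omega) jn
  have one : ∀ y ∈ Gs S j, y ∉ Gs S (j + 1) → ⁅t, y⁆ ∈ Gs S (j + 1) → p - 1 ∣ e + j :=
    fun y h1 h2 h3 => (pa.dvd_iff _).1 (by
      have := wt_of_mem h.mc h4 (b := 1) (c := 1) wj h1 h2 (by rw [zpow_one]; exact h3) tS
      rwa [mul_one] at this)
  have d2 : p - 1 ∣ e + j := by
    by_cases k : ⁅t, x⁆ ∈ Gs S (j + 1)
    · exact one x xj xj' k
    · have yj : ⁅t, x⁆ ∈ Gs S j := comm_mem_of_nm (nmS_Gs tS) xj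
      obtain ⟨u, hu, e1⟩ := ht.im _ (tL.2.2 x xE) (rc _ (Gs_anti (by omega) yj))
      exact one _ yj k (by rw [e1]; exact Gs_anti (by omega) (rZ u (VE hu)))
  obtain ⟨v, hv, v1, v2⟩ := ht.neg
  have d3 : (p : ℤ) ∣ a ^ (e + i) * l - 1 :=
    wt_of_mem h.mc h4 (hw.low t tS a ha i i1 (by omega)) (hEi (VE hv)) (fun k => v1 (rc v k))
      (by rw [v2, zpow_one, mul_inv_cancel]; exact one_mem _) tS
  have d4 : p - 1 ∣ e + i + s := (pa.dvd_iff _).1 (by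
    have := dvd_add (Dvd.dvd.mul_left d1 (a ^ (e + i))) d3
    rwa [show a ^ (e + i) * (a ^ s - l) + (a ^ (e + i) * l - 1) = a ^ (e + i + s) - 1 by ring] at this)
  have p2 : 2 ∣ p - 1 := (hp.out.even_sub_one (by have := h.h5; omega)).two_dvd
  have e2 := p2.trans d2
  have e4 := p2.trans d4
  have e5 := (hX.num h.mc h4).2.1.two_dvd
  have e6 := ev.two_dvd
  have e7 := hw.x hX
  omega

end Cfsg.Agent.MXC
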