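import Cfsg.Agent.MXC.Defs

set_option autoImplicit false
set_option linter.unusedSectionVars false

namespace Cfsg.Agent.MXC

open Subgroup Cfsg.Agent.H62 Cfsg.Agent.SR3 Cfsg.Agent.MCF
open scoped commutatorElement Matrix

universe u

variable {G : Type u} [Group G] [Finite G] {p n i j k m : ℕ} [hp : Fact p.Prime]
  {S E R N D K Q X : Subgroup G} {e g r s t u x y : G} {a b c l : ℤ}

namespace Lin

variable {w : ℕ}

/-- the eigenspace -/
def Eg (A : Matrix (Fin w) (Fin w) (ZMod p)) (l : ZMod p) : Submodule (ZMod p) (Fin w → ZMod p) :=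
  LinearMap.ker (Matrix.toLin' (A - l • 1))

theorem mem_Eg {A : Matrix (Fin w) (Fin w) (ZMod p)} {l : ZMod p} {v : Fin w → ZMod p} :
    v ∈ Eg A l ↔ A *ᵥ v = l • v := by
  rw [Eg, LinearMap.mem_ker, Matrix.toLin'_apply, Matrix.sub_mulVec, Matrix.smul_mulVec, Matrix.one_mulVec,
    sub_eq_zero]

theorem card_Eg (A : Matrix (Fin w) (Fin w) (ZMod p)) (l : ZMod p) :
    Nat.card {v : Fin w → ZMod p // A *ᵥ v = l • v} = p ^ Module.finrank (ZMod p) (Eg A l) := by
  rw [← Nat.card_congr (Equiv.subtypeEquivRight fun v => mem_Eg (A := A) (l := l) (v := v)),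
    Module.natCard_eq_pow_finrank (K := ZMod p) (V := Eg A l), Nat.card_zmod]

theorem sub_mem_Eg {A : Matrix (Fin w) (Fin w) (ZMod p)} {l : ZMod p} (hA : (A - 1) * (A - l • 1) = 0)
    (v : Fin w → ZMod p) : A *ᵥ v - v ∈ Eg A l := by
  have : (A - l • 1) * (A - 1) = 0 := by
    rw [← hA]
    simp only [mul_sub, sub_mul, mul_one, one_mul, smul_mul_assoc, mul_smul_comm, smul_sub]
    abel
  have e : A *ᵥ v - v = (A - 1) *ᵥ v := by rw [Matrix.sub_mulVec, Matrix.one_mulVec]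
  rw [e, Eg, LinearMap.mem_ker, Matrix.toLin'_apply, Matrix.mulVec_mulVec, this, Matrix.zero_mulVec]

end Lin

open Lin

theorem det_eig {w j : ℕ} {A : Matrix (Fin w) (Fin w) (ZMod p)} {l : ZMod p} (hl : l ≠ 1)
    (hA : (A - 1) * (A - l • 1) = 0) (hj : Nat.card {v : Fin w → ZMod p // A *ᵥ v = l • v} = p ^ j) :
    A.det = l ^ j := by
  rw [card_Eg] at hj
  obtain rfl := Nat.pow_right_injective hp.out.two_le hj
  have l1 : l - 1 ≠ 0 := sub_ne_zero.2 hl
  let π : (Fin w → ZMod p) →ₗ[ZMod p] (Fin w → ZMod p) := (l - 1)⁻¹ • (Matrix.toLin' A - LinearMap.id)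
  have hπ : ∀ v, π v = (l - 1)⁻¹ • (A *ᵥ v - v) := fun v => by simp [π]
  have pr : LinearMap.IsProj (Eg A l) π := ⟨fun v => hπ v ▸ Submodule.smul_mem _ _ (sub_mem_Eg hA v), fun v hv => by
    rw [hπ, mem_Eg.1 hv, show l • v - v = (l - 1) • v by rw [sub_smul, one_smul], smul_smul, inv_mul_cancel₀ l1,
      one_smul]⟩
  let e := Submodule.prodEquivOfIsCompl _ _ pr.isCompl
  have : Matrix.toLin' A = e.toLinearMap ∘ₗ LinearMap.prodMap (l • LinearMap.id) LinearMap.id ∘ₗ e.symm.toLinearMap := by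
    refine LinearMap.ext fun v => ?_
    obtain ⟨⟨x, y⟩, rfl⟩ := e.surjective v
    have hy : A *ᵥ (y : Fin w → ZMod p) = y := by
      have := (hπ y).symm.trans y.2
      rwa [smul_eq_zero_iff_right (inv_ne_zero l1), sub_eq_zero] at this
    simp only [LinearMap.comp_apply, LinearEquiv.coe_coe, LinearEquiv.symm_apply_apply]
    simp only [e, Submodule.coe_prodEquivOfIsCompl', Matrix.toLin'_apply, Matrix.mulVec_add, mem_Eg.1 x.2, hy]
    rfl
  rw [← LinearMap.det_toLin', this, LinearMap.det_conj, LinearMap.det_prodMap, LinearMap.det_smul, LinearMap.det_id,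
    LinearMap.det_id, mul_one, mul_one]

theorem lin {H : Type*} [Group H] [Finite H] {w : ℕ} {ρ : H →* Matrix (Fin w) (Fin w) (ZMod p)}
    {P : Subgroup H} {s t : H} {l : ZMod p} (h5 : 5 ≤ p) (h : MCE.St ρ P s) (hP : Nat.card P = p)
    (hi : ¬ p ∣ P.index) (hw : 2 ≤ w) (hC : ∀ b, Commute b s → b ∈ P)
    (hl : IsPrimitiveRoot l (p - 1)) (h1 : (ρ t - 1) * (ρ t - l • 1) = 0) (h2 : ρ t ≠ 1)
    (h3 : Nat.card {v : Fin w → ZMod p // ρ t *ᵥ v = l • v} * p ^ w ≤ p ^ (p - 1)) :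
    ∃ a, 0 < a ∧ a < w ∧ ∀ g, MCE.Zr a a (ρ g) := by
  have l1 : l ≠ 1 := hl.ne_one (by omega)
  have hd := det_eig l1 h1 (card_Eg _ _)
  rw [card_Eg, ← pow_add, Nat.pow_le_pow_iff_right hp.out.one_lt] at h3
  let i0 : Fin w := ⟨0, by omega⟩
  let i1 : Fin w := ⟨1, by omega⟩
  have j0 : 0 < Module.finrank (ZMod p) (Eg (ρ t) l) := by
    refine Nat.pos_of_ne_zero fun e => h2 (Matrix.ext_of_mulVec_single fun i => ?_)
    have := sub_mem_Eg h1 (Pi.single i 1)
    rw [Submodule.finrank_eq_zero.1 e, Submodule.mem_bot, sub_eq_zero] at this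
    rw [this, Matrix.one_mulVec]
  have jw : Module.finrank (ZMod p) (Eg (ρ t) l) < w := by
    have := Submodule.finrank_lt (s := Eg (ρ t) l) fun e => by
      have e1 : ρ t = l • 1 := Matrix.ext_of_mulVec_single fun i => by
        rw [Matrix.smul_mulVec, Matrix.one_mulVec]
        exact mem_Eg.1 (e ▸ Submodule.mem_top)
      have := MCE.L_zero_of ((h.mem t).1 (hC t (h.inj (by
        rw [map_mul, map_mul, e1, smul_mul_assoc, mul_smul_comm, one_mul, mul_one])))) (i := i0) (j := i0) (by omega)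
      rw [e1] at this
      exact l1 (by simpa [sub_eq_zero] using this)
    simpa using this
  generalize Module.finrank (ZMod p) (Eg (ρ t) l) = j at hd h3 j0 jw
  have n1 := h.reg.ne i1 i0 rfl
  have s1 : s ≠ 1 := fun e => n1 (by simp [e])
  have gen : ∀ u ∈ P, u ≠ 1 → ∀ v ∈ P, ∃ m : ℕ, u ^ m = v := fun u hu u1 v hv => by
    obtain ⟨m, hm⟩ := mem_powers_of_prime_card (G := P) (g := ⟨u, hu⟩) (g' := ⟨v, hv⟩) hP
      fun e => u1 (congrArg Subtype.val e)
    exact ⟨m, congrArg Subtype.val hm⟩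
  have cP : ∀ u ∈ P, ∀ v ∈ P, u * v = v * u := fun u hu v hv => by
    obtain ⟨a, rfl⟩ := gen s h.smem s1 u hu
    obtain ⟨b, rfl⟩ := gen s h.smem s1 v hv
    exact (Commute.pow_pow_self s a b).eq
  have so : orderOf s = p := orderOf_eq_prime (h.pow_p (by omega) h.smem) s1
  let δ : H →* ZMod p := Matrix.detMonoidHom.comp ρ
  have PY : P ≤ δ.ker := fun u hu => by
    have := congrArg δ (h.pow_p (by omega) hu)
    rwa [map_pow, ZMod.pow_card, map_one] at this
  have frat : ∀ g, ∃ y ∈ δ.ker, ∃ b ∈ MCE.Bor ρ, y * b = g := fun g => by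
    have := Sylow.normalizer_sup_eq_top' ((IsPGroup.of_card (n := 1) (by rw [hP, pow_one])).toSylow hi) PY
    rw [sup_comm] at this
    obtain ⟨y, hy, b, hb, e⟩ := mem_sup_of_normal_left.1 (this ▸ mem_top g)
    exact ⟨y, hy, b, h.mem_Bor h.reg ((mem_normalizer_iff.1 hb s).1 h.smem), e⟩
  let χ₀ : MCE.Bor ρ →* ZMod p :=
    { toFun := fun b => ρ b i1 i1 / ρ b i0 i0
      map_one' := by simp
      map_mul' := fun b c => by
        simp only [Subgroup.coe_mul, map_mul, MCE.diag_mul b.2 c.2]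
        rw [div_mul_div_comm] }
  have hχ₀ : ∀ b, χ₀ b = ρ b i1 i1 / ρ b i0 i0 := fun _ => rfl
  have kerχ : ∀ b : MCE.Bor ρ, χ₀ b = 1 → (b : H) ∈ P := fun b hb => by
    have m := h.conj_mem b.2 h.smem
    obtain ⟨c, hc⟩ := gen s h.smem s1 _ m
    have e2 : (ρ (b * s * (b : H)⁻¹) - 1) * ρ b = ρ b * (ρ s - 1) := by
      rw [MCE.conj_rho, mul_assoc, ← map_mul, inv_mul_cancel, map_one, mul_one]
    have e3 := congrFun (congrFun e2 i1) i0
    rw [MCE.lead ((h.mem _).1 m) b.2 (m := i0) (by simp [i0, i1]) (by omega),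
      MCE.lead b.2 h.reg.mem (m := i1) (by omega) (by simp [i0, i1]), ← hc,
      h.ent_pow h.smem (show (i1 : ℕ) = i0 + 1 from rfl)] at e3
    have d0 := MCE.diag_ne b.2 i0
    rw [hχ₀, div_eq_one_iff_eq d0] at hb
    have e4 : (c : ZMod p) = (1 : ℕ) := by
      refine mul_right_cancel₀ (mul_ne_zero n1 d0) ?_
      rw [← mul_assoc, e3, hb]; push_cast; ring
    rw [ZMod.natCast_eq_natCast_iff, ← so, ← pow_eq_pow_iff_modEq, pow_one, hc, mul_inv_eq_iff_eq_mul] at e4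
    exact hC b e4
  let χ := χ₀.toHomUnits
  obtain ⟨⟨_, β, rfl⟩, hβ⟩ := IsCyclic.exists_monoid_generator (α := χ.range)
  have pw : ∀ b : MCE.Bor ρ, ∃ i : ℕ, χ₀ b = χ₀ β ^ i ∧ δ b = δ β ^ i := fun b => by
    obtain ⟨i, hi⟩ := hβ ⟨_, b, rfl⟩
    have e : χ β ^ i = χ b := congrArg Subtype.val hi
    have e' : χ (b * (β ^ i)⁻¹) = 1 := by rw [map_mul, map_inv, map_pow, e, mul_inv_cancel]
    have e1 : δ (b * ((β : H) ^ i)⁻¹) = 1 := PY (kerχ _ (congrArg Units.val e'))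
    refine ⟨i, (congrArg Units.val e).symm, ?_⟩
    rw [← map_pow, ← one_mul (δ (_ ^ i)), ← e1, ← map_mul, inv_mul_cancel_right]
  have key : ∀ b : MCE.Bor ρ, δ b = 1 → χ₀ b ^ j = 1 := fun b hb => by
    obtain ⟨y, hy, b0, hb0, e⟩ := frat t
    obtain ⟨i, a1, a2⟩ := pw b
    obtain ⟨k, -, a3⟩ := pw ⟨b0, hb0⟩
    have a4 : δ b0 = l ^ j := by
      have := congrArg δ e
      rw [map_mul, show δ y = 1 from hy, one_mul] at this
      exact this.trans hd
    have a5 : l ^ (j * i) = 1 := by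
      rw [pow_mul, ← a4, show δ b0 = _ from a3, ← pow_mul, mul_comm, pow_mul, ← a2, hb, one_pow]
    obtain ⟨c, hc⟩ := (hl.pow_eq_one_iff_dvd _).1 a5
    rw [a1, ← pow_mul, mul_comm, hc, pow_mul, ZMod.pow_card_sub_one_eq_one (a := χ₀ β) (χ β).ne_zero,
      one_pow]
  obtain ⟨τ, hτ, hB⟩ := h.exists_t hw cP hi
  let s' : δ.ker := ⟨s, PY h.smem⟩
  have so' : orderOf s' = p := (Subgroup.orderOf_coe s').symm.trans so
  refine (MCE.ten (m := 0) p (ρ.comp δ.ker.subtype) ((MCE.Bor ρ).subgroupOf _) (zpowers s')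
    (zpowers_le.2 (h.le_Bor h.smem)) (fun v hv g hg => ?_) (s := s') (x := 1) (r := 1) (Or.inl rfl) h.reg
    (MCE.inv_tri (h.le_Bor h.smem)) (by simp) (by simpa using MCE.Fl_one)
    ((Equiv.prodUnique _ _).trans ((finCongr so'.symm).trans (finEquivZPowers (isOfFinOrder_of_finite s'))))
    (fun ij => by simp [finEquivZPowers_apply]) hτ (e := j) (fun b hb => ?_) hw (by omega) (by omega)
    (by omega)).imp fun a ⟨a0, aw, ha⟩ => ⟨a0, aw, fun g => ?_⟩
  · by_cases v1 : v = 1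
    · exact Or.inl v1
    have hv' : (v : H) ∈ P := by
      obtain ⟨m, rfl⟩ := hv
      exact zpow_mem h.smem m
    obtain ⟨m, hm⟩ := gen v hv' (fun e => v1 (Subtype.ext e)) s h.smem
    refine Or.inr (h.free0 h.smem h.reg ?_)
    have := pow_mem (show (g : H)⁻¹ * v * (g : H)⁻¹⁻¹ ∈ MCE.Bor ρ by rw [inv_inv]; exact hg) m
    rwa [conj_pow, hm, inv_inv] at this
  · replace hb : (b : H) ∈ MCE.Bor ρ := hb
    obtain ⟨c, -, hc⟩ := hB b hb
    refine ⟨c, ?_, hc⟩
    have e1 := congrFun (congrFun hc i1) i0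
    rw [Matrix.smul_apply, MCE.lead hb hτ.mem (m := i1) (by omega) (by simp [i0, i1]),
      MCE.lead hτ.mem hb (m := i0) (by simp [i0, i1]) (by omega), smul_eq_mul] at e1
    have : c = χ₀ ⟨b, hb⟩ := by
      rw [hχ₀, eq_div_iff (MCE.diag_ne hb i0)]
      exact mul_right_cancel₀ (hτ.ne i1 i0 rfl) (by linear_combination -e1)
    rw [this]
    exact key _ b.2
  · obtain ⟨y, hy, b, hb, rfl⟩ := frat g
    rw [map_mul]
    exact (ha ⟨y, hy⟩).mul (MCE.mem_L_zero.1 hb a)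

end Cfsg.Agent.MXC
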