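import Cfsg.Agent.MXC.Bas1
import Cfsg.Agent.MXC.Fus1

set_option autoImplicit false
set_option linter.unusedSectionVars false

namespace Cfsg.Agent.MXC

open Subgroup Cfsg.Agent.H62 Cfsg.Agent.SR3 Cfsg.Agent.MCF
open scoped commutatorElement

universe u

variable {G : Type u} [Group G] [Finite G] {p n i j k m : ℕ} [hp : Fact p.Prime]
  {S E R N D K Q X : Subgroup G} {e g r s t u x y : G} {a b c l : ℤ}

/-- strong embedding modulo a normal subgroup `K` of the normalizer of `E` -/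
theorem SEa.gen {M : Subgroup G} (h : Loc p N E) (k1 : ce E ≤ K) (k2 : K ≤ nm E) (k3 : nm E ≤ nm K)
    (kM : K ≤ M) (NM : N ≤ M) (EK : E ≤ K)
    (hx : ∀ Q : Subgroup G, E ≤ Q → Q ≤ N → ¬ Q ≤ K → N ⊓ K ≤ Q → ∀ h ∈ nm E, h ∈ nm (Q ⊔ K) → h ∈ M)
    (h1 : u ∈ nm E) (h2 : u ∈ M) (h3 : u ∉ K) (h5 : ∃ k, u ^ p ^ k ∈ K) (hg : g ∈ nm E)
    (h6 : g * u * g⁻¹ ∈ M) : g ∈ M := by
  have := normal_subgroupOf_of_le_normalizer k3
  set f := QuotientGroup.mk' (K.subgroupOf (nm E))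
  have hs : H91.SylIn p ((N.subgroupOf (nm E)).map f) ⊤ := by
    refine ⟨le_top, (h.pg.comap_of_injective _ (nm E).subtype_injective).map f, fun e => h.syl ?_⟩
    rw [relIndex_top_right, index_map, QuotientGroup.range_mk', index_top, mul_one,
      QuotientGroup.ker_mk'] at e
    refine e.trans (index_dvd_of_le fun x hx => ?_)
    obtain ⟨a, ha, b, hb, e⟩ := (mem_sup_of_nm (fun _ hn => nm_ce (h.norm hn))).1 hx
    have : x = ⟨a, h.norm ha⟩ * ⟨b, ce_le_nm le_rfl hb⟩ := Subtype.ext e.symm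
    exact this ▸ mul_mem (mem_sup_left ha) (mem_sup_right (k1 hb))
  have one : ∀ x : nm E, f x = 1 ↔ (x : G) ∈ K := fun x => QuotientGroup.eq_one_iff x
  have mem : ∀ x : nm E, f x ∈ (M.subgroupOf (nm E)).map f ↔ (x : G) ∈ M := by
    intro x
    constructor
    · rintro ⟨y, hy, e⟩
      have e' := QuotientGroup.eq.1 e
      have : (x : G) = y * (y⁻¹ * x : nm E) := by simp
      exact this ▸ mul_mem hy (kM e')
    · exact fun hx => ⟨x, hx, rfl⟩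
  have se := MCE.se_of hs (map_mono (comap_mono NM)) (H := (M.subgroupOf (nm E)).map f) (by
    intro Q hQ hQ1 y hy
    obtain ⟨y, rfl⟩ := QuotientGroup.mk'_surjective _ y
    refine (mem y).2 ?_
    let R := (Q.comap f).map (nm E).subtype
    have mR : ∀ x : nm E, (x : G) ∈ R ↔ f x ∈ Q := fun x => mem_map_iff_mem (subtype_injective _)
    have RE : R ≤ nm E := map_subtype_le _
    have KR : K ≤ R := fun x hx => (mR ⟨x, k2 hx⟩).2 (by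
      rw [(one ⟨x, k2 hx⟩).2 hx]
      exact one_mem _)
    have e : (N ⊓ R) ⊔ K = R := by
      apply le_antisymm (sup_le inf_le_right KR)
      intro x hx
      lift x to nm E using RE hx
      obtain ⟨n, hn, e⟩ := hQ ((mR x).1 hx)
      have e' := QuotientGroup.eq.1 e
      have : (x : G) = n * (n⁻¹ * x : nm E) := by simp
      exact this ▸ mul_mem (mem_sup_left ⟨hn, (mR n).2 (e ▸ (mR x).1 hx)⟩) (mem_sup_right e')
    refine hx (N ⊓ R) (le_inf h.le (EK.trans KR)) inf_le_left (fun hle => hQ1 ?_)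
      (inf_le_inf_left N KR) y y.2 (e.symm ▸ mem_nm_of_conj fun x hx => ?_)
    · rw [eq_bot_iff]
      intro q hq
      obtain ⟨x, rfl⟩ := QuotientGroup.mk'_surjective _ q
      have h7 := (mR x).2 hq
      rw [← e] at h7
      exact (one x).2 (sup_le hle le_rfl h7)
    · lift x to nm E using RE hx
      have := (mem_normalizer_iff.1 hy (f x)).1 ((mR x).1 hx)
      rw [← map_inv, ← map_mul, ← map_mul] at this
      exact (mR (y * x * y⁻¹)).2 this)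
  obtain ⟨k, hk⟩ := h5
  exact (mem _).1 (se (f ⟨u, h1⟩) ((mem _).2 h2) (fun e => h3 ((one _).1 e))
    ⟨k, by rw [← map_pow]; exact (one _).2 hk⟩ (f ⟨g, hg⟩)
    (by rw [← map_inv, ← map_mul, ← map_mul]; exact (mem _).2 h6))

theorem Z_le_W0 (h : MC S p n) (h4 : 4 ≤ n) : Gs S (n - 1) ≤ W0 p S :=
  Gs_Zo h h4 ▸ Zo_le_Wc

theorem W0_le (h : MC S p n) (h4 : 4 ≤ n) : W0 p S ≤ Zo p (Gs S 1) := by
  refine Wc_le (fun z hz => ?_) fun _ => nm_Zo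
  have h1 : z ∈ Gs S (n - 1) := Gs_Zo h h4 ▸ hz
  exact ⟨⟨Gs_anti (by omega) h1, centralizer_le Gs_le hz.1.2⟩, hz.2⟩

theorem Co.W_le (h : Co p n S E) : W0 p S ≤ Zo p E := by
  intro z hz
  have h1 := W0_le h.mc h.h4 hz
  have h2 : z ∈ ce E := centralizer_le h.le h1.1.2
  exact ⟨⟨h.cen ⟨Gs_le h1.1.1, h2⟩, h2⟩, h1.2⟩

theorem Co.Z_le (h : Co p n S E) : Gs S (n - 1) ≤ Zo p E :=
  (Z_le_W0 h.mc h.h4).trans h.W_le

theorem Co.na (h : Co p n S E) : ¬ Gs S 1 ≤ ce (Gs S 1) := fun e =>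
  h.n2 ((Gs_anti (by omega)).trans
    ((le_inf Gs_le (e.trans (centralizer_le h.le))).trans h.cen))

theorem SEa.k1 : ce E ≤ nm E ⊓ ce (Zo p E) :=
  le_inf (ce_le_nm le_rfl) (centralizer_le fun _ hx => (Zo_le hx).1)

theorem SEa.k3 : nm E ≤ nm (nm E ⊓ ce (Zo p E)) := fun _ hg => nm_inf (nm_nm hg) (nm_ce (nm_Zo hg))

theorem SEa.EK : E ≤ nm E ⊓ ce (Zo p E) :=
  le_inf le_normalizer (le_centralizer_iff.1 fun _ hx => (Zo_le hx).2)

theorem SEa.ext (h : Co p n S E) (h1 : E ≤ Q) (h2 : Q ≤ S ⊓ nm E) (h3 : ¬ Q ≤ E)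
    (h4 : S ⊓ (nm E ⊓ ce (Zo p E)) ≤ Q) (hg : g ∈ nm E) (h5 : g ∈ nm (Q ⊔ (nm E ⊓ ce (Zo p E)))) :
    g ∈ nm (W0 p S) := by
  obtain ⟨m, hm, -, e⟩ := h.ext Q _ h1 h2 h3 SEa.k1 inf_le_left SEa.k3 h4 g hg h5
  simpa using mul_mem (nm_Wc hm) (ce_le_nm h.W_le e.2)

theorem Co.ceV (h : Co p n S E) : S ⊓ ce (Zo p E) ≤ E := by
  have ES : E ≤ S := h.le.trans Gs_le
  have k : S ⊓ (nm E ⊓ ce (Zo p E)) ≤ E := by
    by_contra hn
    refine h.nW fun g hg => SEa.ext h (le_inf ES SEa.EK) (inf_le_inf_left S inf_le_left) hn le_rfl hg ?_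
    rw [sup_eq_right.2 inf_le_right]
    exact SEa.k3 hg
  exact le_of_nm h.mc.isPGroup (le_inf ES (SEa.EK.trans inf_le_right)) inf_le_left
    fun x hx => k ⟨hx.1.1, hx.2, hx.1.2⟩

theorem Co.se2 (h : Co p n S E) (h1 : u ∈ nm E) (h2 : u ∈ nm (W0 p S)) (h3 : u ∉ ce (Zo p E))
    (h5 : ∃ k, u ^ p ^ k ∈ ce (Zo p E)) (hg : g ∈ nm E) (h6 : g * u * g⁻¹ ∈ nm (W0 p S)) :
    g ∈ nm (W0 p S) :=
  SEa.gen h.loc SEa.k1 inf_le_left SEa.k3 (inf_le_right.trans (ce_le_nm h.W_le))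
    (inf_le_left.trans (nm_Gs.trans nm_Wc)) SEa.EK
    (fun _ q1 q2 q3 q4 _ a1 a2 => SEa.ext h q1 q2 (fun e => q3 (e.trans SEa.EK))
      (fun _ hx => q4 ⟨⟨hx.1, hx.2.1⟩, hx.2⟩) a1 a2)
    h1 h2 (fun e => h3 e.2) (h5.imp fun _ hk => ⟨pow_mem h1 _, hk⟩) hg h6

theorem Co.se (h : Co p n S E) (h1 : u ∈ S) (h2 : u ∈ nm E) (h3 : u ∉ E) (hg : g ∈ nm E)
    (h6 : g * u * g⁻¹ ∈ nm (W0 p S)) : g ∈ nm (W0 p S) := by
  obtain ⟨k, hk⟩ := h.mc.isPGroup ⟨u, h1⟩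
  have e : u ^ p ^ k = 1 := congrArg Subtype.val hk
  exact h.se2 h2 (nm_Wc (nm_Gs h1)) (fun c => h3 (h.ceV ⟨h1, c⟩)) ⟨k, e ▸ one_mem _⟩ hg h6

end Cfsg.Agent.MXC
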