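import Cfsg.Agent.MXC.Bas3
import Cfsg.Agent.MXC.Wts
import Cfsg.Agent.MXC.SE
import Cfsg.Agent.MXC.Rep
import Cfsg.Agent.MXC.Lin

set_option autoImplicit false
set_option linter.unusedSectionVars false

namespace Cfsg.Agent.MXC

open Subgroup Cfsg.Agent.H62 Cfsg.Agent.SR3 Cfsg.Agent.MCF
open scoped commutatorElement Matrix

universe u

variable {G : Type u} [Group G] [Finite G] {p n i j k m : ℕ} [hp : Fact p.Prime]
  {S E R N D K Q X : Subgroup G} {e g r s t u x y : G} {a b c l : ℤ}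

namespace Wbig

theorem comm_W (h : Co p n S E) (hr : r ∈ Gs S 1) (hx : x ∈ W0 p S) : Commute r x :=
  (Zo_le (W0_le h.mc h.h4 hx)).2 r hr

theorem add_zpow {M : Type*} [AddCommGroup M] {χ : G → M}
    (h : ∀ y ∈ X, ∀ z ∈ X, χ (y * z) = χ y + χ z) (hy : y ∈ X) (k : ℤ) : χ (y ^ k) = k • χ y := by
  let f : X →* Multiplicative M := MonoidHom.mk' (fun a => Multiplicative.ofAdd (χ a)) fun a b =>
    congrArg Multiplicative.ofAdd (h a a.2 b b.2)
  exact congrArg Multiplicative.toAdd (map_zpow f ⟨y, hy⟩ k)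

/-- a faithful quotient of a representation -/
theorem exists_quot {M : Type u} {B : Type*} [Group M] [Finite M] [Monoid B] (ρ : M →* B) :
    ∃ (H : Type u) (_ : Group H) (_ : Finite H) (π : M →* H) (ρ' : H →* B), Function.Surjective π ∧
      Function.Injective ρ' ∧ ∀ g, ρ' (π g) = ρ g := by
  refine ⟨M ⧸ ρ.ker, inferInstance, inferInstance, QuotientGroup.mk' _, QuotientGroup.lift _ ρ le_rfl,
    QuotientGroup.mk'_surjective _, ?_, fun _ => rfl⟩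
  rintro ⟨a⟩ ⟨b⟩ e
  refine QuotientGroup.eq.2 (MonoidHom.mem_ker.2 ?_)
  rw [map_mul, ← show ρ a = ρ b from e, ← map_mul, inv_mul_cancel, map_one]

end Wbig

open Wbig

/-- the `l`-eigenspace of `t` on `W0` is small -/
theorem To.card_le (ht : To p S E l r t) (h : Co p n S E) (hl : Prim p l) (hr : r ∈ Gs S 1)
    (h1 : r ∈ nm E) :
    Nat.card {x // x ∈ W0 p S ∧ t * x * t⁻¹ = x ^ l} * Nat.card (W0 p S) ≤ p ^ (p - 1) := by
  have rV : r ∈ nm (Zo p E) := nm_Zo h1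
  let φ : Zo p E →* G := MonoidHom.mk' (fun v => ⁅r, (v : G)⁆) fun a b => by
    rw [coe_mul, comm_mul_right, (Zo_le (comm_mem_of_nm rV b.2)).2 a (Zo_le a.2).1, mul_inv_cancel_right]
  have c1 : Nat.card (W0 p S) ≤ Nat.card φ.ker := by
    rw [← Nat.card_congr (subgroupOfEquivOfLe h.W_le).toEquiv]
    exact card_le_of_le fun v hv => (comm_W h hr hv).commutator_eq
  have c2 : Nat.card {x // x ∈ W0 p S ∧ t * x * t⁻¹ = x ^ l} ≤ Nat.card φ.range := by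
    have k : ∀ x, x ∈ W0 p S → t * x * t⁻¹ = x ^ l → x ∈ φ.range := fun x hx e => by
      by_contra hn
      obtain ⟨u, hu, e'⟩ := ht.im x (h.W_le hx) (comm_W h hr hx)
      have := dvd_of_zpow_mem (p := p) (k := l - 1) (by rw [(h.W_le hx).2]; exact one_mem _) hn ⟨⟨u, hu⟩, by
        change ⁅r, u⁆ = _
        rw [← e', commutatorElement_def, e, zpow_sub_one]⟩
      have := Nat.le_of_dvd one_pos ((hl.dvd_iff 1).1 (by rwa [pow_one]))
      have := h.h5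
      omega
    exact Nat.card_le_card_of_injective (fun x => (⟨x.1, k _ x.2.1 x.2.2⟩ : φ.range)) fun a b e =>
      Subtype.ext (Subtype.mk.inj e)
  have VG : Zo p E ≤ Gs S 1 := (Zo_le.trans inf_le_left).trans h.le
  refine le_trans (Nat.mul_le_mul c2 c1) ?_
  rw [← index_ker, mul_comm, card_mul_index]
  exact elem_le h.mc h.h4 VG (fun e => h.n2 ((Gs_anti (by omega)).trans (e.ge.trans (Zo_le.trans inf_le_left))))
    fun x hx => hx.2

theorem To.W_eq (ht : To p S E l r t) (h : Co p n S E) (hl : Prim p l) (hr : r ∈ Gs S 1)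
    (h1 : r ∈ nm E) : W0 p S = Gs S (n - 1) := by
  have mc := h.mc
  have h4 := h.h4
  have WZ := W0_le mc h4
  have WG : W0 p S ≤ Gs S 1 := WZ.trans (Zo_le.trans inf_le_left)
  have GW : Gs S 1 ≤ ce (W0 p S) := fun x hx y hy => ((Zo_le (WZ hy)).2 x hx).symm
  have MW : nm (Gs S 1) ≤ nm (W0 p S) := nm_Wc
  obtain ⟨c, c1, c2, hc⟩ := Gs_normal mc h4 WG (nm_Gs.trans MW)
  by_contra ne
  have c3 : c + 2 ≤ n := by
    obtain ⟨z, z1, z2⟩ := Gs_ex mc h4 (k := n - 1) (by omega)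
    have := Z_le_W0 mc h4 z1
    rw [hc] at this ne
    by_contra a
    obtain rfl | rfl : c = n - 1 ∨ c = n := by omega
    · exact ne rfl
    · exact z2 (Gs_anti (by omega) this)
  obtain ⟨w, hw⟩ : ∃ w, c + w = n := ⟨n - c, by omega⟩
  have Z2 : Gs S (n - 2) ≤ W0 p S := hc ▸ Gs_anti (by omega)
  have CW : ∀ x ∈ S, x ∈ ce (W0 p S) → x ∈ Cs S n := fun x a b => (mem_Cs mc h4).2 ⟨a, centralizer_le Z2 b⟩
  have nx : ¬ Xc S n := fun a => a.not_le mc h4 fun x hx => CW x (Gs_le hx) (GW hx)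
  have SK : ∀ x ∈ S, x ∈ ce (W0 p S) → x ∈ Gs S 1 := fun x a b => not_not.1 nx ▸ CW x a b
  have bot : Gs S (c + w) = ⊥ := Gs_bot mc h4 hw.ge
  obtain ⟨κ, ρ, crd, act, ker, tri, reg, zr⟩ := rep mc h4 c1 hw.le (M := nm (Gs S 1)) (hc ▸ MW)
    (bot ▸ fun _ _ => nm_bot)
    (fun x hx y hy => by
      rw [bot, mem_bot]
      exact commutatorElement_eq_one_iff_mul_comm.2 (GW (WG (hc ▸ hy)) x (hc ▸ hx)))
    fun x hx => by rw [(WZ (hc ▸ hx)).2]; exact one_mem _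
  simp only [bot, St_bot, ← hc] at ker act
  have add : ∀ y ∈ W0 p S, ∀ z ∈ W0 p S, κ (y * z) = κ y + κ z := hc ▸ crd.add
  have srj : ∀ v, ∃ y ∈ W0 p S, κ y = v := hc ▸ crd.surj
  have inj : ∀ y ∈ W0 p S, ∀ z ∈ W0 p S, κ z = κ y → z = y := fun y hy z hz e => by
    have := (crd.eq_iff (y := y) (z := z) (hc ▸ hy) (hc ▸ hz)).1 e
    rw [bot, mem_bot] at this
    exact (inv_mul_eq_one.1 this).symm
  have pw : ∀ y ∈ W0 p S, κ (y ^ l) = (l : ZMod p) • κ y := fun y hy => by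
    rw [add_zpow add hy, Int.cast_smul_eq_zsmul]
  obtain ⟨H, _, _, π, ρ', π1, ρ1, ρπ⟩ := exists_quot ρ
  have kπ : ∀ g, π g = 1 ↔ (g : G) ∈ ce (W0 p S) := fun g => by
    rw [← ker, ← ρπ, ← map_one ρ', ρ1.eq_iff]
  obtain ⟨s, hs⟩ := exists_un mc h4
  have SM : S ≤ nm (Gs S 1) := nm_Gs
  have gen : Gs S 1 ⊔ zpowers s = S := (Gs_gen mc h4 (k := 0) (Gs_zero.ge hs.mem) hs.n1).trans Gs_zero
  obtain ⟨σ, hσ⟩ : ∃ σ, σ = π ⟨s, SM hs.mem⟩ := ⟨_, rfl⟩
  have cP : Nat.card (zpowers σ) = p := card_zpowers_eq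
    (by rw [hσ, ← map_pow, kπ]; exact GW (Gs_pow mc h4 (k := 0) (Gs_zero.ge hs.mem)))
    (by rw [hσ, Ne, kπ]; exact fun a => hs.n1 (SK _ hs.mem a))
  obtain ⟨L, hL⟩ : ∃ L : Subgroup G, L = ((zpowers σ).comap π).map (nm (Gs S 1)).subtype := ⟨_, rfl⟩
  have mL : ∀ g : nm (Gs S 1), (g : G) ∈ L ↔ π g ∈ zpowers σ := fun g => by
    rw [hL]; exact mem_map_iff_mem (subtype_injective _)
  have LM : L ≤ nm (Gs S 1) := hL ▸ map_subtype_le _
  have KL : ∀ g ∈ nm (Gs S 1), g ∈ ce (W0 p S) → g ∈ L := fun g a b =>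
    (mL ⟨g, a⟩).2 ((kπ ⟨g, a⟩).2 b ▸ one_mem _)
  have SL : S ≤ L := gen.ge.trans (sup_le (fun g a => KL g (le_normalizer a) (GW a))
    (zpowers_le.2 ((mL ⟨s, SM hs.mem⟩).2 (hσ ▸ mem_zpowers _))))
  have CL : ce (Gs S 1) ≤ L := fun g a => KL g (ce_le_nm le_rfl a) (centralizer_le WG a)
  have iP : ¬ p ∣ (zpowers σ).index := fun a => h.locG.syl (a.trans (by
    rw [← index_comap_of_surjective _ π1]
    exact index_dvd_of_le fun g hg => (mL g).1 (sup_le SL CL hg)))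
  have st : MCE.St ρ' (zpowers σ) σ := MCE.st_of ρ1 ⟨le_top, IsPGroup.of_card (n := 1) (by rw [cP, pow_one]),
    by rwa [relIndex_top_right]⟩ (by
      rintro _ ⟨k, rfl⟩
      simp only [hσ, ← map_zpow, ρπ]
      exact tri _ (zpow_mem hs.mem k)) (by rw [hσ, ρπ]; exact reg _ hs)
  have hC : ∀ b, Commute b σ → b ∈ zpowers σ := fun b hb => by
    obtain ⟨g, rfl⟩ := π1 b
    obtain ⟨q, hq, gq⟩ := h.locG.frat L SL CL LM g g.2 (mem_nm_of_conj fun x hx => by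
      refine (mL (g * ⟨x, LM hx⟩ * g⁻¹)).2 ?_
      obtain ⟨k, e⟩ := (mL ⟨x, LM hx⟩).1 hx
      rw [map_mul, map_mul, map_inv, ← e, (hb.zpow_right k).eq, mul_inv_cancel_right]
      exact ⟨k, rfl⟩)
    have c : Commute (π (g * ⟨q, LM hq⟩)) σ := by
      obtain ⟨k, e⟩ := (mL ⟨q, LM hq⟩).1 hq
      rw [map_mul, ← e]
      exact hb.mul_left (Commute.zpow_self σ k)
    have d : ⁅(g : G) * q, s⁆ ∈ Gs S 1 := SK _ (comm_mem_of_nm gq hs.mem)
      ((kπ ⁅g * ⟨q, LM hq⟩, ⟨s, SM hs.mem⟩⁆).1 (by rw [map_commutatorElement, ← hσ, c.commutator_eq]))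
    have := sup_le SL CL (stab_of mc h4 h.locG ⟨h.na, fun a => (nx a).elim⟩ gq
      ((wt_of_gen (mul_mem g.2 (LM hq)) (SM hs.mem) (by rwa [zpow_one])).mono gen.ge le_rfl))
    exact (mL g).1 (by simpa using mul_mem this (inv_mem hq))
  have tW : t ∈ nm (W0 p S) := MW ht.tG
  obtain ⟨d, d1, d2, d3⟩ := lin (t := π ⟨t, ht.tG⟩) h.h5 st cP iP (by omega) hC hl
    (Matrix.ext_iff_mulVec.2 fun v => by
      obtain ⟨x, hx, rfl⟩ := srj v
      have hy := comm_mem_of_nm tW hx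
      have e1 := act ⟨t, ht.tG⟩ x hx
      have e2 := act ⟨t, ht.tG⟩ _ hy
      rw [conj_eq_comm, add _ hy _ hx] at e1
      rw [ht.eig x (h.W_le hx) (comm_W h hr hx), pw _ hy] at e2
      rw [ρπ, ← Matrix.mulVec_mulVec]
      simp only [Matrix.sub_mulVec, Matrix.smul_mulVec, Matrix.one_mulVec, Matrix.mulVec_sub, Matrix.mulVec_add,
        Matrix.mulVec_smul, e1, e2, Matrix.zero_mulVec]
      module)
    (by rw [ρπ, Ne, ker]; exact ht.nW)
    (by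
      refine le_trans (Nat.mul_le_mul ?_ (by rw [hc, Gs_card mc h4 c1 hw])) (ht.card_le h hl hr h1)
      refine Nat.card_le_card_of_surjective (fun x => ⟨κ x.1, by rw [ρπ, act _ _ x.2.1, x.2.2, pw _ x.2.1]⟩) ?_
      rintro ⟨v, hv⟩
      obtain ⟨x, hx, rfl⟩ := srj v
      rw [ρπ, act _ _ hx, ← pw _ hx] at hv
      exact ⟨⟨x, hx, inj _ (zpow_mem hx l) _ (conj_mem tW hx) hv⟩, rfl⟩)
  obtain ⟨y, y1, y2⟩ := Gs_ex mc h4 (k := c) (by omega)
  have : W0 p S ≤ Gs S (c + d) := Wc_le ((Gs_Zo mc h4).le.trans (Gs_anti (by omega)))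
    fun g hg => zr d d2.le ⟨g, hg⟩ (ρπ _ ▸ d3 _)
  exact y2 (Gs_anti (by omega) (this (hc ▸ y1)))

end Cfsg.Agent.MXC
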