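import Cfsg.Agent.MXC.Quad
import Cfsg.Agent.MXC.Wbig
import Cfsg.Agent.MXC.CoreN
import Cfsg.Agent.MXC.CoreX2

set_option autoImplicit false
set_option linter.unusedSectionVars false

namespace Cfsg.Agent.MXC

open Subgroup Cfsg.Agent.H62 Cfsg.Agent.SR3 Cfsg.Agent.MCF
open scoped commutatorElement

universe u

variable {G : Type u} [Group G] [Finite G] {p n i j k m : ℕ} [hp : Fact p.Prime]
  {S E R N D K Q X : Subgroup G} {e g r s t u x y : G} {a b c l : ℤ}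

theorem Co.false (h : Co p n S E) (hN : ¬ S ≤ nm E) : False := by
  by_cases hX : Xc S n
  · exact h.coreX hX hN
  obtain ⟨c, r, c3, -, hc, hr, hr', q⟩ := h.quad
  obtain ⟨l, hl⟩ := exists_prim p
  have r2 : r ∈ Gs S 2 := Gs_anti (by omega) hr
  have r1 : r ∈ Gs S 1 := Gs_anti (by omega) hr
  have rE : r ∈ nm E := mem_nm_of_conj fun x hx => by
    rw [conj_eq_comm]
    refine mul_mem (hc ?_) hx
    have := Gs_comm0 hr (Gs_le (h.le hx))
    rwa [Nat.sub_add_cancel (by omega)] at this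
  obtain ⟨t, -, ht⟩ := h.tor r1 rE hr' q le_rfl (fun _ => nm_nm) (ce_le_nm le_rfl) rE hl
  have hW := ht.W_eq h hl r1 rE
  obtain ⟨c, hc, hc'⟩ := frobG h.mc h.h4 h.locG ⟨h.na, fun e => (hX e).elim⟩ (hW ▸ nm_Wc) ht.tG hl
    (ht.wtZ h (Gs_le r1) hW)
  exact h.coreN hX hl r2 (ht.mul h.le (hW ▸ Gs_anti (by have := h.h4; omega)) hc) hc' hW

end Cfsg.Agent.MXC
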