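import Cfsg.Agent.MXC.Bas2
import Cfsg.Agent.MXC.SE
import Cfsg.Agent.MXC.Fus1

set_option autoImplicit false
set_option linter.unusedSectionVars false

namespace Cfsg.Agent.MXC

open Subgroup Cfsg.Agent.H62 Cfsg.Agent.SR3 Cfsg.Agent.MCF
open scoped commutatorElement

universe u

variable {G : Type u} [Group G] [Finite G] {p n i j k m : ℕ} [hp : Fact p.Prime]
  {S E R N D K Q X : Subgroup G} {e g r s t u x y : G} {a b c l : ℤ}

namespace CoreX1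

theorem gen {w : G} (hc : Nat.card X = p) (hw : w ∈ X) (h1 : w ≠ 1) : zpowers w = X := by
  have k : zpowers w ≤ X := zpowers_le.2 hw
  rcases (Nat.dvd_prime hp.out).1 (hc ▸ card_dvd_of_le k) with e | e
  · exact absurd (zpowers_eq_bot.1 (card_eq_one.1 e)) h1
  · exact eq_of_le_of_card_ge k (hc.trans e.symm).le

theorem cZ (h : MC S p n) (h4 : 4 ≤ n) : Nat.card (Gs S (n - 1)) = p :=
  (Gs_card (m := 1) h h4 (by omega) (by omega)).trans (pow_one p)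

theorem ind (h : MC S p n) (h4 : 4 ≤ n) (hx : x ∈ Gs S 1) (h1 : x ∉ Gs S (n - 1)) :
    ∃ j, 1 ≤ j ∧ j + 2 ≤ n ∧ x ∈ Gs S j ∧ x ∉ Gs S (j + 1) := by
  obtain ⟨j, a1, a2, a3⟩ := Gs_idx h h4 (Gs_le hx) fun e => h1 (e ▸ one_mem _)
  refine ⟨j, by_contra fun c => a3 (Gs_anti (by omega) hx), by_contra fun c => h1 (Gs_anti (by omega) a2), a2, a3⟩

theorem cenZ (h : MC S p n) (h4 : 4 ≤ n) (hX : Xc S n) (hx : x ∈ Gs S 1) (hc : x ∈ ce (Gs S 1)) :
    x ∈ Gs S (n - 1) := by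
  by_contra c
  obtain ⟨j, a1, a2, a3, a4⟩ := ind h h4 hx c
  obtain ⟨y, hy, e⟩ := hX.pair h h4 a1 a2 a3 a4
  exact e (commutatorElement_eq_one_iff_mul_comm.2 (mem_ce.1 hc y (Gs_anti (by omega) hy)).symm)

theorem comm (h : MC S p n) (h4 : 4 ≤ n) (hx : x ∈ Gs S i) (hy : y ∈ Gs S j) (e : n ≤ i + j) : x * y = y * x :=
  commutatorElement_eq_one_iff_mul_comm.1 (mem_bot.1 (Gs_bot h h4 e ▸ Gs_comm hx hy))

theorem idx1 {Y : Subgroup G} {w : G} (hc : Nat.card Y = p) (h1 : ∀ x ∈ X, ⁅x, w⁆ ∈ Y) :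
    Nat.card X ≤ p * Nat.card ↥(X ⊓ centralizer {w}) := by
  have := idx (Z := ⊥) (fun _ _ => nm_bot) h1 bot_le
  rwa [card_bot, mul_one, St_bot, hc, mul_comm] at this

end CoreX1

open CoreX1

theorem Co.W_eq (h : Co p n S E) (hX : Xc S n) : W0 p S = Gs S (n - 1) :=
  le_antisymm (fun _ hd => have k := Zo_le (W0_le h.mc h.h4 hd); cenZ h.mc h.h4 hX k.1 k.2) (Z_le_W0 h.mc h.h4)

namespace CoreX1

variable {w : G}

theorem exg (h : Co p n S E) (hX : Xc S n) : ∃ g ∈ nm E, g ∉ nm (Gs S (n - 1)) := by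
  by_contra! c
  exact h.nW (h.W_eq hX ▸ c)

theorem inV (h : Co p n S E) (hg : g ∈ nm E) (hw : w ∈ cj g (Gs S (n - 1))) : w ∈ E ⊓ ce E :=
  Zo_le (p := p) (cj_eq (nm_Zo (p := p) hg) ▸ cj_mono g h.Z_le hw)

theorem ti (h : Co p n S E) (hg' : g ∉ nm (Gs S (n - 1))) (hw : w ∈ cj g (Gs S (n - 1))) (h1 : w ≠ 1) :
    w ∉ Gs S (n - 1) := fun c => hg' (mem_nm_iff.2
  ((gen ((card_cj g _).trans (cZ h.mc h.h4)) hw h1).symm.trans (gen (cZ h.mc h.h4) c h1)))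

theorem X1 (h : Co p n S E) (hX : Xc S n) (hg : g ∈ nm E) (hg' : g ∉ nm (Gs S (n - 1)))
    (hw : w ∈ cj g (Gs S (n - 1))) (h1 : w ≠ 1) : S ⊓ centralizer {w} ≤ E := by
  refine le_of_nm h.mc.isPGroup (fun x hx => ⟨Gs_le (h.le hx),
    mem_centralizer_singleton_iff.2 (mem_ce.1 (inV h hg hw).2 x hx)⟩) inf_le_left fun u hu => by_contra fun c => ?_
  have k : u ∈ nm (zpowers w) := ce_le_nm le_rfl (mem_ce.2 (by
    rintro _ ⟨m, rfl⟩
    exact (Commute.zpow_left (mem_centralizer_singleton_iff.1 hu.1.2).symm m).eq))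
  rw [gen ((card_cj g _).trans (cZ h.mc h.h4)) hw h1, ← cj_nm, mem_cj] at k
  have := h.se hu.1.1 hu.2 c (inv_mem hg) (by rwa [inv_inv, h.W_eq hX])
  exact hg' (h.W_eq hX ▸ inv_mem_iff.1 this)

end CoreX1

/-- an element `u` of `E` with `[u, E] ≤ Z` is central -/
theorem Co.x3 (h : Co p n S E) (hX : Xc S n) (hu : u ∈ E) (h1 : ∀ x ∈ E, ⁅u, x⁆ ∈ Gs S (n - 1)) :
    u ∈ ce E := by
  by_contra c
  obtain ⟨g, hg, hg'⟩ := exg h hX
  have hE : g * u * g⁻¹ ∈ E := conj_mem hg hu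
  have k : ∀ x ∈ E, ⁅g * u * g⁻¹, x⁆ ∈ cj g (Gs S (n - 1)) := fun x hx => by
    have := conj_mem_cj g (h1 _ (conj_mem (inv_mem hg) hx))
    rwa [conj_comm, show g * (g⁻¹ * x * g⁻¹⁻¹) * g⁻¹ = x by group] at this
  obtain ⟨x, hx, e⟩ : ∃ x ∈ E, ⁅g * u * g⁻¹, x⁆ ≠ 1 := by
    by_contra! c'
    refine c (mem_ce.2 fun x hx => ?_)
    have := c' _ (conj_mem hg hx)
    rw [← conj_comm, mul_inv_eq_one, mul_eq_left] at this
    exact (commutatorElement_eq_one_iff_mul_comm.1 this).symm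
  obtain ⟨j, a1, a2, a3, a4⟩ := ind h.mc h.h4 (h.le hE) fun c' =>
    e (commutatorElement_eq_one_iff_mul_comm.2 (comm h.mc h.h4 c' (h.le hx) (by omega)))
  obtain ⟨y, hy, e'⟩ := hX.pair h.mc h.h4 a1 a2 a3 a4
  have hyE : y ∈ E := X1 h hX hg hg' (k x hx) e ⟨Gs_le hy, mem_centralizer_singleton_iff.2
    (comm h.mc h.h4 hy (Gs_comm0 a3 (Gs_le (h.le hx))) (by omega))⟩
  exact ti h hg' (k y hyE) e' (Gs_anti (by omega) (Gs_comm a3 hy))

theorem Co.x1 (h : Co p n S E) (hX : Xc S n) (hN : ¬ S ≤ nm E) : NA S n ∧ ∃ i, 1 ≤ i ∧ i + 3 ≤ n ∧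
    E ≤ Gs S i ∧ Gs S (n - i) ≤ E ∧ ¬ Gs S (n - i - 1) ≤ E ∧
    ∃ j x, i < j ∧ j + 2 ≤ n ∧ Even (j - i) ∧ x ∈ E ∧ x ∈ Gs S j ∧ x ∉ Gs S (j + 1) := by
  obtain ⟨g, hg, hg'⟩ := exg h hX
  obtain ⟨n6, ne, -⟩ := hX.num h.mc h.h4
  have h4 := h.h4
  have cz := cZ h.mc h4
  obtain ⟨w0, hw0, e0⟩ := Gs_ex (k := n - 1) h.mc h4 (by omega)
  have hw := conj_mem_cj g hw0
  have h1 : g * w0 * g⁻¹ ≠ 1 := fun c => e0 (by
    rw [mul_inv_eq_one, mul_eq_left] at c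
    exact c ▸ one_mem _)
  generalize g * w0 * g⁻¹ = w at hw h1
  have hV := inV h hg hw
  have k := X1 h hX hg hg' hw h1
  refine ⟨⟨h.na, fun _ c => ?_⟩, ?_⟩
  · have ab : E ≤ ce E := fun u hu => h.x3 hX hu fun x hx => (c (h.le hu)).2 x (h.le hx)
    have c1 : Nat.card (Gs S 1) ≤ p * Nat.card E := (idx1 cz fun x hx => (c hx).2 w (h.le hV.1)).trans
      (Nat.mul_le_mul_left _ (card_le_of_le ((inf_le_inf_right _ Gs_le).trans k)))
    obtain ⟨y, hy, hy'⟩ : ∃ y ∈ Gs S 1, y ∉ E := by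
      by_contra! c'
      exact h.n2 fun x hx => c' x (Gs_anti one_le_two hx)
    have e := sup_zpowers_eq (h.mc.isPGroup.to_le Gs_le) h.le c1 hy hy'
    have c2 := idx1 (X := E) (w := y) cz fun x hx => (c (h.le hx)).2 y hy
    have c3 : E ⊓ centralizer {y} ≤ Gs S (n - 1) := fun d hd => cenZ h.mc h4 hX (h.le hd.1) (by
      have : Gs S 1 ≤ centralizer {d} := e ▸ sup_le
        (fun x hx => mem_centralizer_singleton_iff.2 (mem_ce.1 (ab hd.1) x hx))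
        (zpowers_le.2 (mem_centralizer_singleton_iff.2 (mem_centralizer_singleton_iff.1 hd.2).symm))
      exact mem_ce.2 fun x hx => mem_centralizer_singleton_iff.1 (this hx))
    have c4 := c1.trans (Nat.mul_le_mul_left _ (c2.trans (Nat.mul_le_mul_left _ (card_le_of_le c3))))
    rw [cz, Gs_card (m := n - 1) h.mc h4 le_rfl (by omega), show p * (p * p) = p ^ 3 by ring,
      Nat.pow_le_pow_iff_right hp.out.one_lt] at c4
    omega
  obtain ⟨i, a1, a2, a3, a4⟩ := ind h.mc h4 (h.le hV.1) (ti h hg' hw h1)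
  have b1 : Gs S (n - i) ≤ E := fun y hy =>
    k ⟨Gs_le hy, mem_centralizer_singleton_iff.2 (comm h.mc h4 hy a3 (by omega))⟩
  have b2 : i + 3 ≤ n := by_contra fun c => h.n2 ((Gs_anti (by omega)).trans b1)
  have b3 : ¬ Gs S (n - i - 1) ≤ E := fun c => by
    obtain ⟨y, hy, e⟩ := hX.pair h.mc h4 a1 a2 a3 a4
    exact e (commutatorElement_eq_one_iff_mul_comm.2 (mem_ce.1 hV.2 y (c (Gs_anti (by omega) hy))).symm)
  have b4 : ∀ m, m + 1 ≤ i → E ≤ Gs S (m + 1) := fun m => by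
    induction m with
    | zero => exact fun _ => h.le
    | succ m ih =>
      refine fun hm x hx => by_contra fun c => ?_
      obtain ⟨y, hy, e⟩ := hX.pair h.mc h4 (by omega) (by omega) (ih (by omega) hx) c
      have := h.x3 hX (b1 (Gs_anti (by omega) hy)) fun x' hx' => Gs_anti (by omega) (Gs_comm hy (ih (by omega) hx'))
      exact e (commutatorElement_eq_one_iff_mul_comm.2 (mem_ce.1 this x hx))
  have b5 : E ≤ Gs S i := (b4 (i - 1) (by omega)).trans (Gs_anti (by omega))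
  obtain ⟨m, hm⟩ := ne
  refine ⟨i, a1, b2, b5, b1, b3, ?_⟩
  by_cases i1 : i = 1
  · subst i1
    have c1 := idx1 (X := Gs S (n - 3)) (w := w) cz fun x hx =>
      Gs_anti (by omega) (Gs_comm1 h.mc h4 (.inl (by omega)) hx a3)
    obtain ⟨x, hx, hx'⟩ : ∃ x ∈ Gs S (n - 3) ⊓ centralizer {w}, x ∉ Gs S (n - 3 + 1) := by
      by_contra! c
      have e := eq_of_le_of_card_ge (H := Gs S (n - 3) ⊓ centralizer {w}) c (by
        rw [Gs_card (m := 3) h.mc h4 (by omega) (by omega), pow_succ'] at c1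
        rw [Gs_card (m := 2) h.mc h4 (by omega) (by omega)]
        exact Nat.le_of_mul_le_mul_left c1 hp.out.pos)
      exact b3 ((Gs_anti (by omega)).trans (e.ge.trans ((inf_le_inf_right _ Gs_le).trans k)))
    exact ⟨n - 3, x, by omega, by omega, ⟨m - 2, by omega⟩, k ⟨Gs_le hx.1, hx.2⟩, hx.1, hx'⟩
  · obtain ⟨x, hx, hx'⟩ := Gs_ex (k := n - i) h.mc h4 (by omega)
    have b6 : i < n - i := by_contra fun c =>
      hN (le_antisymm b5 ((Gs_anti (by omega)).trans b1) ▸ nm_Gs)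
    exact ⟨n - i, x, b6, by omega, ⟨m - i, by omega⟩, b1 hx, hx, hx'⟩

end Cfsg.Agent.MXC
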