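/-
Project MXC (S5267): essential subgroups of groups of maximal class. See `notes/MXC.md`.
-/
import Cfsg.Agent.MCE.Amb
import Cfsg.Agent.MCE.Main
import Cfsg.Agent.SR3.Rows
import Cfsg.Agent.H62.MaxClAut

set_option autoImplicit false
set_option linter.unusedSectionVars false

namespace Cfsg.Agent.MXC

open Subgroup Cfsg.Agent.H62 Cfsg.Agent.SR3 Cfsg.Agent.MCF
open scoped commutatorElement

universe u

variable {G : Type u} [Group G] {p n i j k m : ℕ} {S E : Subgroup G} {a b c r t x y : G} {l : ℤ}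

/-- The series `S ≥ γ₁ ≥ γ₂ = S' ≥ γ₃ ≥ ⋯` in the ambient group. -/
def Gs (S : Subgroup G) (k : ℕ) : Subgroup G := (GS S k).map S.subtype

/-- The centralizer of the second centre. -/
def Cs (S : Subgroup G) (n : ℕ) : Subgroup G := Ka S (n - 3)

/-- exceptional groups -/
def Xc (S : Subgroup G) (n : ℕ) : Prop := Gs S 1 ≠ Cs S n

/-- uniform elements -/
structure Un (S : Subgroup G) (n : ℕ) (s : G) : Prop where
  mem : s ∈ S
  n1 : s ∉ Gs S 1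
  n2 : s ∉ Cs S n

/-- `γ₁` is not abelian, and not abelian modulo the centre when `S` is exceptional -/
structure NA (S : Subgroup G) (n : ℕ) : Prop where
  na : ¬ Gs S 1 ≤ ce (Gs S 1)
  nx : Xc S n → ¬ Gs S 1 ≤ St (Gs S 1) (Gs S (n - 1))

/-- all weights of an automorphism are powers of its weight on `S / γ₁` -/
structure Pw (S : Subgroup G) (n e s : ℕ) : Prop where
  x : Xc S n → s = 2 * e + n - 1
  nx : ¬ Xc S n → s = e + n - 1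
  low : ∀ t ∈ nm S, ∀ a : ℤ, Wt t S (Gs S 1) a → ∀ j, 1 ≤ j → j + 2 ≤ n →
    Wt t (Gs S j) (Gs S (j + 1)) (a ^ (e + j))
  top : ∀ t ∈ nm S, ∀ a : ℤ, Wt t S (Gs S 1) a → Wt t (Gs S (n - 1)) ⊥ (a ^ s)

/-- primitive roots -/
def Prim (p : ℕ) (l : ℤ) : Prop := IsPrimitiveRoot (l : ZMod p) (p - 1)

/-- the local properties of an essential subgroup -/
structure Es (p : ℕ) (S E : Subgroup G) : Prop where
  le : E ≤ S
  lt : ¬ S ≤ E
  loc : Loc p (S ⊓ nm E) E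
  rad : ∀ K : Subgroup G, K ≤ nm E → nm E ≤ nm K → (∀ g ∈ K, ∃ m, g ^ p ^ m ∈ ce E) → S ⊓ K ≤ E

/-- automorphisms of `E` which extend to a larger subgroup are induced by `N(γ₁)` -/
def Ext (S E : Subgroup G) : Prop :=
  ∀ Q K : Subgroup G, E ≤ Q → Q ≤ S ⊓ nm E → ¬ Q ≤ E → ce E ≤ K → K ≤ nm E → nm E ≤ nm K →
    S ⊓ K ≤ Q → ∀ h ∈ nm E, h ∈ nm (Q ⊔ K) → ∃ m ∈ nm (Gs S 1), m ∈ nm E ∧ m⁻¹ * h ∈ K

/-- the normal closure of the centre in `N(γ₁)` -/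
abbrev W0 (p : ℕ) (S : Subgroup G) : Subgroup G := Wc p S (Gs S 1)

/-- the configuration to be refuted -/
structure Co (p n : ℕ) (S E : Subgroup G) : Prop where
  mc : MC S p n
  h5 : 5 ≤ p
  h4 : 4 ≤ n
  le : E ≤ Gs S 1
  n2 : ¬ Gs S 2 ≤ E
  cen : S ⊓ ce E ≤ E
  loc : Loc p (S ⊓ nm E) E
  ext : Ext S E
  locG : Loc p S (Gs S 1)
  nW : ¬ nm E ≤ nm (W0 p S)

/-- a torus element for the quadratic element `r` -/
structure To (p : ℕ) (S E : Subgroup G) (l : ℤ) (r t : G) : Prop where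
  tG : t ∈ nm (Gs S 1)
  tE : t ∈ nm E
  eig : ∀ x ∈ Zo p E, Commute r x → t * ⁅t, x⁆ * t⁻¹ = ⁅t, x⁆ ^ l
  im : ∀ x ∈ Zo p E, Commute r x → ∃ u ∈ Zo p E, ⁅t, x⁆ = ⁅r, u⁆
  nW : t ∉ ce (W0 p S)
  neg : ∃ v ∈ Zo p E, ¬ Commute r v ∧ t * v ^ l * t⁻¹ = v

theorem coe_Gs {x : S} : (x : G) ∈ Gs S k ↔ x ∈ GS S k := mem_map_iff_mem S.subtype_injective
theorem Gs_le : Gs S k ≤ S := map_subtype_le _
theorem Cs_le : Cs S n ≤ S := Ka_le
theorem Gs_zero : Gs S 0 = S := le_antisymm Gs_le fun x hx => ⟨⟨x, hx⟩, mem_top _, rfl⟩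
theorem Gs_one : Gs S 1 = Ka S 1 := rfl
theorem Gs_eq (hk : 2 ≤ k) : Gs S k = Ga S (k - 1) := by rw [Gs, GS_eq hk, Ga]
theorem Gs_anti (h : i ≤ j) : Gs S j ≤ Gs S i := map_mono (GS_anti h)
theorem Gs_two_le_Cs : Gs S 2 ≤ Cs S n := Ga_le_Ka

theorem Gs_comm0 (ha : a ∈ Gs S i) (hb : b ∈ S) : ⁅a, b⁆ ∈ Gs S (i + 1) := by
  obtain ⟨a, ha, rfl⟩ := ha
  exact ⟨_, GS_comm_top i (commutator_mem_commutator ha (mem_top ⟨b, hb⟩)), rfl⟩

theorem Gs_comm0' (ha : a ∈ S) (hb : b ∈ Gs S i) : ⁅a, b⁆ ∈ Gs S (i + 1) := comm_symm (Gs_comm0 hb ha)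

theorem nm_Gs : S ≤ nm (Gs S k) :=
  le_nm_of_comm fun _ hg _ hx => Gs_anti (Nat.le_succ k) (Gs_comm0' hg hx)

theorem nm_Cs : S ≤ nm (Cs S n) := nm_Ka

theorem S_St_Gs (h : m ≤ j + 1) : S ≤ St (Gs S j) (Gs S m) :=
  le_St nm_Gs fun _ hg _ hx => Gs_anti h (Gs_comm0' hg hx)

theorem Gs_St_S (h : m ≤ j + 1) : Gs S j ≤ St S (Gs S m) :=
  le_St (Gs_le.trans nm_Gs) fun _ hg _ hx => Gs_anti h (Gs_comm0 hg hx)

theorem nm_map_of_char [Finite G] {X : Subgroup S} (h : ∀ φ : MulAut S, ∀ y ∈ X, φ y ∈ X) :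
    nm S ≤ nm (X.map S.subtype) := fun g hg => mem_nm_of_conj (by
  rintro _ ⟨y, hy, rfl⟩
  exact ⟨_, h (S.normalizerMonoidHom ⟨g, hg⟩) y hy, rfl⟩)

theorem nmS_Gs [Finite G] : nm S ≤ nm (Gs S k) := nm_map_of_char fun φ y hy => by
  match k with
  | 0 => trivial
  | 1 => exact aut_mem_KK φ hy
  | (k + 2) => exact aut_mem_LL φ hy

theorem nmS_Cs [Finite G] : nm S ≤ nm (Cs S n) := nm_map_of_char fun φ _ hy => aut_mem_KK φ hy

theorem Es.cen (h : Es p S E) : S ⊓ ce E ≤ E :=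
  h.rad _ (ce_le_nm le_rfl) (fun _ => nm_ce) fun g hg => ⟨0, by simpa using hg⟩

theorem To.mul (h : To p S E l r t) (hE : E ≤ Gs S 1) (hW : W0 p S ≤ Gs S 1) (hc : c ∈ ce (Gs S 1)) :
    To p S E l r (t * c) := by
  have k : ∀ x ∈ Gs S 1, t * c * x * (t * c)⁻¹ = t * x * t⁻¹ := fun x hx => by
    rw [mul_assoc t, ← mem_ce.1 hc x hx]
    group
  have V : ∀ x ∈ Zo p E, x ∈ Gs S 1 := fun x hx => hE (Zo_le hx).1
  have k' : ∀ x ∈ Gs S 1, ⁅t * c, x⁆ = ⁅t, x⁆ := fun x hx => by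
    rw [commutatorElement_def, k x hx, commutatorElement_def]
  refine ⟨mul_mem h.tG (ce_le_nm le_rfl hc), mul_mem h.tE (ce_le_nm hE hc), fun x hx e => ?_,
    fun x hx e => ?_, fun e => h.nW ?_, ?_⟩
  · rw [k' x (V x hx), k _ (comm_mem_of_nm h.tG (V x hx)), h.eig x hx e]
  · rw [k' x (V x hx)]
    exact h.im x hx e
  · simpa using mul_mem e (inv_mem (centralizer_le hW hc))
  · obtain ⟨v, hv, e1, e2⟩ := h.neg
    exact ⟨v, hv, e1, by rw [k _ (zpow_mem (V v hv) l), e2]⟩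

variable [hp : Fact p.Prime]

theorem exists_prim (p : ℕ) [hp : Fact p.Prime] : ∃ l : ℤ, Prim p l := by
  obtain ⟨g, hg⟩ := IsCyclic.exists_ofOrder_eq_natCard (α := (ZMod p)ˣ)
  obtain ⟨l, hl⟩ := ZMod.intCast_surjective (g : ZMod p)
  refine ⟨l, ?_⟩
  rw [Prim, hl, IsPrimitiveRoot.coe_units_iff, ← ZMod.card_units p, ← Nat.card_eq_fintype_card, ← hg]
  exact IsPrimitiveRoot.orderOf g

theorem Prim.dvd_iff (h : Prim p l) (k : ℕ) : (p : ℤ) ∣ l ^ k - 1 ↔ p - 1 ∣ k := by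
  rw [← IsPrimitiveRoot.pow_eq_one_iff_dvd h, ← ZMod.intCast_zmod_eq_zero_iff_dvd]
  push_cast
  exact sub_eq_zero

theorem Prim.ne_zero (h : Prim p l) : (l : ZMod p) ≠ 0 :=
  IsPrimitiveRoot.ne_zero h (by have := hp.out.two_le; omega)

theorem Prim.not_dvd (h : Prim p l) : ¬ (p : ℤ) ∣ l := fun e =>
  h.ne_zero ((ZMod.intCast_zmod_eq_zero_iff_dvd _ _).2 e)

theorem Prim.of_pow (h : Prim p l) {a : ℤ} {s : ℕ} (hs : 1 ≤ s) (e : (p : ℤ) ∣ a ^ s - l) :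
    Prim p a ∧ Nat.Coprime s (p - 1) := by
  have e' : (a : ZMod p) ^ s = l := by
    have := (ZMod.intCast_zmod_eq_zero_iff_dvd _ _).2 e
    push_cast at this
    exact sub_eq_zero.1 this
  have a0 : (a : ZMod p) ≠ 0 := fun z => h.ne_zero (by rw [← e', z, zero_pow (by omega)])
  have pa : Prim p a := ⟨ZMod.pow_card_sub_one_eq_one a0, fun k hk =>
    h.dvd_of_pow_eq_one k (by rw [← e', ← pow_mul, mul_comm, pow_mul, hk, one_pow])⟩
  exact ⟨pa, (IsPrimitiveRoot.pow_iff_coprime pa (by have := hp.out.two_le; omega) s).1 (e' ▸ h)⟩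

end Cfsg.Agent.MXC
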