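import Cfsg.Agent.MXC.Bas2
import Cfsg.Agent.MXC.Bas3
import Cfsg.Agent.MXC.Fus1
import Cfsg.Agent.MXC.Wrap

set_option autoImplicit false
set_option linter.unusedSectionVars false

namespace Cfsg.Agent.MXC

open Subgroup Cfsg.Agent.H62 Cfsg.Agent.SR3 Cfsg.Agent.MCF
open scoped commutatorElement

universe u

variable {G : Type u} [Group G] [Finite G] {p n i j k m : ℕ} [hp : Fact p.Prime]
  {S E R N D K Q X : Subgroup G} {e g r s t u x y : G} {a b c l : ℤ}

theorem small (h : MC S p n) (h5 : 5 ≤ p) (hn : 5 ≤ n) (hF : (groupFusionSystem S).IsSaturated p) (hE : (groupFusionSystem S).IsEssential p E) (hle : E ≤ Gs S 1) :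
    p ^ 4 ≤ Nat.card E := by
  have h4 : 4 ≤ n := by omega
  have es := es_of h.isPGroup hF hE
  have p1 := hp.out.one_lt
  obtain ⟨m, rfl⟩ : ∃ m, n = m + 3 := ⟨n - 3, by omega⟩
  have cZ : Nat.card (Gs S (m + 2)) = p := (Gs_card h h4 (m := 1) (by omega) rfl).trans (pow_one p)
  have c3 : Nat.card (Gs S m) = p ^ 3 := Gs_card h h4 (by omega) rfl
  have zc : S ⊓ ce S = Gs S (m + 2) := Gs_cen h h4
  have zS : ∀ z ∈ Gs S (m + 2), ∀ x ∈ S, x * z = z * x := fun z hz => mem_ce.1 (zc.ge hz).2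
  have zE : Gs S (m + 2) ≤ E ⊓ ce E := fun z hz =>
    have : z ∈ ce E := mem_ce.2 fun x hx => zS z hz x (es.le hx)
    ⟨es.cen ⟨Gs_le hz, this⟩, this⟩
  have cm : ∀ x ∈ Gs S m, ∀ e ∈ E, ⁅x, e⁆ ∈ Gs S (m + 2) := fun x hx e he =>
    Gs_comm1 h h4 (i := m) (j := 1) (.inl le_rfl) hx (hle he)
  have ab : Gs S m ≤ ce (Gs S m) := by
    obtain ⟨y, hy, hy'⟩ := Gs_ex h h4 (k := m) (by omega)
    have g := Gs_gen h h4 hy hy'
    have k : Gs S (m + 1) ≤ ce (Gs S m) := fun z hz => mem_ce.2 fun x hx =>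
      commutatorElement_eq_one_iff_mul_comm.1 (mem_bot.1 (Gs_bot h h4 (k := m + (m + 1)) (by omega) ▸ Gs_comm hx hz))
    refine g.ge.trans (sup_le k (zpowers_le.2 (mem_ce.2 fun x hx => ?_)))
    have : Gs S m ≤ centralizer {y} := g.ge.trans (sup_le (fun z hz => mem_centralizer_singleton_iff.2
      (mem_ce.1 (k hz) y hy).symm) (zpowers_le.2 (mem_centralizer_singleton_iff.2 rfl)))
    exact mem_centralizer_singleton_iff.1 (this hx)
  rcases size h h5 hn hF hE with c | ⟨c, na⟩ | c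
  · exfalso
    have pE : IsPGroup p E := .of_card c
    have zE' : Gs S (m + 2) ≤ E := zE.trans inf_le_left
    obtain ⟨u, hu, hu'⟩ : ∃ u ∈ E, u ∉ Gs S (m + 2) := SetLike.not_le_iff_exists.1 fun k => by
      have := card_le_of_le k
      rw [c, cZ] at this
      nlinarith
    have g := sup_zpowers_eq pE zE' (by rw [c, cZ, sq]) hu hu'
    have i := idx (X := Gs S m) (Z := ⊥) (a := u) (fun _ _ => nm_bot) (fun x hx => cm x hx u hu) bot_le
    rw [c3, cZ, card_bot, mul_one, St_bot, pow_succ] at i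
    have l : Gs S m ⊓ centralizer {u} ≤ E := fun x hx => es.cen ⟨Gs_le hx.1, mem_ce.2 fun e he => by
      have : E ≤ centralizer {x} := g.ge.trans (sup_le (fun z hz => mem_centralizer_singleton_iff.2
        (zS z hz x (Gs_le hx.1)).symm) (zpowers_le.2 (mem_centralizer_singleton_iff.2
          (mem_centralizer_singleton_iff.1 hx.2).symm)))
      exact mem_centralizer_singleton_iff.1 (this he)⟩
    have e : E ≤ Gs S m := (eq_of_le_of_card_ge l (c ▸ Nat.le_of_mul_le_mul_right i (by omega))).ge.trans inf_le_left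
    have := card_le_of_le (show Gs S m ≤ E from fun x hx => es.cen ⟨Gs_le hx, centralizer_le e (ab hx)⟩)
    rw [c, c3] at this
    exact absurd (Nat.pow_lt_pow_right p1 (by norm_num : 2 < 3)) (not_lt.2 this)
  · exfalso
    have e : Gs S (m + 2) = E ⊓ ce E := eq_of_le_of_card_ge zE (by rw [card_cen_cube c na, cZ])
    have l : Gs S m ≤ E := fun x hx => es.chain2 (D := Gs S (m + 2)) (zE.trans inf_le_left)
      (fun g hg => e ▸ nm_inf hg (nm_ce hg)) (Gs_le hx) ⟨nm_Gs (Gs_le hx), cm x hx⟩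
      (mem_ce.2 fun z hz => (zS z hz x (Gs_le hx)).symm)
    exact na (eq_of_le_of_card_ge l (by rw [c, c3]) ▸ ab)
  · exact c

end Cfsg.Agent.MXC
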