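import Cfsg.Agent.MXC.CC1
import Cfsg.Agent.MXC.Small
import Cfsg.Agent.MXC.TyB
import Cfsg.Agent.MXC.Fus2

set_option autoImplicit false
set_option linter.unusedSectionVars false

namespace Cfsg.Agent.MXC

open Subgroup Cfsg.Agent.H62 Cfsg.Agent.SR3 Cfsg.Agent.MCF
open scoped commutatorElement

universe u

variable {G : Type u} [Group G] [Finite G] {p n i j k m : ℕ} [hp : Fact p.Prime]
  {S E R N D K Q X : Subgroup G} {e g r s t u x y : G} {a b c l : ℤ}

theorem ext_of (h : MC S p n) (h5 : 5 ≤ p) (hn : 5 ≤ n) (hF : (groupFusionSystem S).IsSaturated p) (hE : (groupFusionSystem S).IsEssential p E) (hle : E ≤ Gs S 1)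
    (hN : ¬ S ≤ nm E) (hmax : ∀ R, (groupFusionSystem S).IsEssential p R → R ≤ Gs S 1 →
      Nat.card E < Nat.card R → R = Gs S 1) : Ext S E := by
  have h4 : 4 ≤ n := by omega
  have hS := h.isPGroup
  have es := es_of hS hF hE
  have p1 : 1 < p := hp.out.one_lt
  have hZ : Gs S (n - 1) ≤ E := by
    rw [← Gs_cen h h4]
    exact le_trans (inf_le_inf_left _ (centralizer_le es.le)) es.cen
  have hNG : S ⊓ nm E ≤ Gs S 1 := fun x hx => by
    by_contra hx'
    obtain ⟨c, -, -, e⟩ := up_eq h h4 hZ hle hx.1 hx' hx.2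
    exact hN (e ▸ nm_Gs)
  have sm := small h h5 hn hF hE hle
  intro Q K q1 q2 q3 k1 k2 k3 k4 g hg hg'
  obtain ⟨k, hk, e1⟩ := frat2 es.loc q2 k1 k2 k3 (le_trans (inf_le_inf_right _ inf_le_left) k4) hg hg'
  obtain ⟨c, hc, e2⟩ := ext0 hS hF hE q1 q2 (mul_mem hg (k2 hk)) e1
  have QS : Q ≤ S := q2.trans inf_le_left
  have lt : Nat.card E < Nat.card Q := by
    have := mul_card_le (hS.to_le QS) (lt_of_le_not_ge q1 q3)
    have h0 : 0 < Nat.card E := Nat.card_pos
    nlinarith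
  obtain ⟨m, hm, e3⟩ := alp (g := g * k * c) hS hF (M := nm (Gs S 1)) nmS_Gs
    (fun Q' => Nat.card E < Nat.card Q' ∧ Q' ≤ Gs S 1)
    (fun g hg Q' h' => ⟨by rw [card_cj]; exact h'.1, (cj_mono g h'.2).trans (cj_eq hg).le⟩)
    (fun R Q' hR le h' => by
      have c1 : Nat.card E < Nat.card R := h'.1.trans_le (card_le_of_le le)
      have eR := es_of hS hF hR
      by_cases a1 : R ≤ Gs S 1
      · rw [hmax R hR a1 c1]
      exfalso
      by_cases a2 : R ≤ Cs S n
      · have hX : Xc S n := fun e => a1 (e ▸ a2)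
        rcases cc1 h h4 hX eR a2 a1 with e | ⟨e, e'⟩
        · omega
        · have : Q' ≤ Gs S 2 := hX.inf h h4 ▸ le_inf h'.2 (le.trans a2)
          have := card_le_of_le this
          rw [Gs_card h h4 (k := 2) (m := 4) (by omega) (by omega)] at this
          omega
      · obtain ⟨s, hs, hu⟩ := un_of h h4 eR.le a1 a2
        have b2 : p ^ 2 ≤ p ^ 4 := Nat.pow_le_pow_right p1.le (by omega)
        have b3 : p ^ 3 ≤ p ^ 4 := Nat.pow_le_pow_right p1.le (by omega)
        rcases tyb h h4 eR hs hu with e | ⟨e, -⟩ <;> omega)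
    QS ⟨lt, q2.trans hNG⟩ ((cj_eq e2).le.trans QS)
  have e4 : m⁻¹ * (g * k * c) ∈ K := k1 (centralizer_le q1 e3)
  have e5 : m⁻¹ * g ∈ K := by
    have := mul_mem (mul_mem e4 (inv_mem (k1 hc))) (inv_mem hk)
    simpa [mul_assoc] using this
  refine ⟨m, hm, ?_, e5⟩
  simpa using mul_mem hg (inv_mem (k2 e5))

end Cfsg.Agent.MXC
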