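import Cfsg.Agent.MXC.Bas2
import Cfsg.Agent.MXC.Bas3
import Cfsg.Agent.MXC.Fus1

set_option autoImplicit false
set_option linter.unusedSectionVars false

namespace Cfsg.Agent.MXC

open Subgroup Cfsg.Agent.H62 Cfsg.Agent.SR3 Cfsg.Agent.MCF
open scoped commutatorElement

universe u

variable {G : Type u} [Group G] [Finite G] {p n i j k m : ℕ} [hp : Fact p.Prime]
  {S E R N D K Q X : Subgroup G} {e g r s t u x y : G} {a b c l : ℤ}

namespace P23

theorem nongen (h1 : K ≤ X) (h2 : X ≤ K ⊔ Phi X) : X ≤ K := by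
  have : K.subgroupOf X = ⊤ := frattini_nongenerating (by
    apply map_injective X.subtype_injective
    rw [Subgroup.map_sup, map_subgroupOf_eq_of_le h1, ← MonoidHom.range_eq_map, range_subtype]
    exact le_antisymm (sup_le h1 Phi_le) h2)
  exact subgroupOf_eq_top.1 this

theorem gen2 (h : MC S 3 n) (h5 : 5 ≤ n) : ∃ x y : G, Gs S 1 = Subgroup.closure ({x, y} : Set G) := by
  have h4 : 4 ≤ n := by omega
  have pG : IsPGroup 3 (Gs S 1) := h.isPGroup.to_le Gs_le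
  obtain ⟨x, hx, hx'⟩ := Gs_ex (k := 1) h h4 (by omega)
  obtain ⟨y, hy, hy'⟩ := Gs_ex (k := 2) h h4 (by omega)
  obtain ⟨c, c1, c2, hc⟩ := Gs_normal h h4 (Phi_le (X := Gs S 1)) fun g hg => nm_Phi (nm_Gs hg)
  have r := rank_le h h4 (by omega) le_rfl fun x hx => pow_mem_Phi pG hx
  rw [hc, Gs_card (m := n - 1) h h4 le_rfl (by omega), Gs_card (m := n - c) h h4 c1 (by omega), ← pow_add,
    Nat.pow_le_pow_iff_right (by norm_num)] at r
  have l : Subgroup.closure ({x, y} : Set G) ≤ Gs S 1 := (closure_le _).2 (by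
    rintro _ (rfl | rfl)
    exacts [hx, Gs_anti (by norm_num) hy])
  refine ⟨x, y, le_antisymm (nongen l ?_) l⟩
  rw [hc]
  refine (Gs_gen h h4 hx hx').ge.trans (sup_le ((Gs_gen h h4 hy hy').ge.trans (sup_le ?_ ?_)) ?_)
  · exact le_sup_of_le_right (Gs_anti (by omega))
  · exact le_sup_of_le_left (zpowers_le.2 (subset_closure (by simp)))
  · exact le_sup_of_le_left (zpowers_le.2 (subset_closure (by simp)))

theorem nxc (h : MC S 3 n) (h4 : 4 ≤ n) : ¬ Xc S n := fun e => by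
  have := e.num h h4
  omega

theorem up (h : MC S 3 n) (h5 : 5 ≤ n) (hk : 2 ≤ k) (hk' : k + 2 ≤ n)
    (hc : ∀ x ∈ Gs S 1, ∀ y ∈ Gs S 1, ⁅x, y⁆ ∈ Gs S k) : ∀ x ∈ Gs S 1, ∀ y ∈ Gs S 1, ⁅x, y⁆ ∈ Gs S (k + 1) := by
  have h4 : 4 ≤ n := by omega
  obtain ⟨x, y, e⟩ := gen2 h h5
  have hx : x ∈ Gs S 1 := e ▸ subset_closure (by simp)
  have hy : y ∈ Gs S 1 := e ▸ subset_closure (by simp)
  have c0 := hc x hx y hy
  set Y := Gs S (k + 2) ⊔ zpowers ⁅x, y⁆ with hY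
  have Yk : Y ≤ Gs S k := sup_le (Gs_anti (by omega)) (zpowers_le.2 c0)
  have nY : Gs S 1 ≤ nm Y := le_nm_of_comm fun g hg z hz => mem_sup_left (by
    have := Gs_comm1 h h4 (.inr (nxc h h4)) hg (Yk hz)
    rwa [show 1 + k + 1 = k + 2 by omega] at this)
  have cY : ⁅x, y⁆ ∈ Y := mem_sup_right (mem_zpowers _)
  have s1 : ∀ z ∈ ({x, y} : Set G), z ∈ nm Y := by
    rintro _ (rfl | rfl)
    exacts [nY hx, nY hy]
  have st : Gs S 1 ≤ St (Gs S 1) Y := by
    rw [e, closure_le]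
    rintro _ (rfl | rfl)
    · refine mem_St_closure s1 ⟨nY hx, ?_⟩
      rintro _ (rfl | rfl)
      · rw [commutatorElement_self]; exact one_mem _
      · exact cY
    · refine mem_St_closure s1 ⟨nY hy, ?_⟩
      rintro _ (rfl | rfl)
      · exact comm_symm cY
      · rw [commutatorElement_self]; exact one_mem _
  by_cases c1 : ⁅x, y⁆ ∈ Gs S (k + 1)
  · exact fun a ha b hb => (sup_le (Gs_anti (by omega)) (zpowers_le.2 c1) : Y ≤ _) ((st ha).2 b hb)
  exfalso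
  have l1 : ⁅Gs S 1, Gs S 1⁆ ≤ Y := commutator_le.2 fun a ha b hb => (st ha).2 b hb
  obtain ⟨c, -, -, ec⟩ := Gs_normal h h4 (l1.trans (Yk.trans (Gs_anti (by omega))))
    (le_nm_of_conj fun g hg z hz => by
      have : cj g ⁅Gs S 1, Gs S 1⁆ = ⁅Gs S 1, Gs S 1⁆ := by
        rw [cj, map_commutator]
        exact congrArg₂ _ (cj_eq (nm_Gs hg)) (cj_eq (nm_Gs hg))
      exact this ▸ conj_mem_cj g hz)
  have ck : c ≤ k := by
    by_contra! lt
    exact c1 (Gs_anti lt (ec ▸ commutator_mem_commutator hx hy))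
  have l2 : Gs S k ≤ Y := (Gs_anti ck).trans (ec ▸ l1)
  have c3 : ⁅x, y⁆ ^ 3 ∈ Gs S (k + 2) := Gs_pow2 h h4 hk c0
  have n1 := card_sup_zpowers_le (p := 3) (nm_Gs (Gs_le c0)) c3
  have n2 := (H91.card_le_of_le l2).trans n1
  rw [Gs_card (m := n - k) h h4 (by omega) (by omega), Gs_card (m := n - k - 2) h h4 (by omega) (by omega),
    ← pow_succ', Nat.pow_le_pow_iff_right (by norm_num)] at n2
  omega

theorem comm_Z (h : MC S 3 n) (h5 : 5 ≤ n) : ∀ x ∈ Gs S 1, ∀ y ∈ Gs S 1, ⁅x, y⁆ ∈ Gs S (n - 1) := by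
  have key : ∀ k, 2 ≤ k → k + 1 ≤ n → ∀ x ∈ Gs S 1, ∀ y ∈ Gs S 1, ⁅x, y⁆ ∈ Gs S k := by
    intro k hk
    induction k, hk using Nat.le_induction with
    | base => exact fun _ x hx y hy => Gs_comm hx hy
    | succ k hk ih => exact fun e => up h h5 hk e (ih (by omega))
  exact key _ (by omega) (by omega)

theorem three (h : MC S 3 n) (h5 : 5 ≤ n) (hE : Es 3 S E) (hle : E ≤ Gs S 1) (hne : ¬ Gs S 1 ≤ E) :
    Nat.card E = 3 ^ 2 := by
  have h4 : 4 ≤ n := by omega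
  have pE : IsPGroup 3 E := h.isPGroup.to_le hE.le
  have hZ : Gs S (n - 1) ≤ Zo 3 E := fun z hz => by
    rw [← Gs_Zo h h4] at hz
    have c : z ∈ ce E := centralizer_le hE.le hz.1.2
    exact ⟨⟨hE.cen ⟨hz.1.1, c⟩, c⟩, hz.2⟩
  have nZ : ¬ Gs S (n - 1) ≤ Phi E := fun l => hne fun x hx => by
    have nx : x ∈ nm E := le_nm_of_comm (A := Gs S 1)
      (fun g hg z hz => Phi_le (l (comm_Z h h5 g hg z (hle hz)))) hx
    exact hE.phi ⟨Gs_le hx, nm_Phi nx, fun z hz => l (comm_Z h h5 x hx z (hle hz))⟩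
  have r := rank_le h h4 (by omega) hle fun x hx => pow_mem_Phi pE hx
  have ZE : Zo 3 E ≤ E := Zo_le.trans inf_le_left
  rcases hE.loc.irr (W := Zo 3 E ⊔ Phi E) le_rfl (sup_le ZE Phi_le) le_sup_right le_rfl (fun _ => nm_Phi)
    (fun _ e => nm_sup (nm_Zo e) (nm_Phi e)) (fun t => hE.ntr h.isPGroup (hE.loc.tr_of_Phi le_rfl t)) r with e | e
  · exact absurd (hZ.trans (le_sup_left.trans e.le)) nZ
  · have l := nongen ZE e.ge
    have r' := rank_le (K := ⊥) h h4 (by omega) hle fun x hx => (l hx).2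
    rw [card_bot, mul_one] at r'
    exact le_antisymm r' (hE.sq_le h.isPGroup)

end P23

theorem p23 (h : MC S p n) (h4 : 4 ≤ n) (h3 : p ≤ 3 ∨ n = 4) (hE : Es p S E) (hle : E ≤ Gs S 1) :
    E = Gs S 1 ∨ Nat.card E = p ^ 2 := by
  by_cases hne : Gs S 1 ≤ E
  · exact .inl (le_antisymm hle hne)
  have hab : ¬ Gs S 1 ≤ ce (Gs S 1) := fun l => hne fun x hx => hE.cen ⟨Gs_le hx, centralizer_le hle (l hx)⟩
  have n4 : n ≠ 4 := by
    rintro rfl
    refine hab ?_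
    rintro _ ⟨x, hx, rfl⟩ _ ⟨y, hy, rfl⟩
    exact congrArg Subtype.val (h.comm_four hy hx)
  have p3 := h3.resolve_right n4
  have p2 := hp.out.two_le
  have pG : IsPGroup p (Gs S 1) := h.isPGroup.to_le Gs_le
  obtain rfl | rfl : p = 2 ∨ p = 3 := by omega
  · have r := rank_le h h4 (by omega) le_rfl fun x hx => pow_mem_Phi pG hx
    obtain ⟨d, hd⟩ := cyc pG (by simpa using r)
    refine absurd ?_ hab
    rw [hd]
    rintro _ ⟨i, rfl⟩ _ ⟨j, rfl⟩
    exact zpow_mul_comm ..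
  · exact .inr (P23.three h (by omega) hE hle hne)

end Cfsg.Agent.MXC
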