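import Cfsg.Agent.MXC.Bas3
import Cfsg.Agent.MXC.Wts
import Cfsg.Agent.MXC.Fus2
import Cfsg.Agent.MXC.TyB

set_option autoImplicit false
set_option linter.unusedSectionVars false

namespace Cfsg.Agent.MXC

open Subgroup Cfsg.Agent.H62 Cfsg.Agent.SR3 Cfsg.Agent.MCF
open scoped commutatorElement

universe u

variable {G : Type u} [Group G] [Finite G] {p n i j k m : ℕ} [hp : Fact p.Prime]
  {S E R N D K Q X : Subgroup G} {e g r s t u x y : G} {a b c l : ℤ}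

namespace Pearl2

theorem le_of_cj (hg : g ∈ nm X) (h : cj g Q ≤ X) : Q ≤ X := fun x hx => by
  have k := conj_mem (inv_mem hg) (h (conj_mem_cj g hx))
  have e : g⁻¹ * (g * x * g⁻¹) * g⁻¹⁻¹ = x := by group
  rwa [e] at k

theorem arith (h5 : 5 ≤ p) (hj : Odd j) (h1 : (p : ℤ) ∣ a * 1 - -1) (h2 : (p : ℤ) ∣ c * 1 - -1)
    (h3 : (p : ℤ) ∣ b * c * 1 - 1) (h4 : (p : ℤ) ∣ b * a ^ j - c) : False := by
  rw [← ZMod.intCast_zmod_eq_zero_iff_dvd] at h1 h2 h3 h4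
  push_cast at h1 h2 h3 h4
  have e1 : (a : ZMod p) = -1 := by linear_combination h1
  have e2 : (c : ZMod p) = -1 := by linear_combination h2
  rw [e2] at h3 h4
  rw [e1, hj.neg_one_pow] at h4
  have e3 : ((2 : ℕ) : ZMod p) = 0 := by push_cast; linear_combination h4 - h3
  have := Nat.le_of_dvd two_pos ((ZMod.natCast_eq_zero_iff _ _).1 e3)
  omega

end Pearl2

theorem pearl2 (h : MC S p n) (h4 : 4 ≤ n) (hX : Xc S n) (hF : (groupFusionSystem S).IsSaturated p) (hE : (groupFusionSystem S).IsEssential p R) (hs : s ∈ R) (hu : Un S n s)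
    (hc : Nat.card R = p ^ 3) : False := by
  have hS := h.isPGroup
  have hR := es_of hS hF hE
  obtain ⟨n6, ev, np⟩ := hX.num h h4
  obtain ⟨j, rfl⟩ : ∃ j, n = j + 3 := ⟨n - 3, by omega⟩
  have jo : Odd j := by
    rw [Nat.odd_iff]; rw [Nat.even_iff] at ev; omega
  have p1 := hp.out.one_lt
  have po : Odd p := hp.out.odd_of_ne_two (by omega)
  have pR : IsPGroup p R := hS.to_le hR.le
  have hZ' : Gs S (j + 2) ≤ S ⊓ ce R :=
    (Gs_cen h h4).ge.trans (inf_le_inf_left _ (centralizer_le (SetLike.coe_subset_coe.2 hR.le)))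
  have hZ : Gs S (j + 2) ≤ R := hZ'.trans hR.cen
  obtain ⟨c, -, c2, c3, c4, c5⟩ := inf_eq h h4 hR.le hZ hs hu.n1
  obtain rfl : c = j + 1 := by
    have := Nat.pow_right_injective hp.out.two_le (hc.symm.trans c5)
    omega
  have nab : ¬ R ≤ ce R := by
    rcases tyb h h4 hR hs hu with e | e
    · exact absurd (Nat.pow_right_injective hp.out.two_le (hc.symm.trans e)) (by norm_num)
    · exact e.2
  obtain ⟨-, cN⟩ := nm_eq h h4 (by omega) c2 hu.mem hu.n1 (Or.inr hu.n2) c4 c3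
  have par := hR.par hS cN
  have cD := card_cen_cube hc nab
  have eD : R ⊓ ce R = Gs S (j + 2) :=
    (eq_of_le_of_card_ge (le_inf hZ (hZ'.trans inf_le_right))
      (by rw [cD, Gs_card (m := 1) h h4 (by omega) rfl, pow_one])).symm
  have i2 : nm R ≤ nm (R ⊓ ce R) := fun _ hg => nm_inf hg (nm_ce hg)
  have trD : Tr p (S ⊓ nm R) R (R ⊓ ce R : Subgroup G) ⊥ :=
    hR.loc.tr_of_card inf_le_left bot_le i2 (fun _ _ => nm_bot) (by rw [cD, card_bot, mul_one])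
  have cR : Nat.card R = p ^ 2 * Nat.card ↥(R ⊓ ce R) := by rw [cD, hc, pow_succ]
  obtain ⟨t, tN, tC, cop, inv, -, -⟩ := par.invol po le_rfl inf_le_left le_rfl i2 cR
    (le_St_of_card_sq pR inf_le_left (le_normalizer.trans i2) cR.le)
    (fun x hx => pow_mem_of_cen pR le_rfl cR.le nab hx)
    (fun e => hR.ntr hS (hR.loc.trans le_rfl inf_le_left e trD))
  have tD := trD.mem tC cop
  rw [eD] at inv tD
  obtain ⟨m, hm, hmt⟩ := alp (Q := S ⊓ nm R) (g := t) hS hF (M := nm S) le_rfl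
    (fun Q => p ^ 4 ≤ Nat.card Q ∧ ¬ Q ≤ Gs S 1 ∧ ¬ Q ≤ Cs S (j + 3))
    (fun g hg Q hQ => ⟨by rw [card_cj]; exact hQ.1, fun e => hQ.2.1 (Pearl2.le_of_cj (nmS_Gs hg) e),
      fun e => hQ.2.2 (Pearl2.le_of_cj (nmS_Cs hg) e)⟩)
    (fun R' Q hR' hQ hP => by
      exfalso
      have es := es_of hS hF hR'
      obtain ⟨s', hs', hu'⟩ := un_of h h4 es.le (fun e => hP.2.1 (hQ.trans e)) fun e => hP.2.2 (hQ.trans e)
      have k1 := hP.1.trans (card_le_of_le hQ)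
      rcases tyb h h4 es hs' hu' with e | ⟨e, -⟩ <;> rw [e] at k1 <;>
        exact absurd ((Nat.pow_le_pow_iff_right p1).1 k1) (by norm_num))
    inf_le_left ⟨by rw [cN, hc, ← pow_succ'], fun e => hu.n1 (e (par.le hs)), fun e => hu.n2 (e (par.le hs))⟩
    ((cj_eq tN).le.trans inf_le_left)
  have key : ∀ x ∈ R, m * x * m⁻¹ = t * x * t⁻¹ := fun x hx => by
    have e := mem_ce.1 hmt x (par.le hx)
    calc m * x * m⁻¹ = m * (x * (m⁻¹ * t)) * t⁻¹ := by group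
      _ = t * x * t⁻¹ := by rw [e]; group
  have inv' : ∀ x ∈ R, m * x ^ (1 : ℤ) * m⁻¹ * (x ^ (-1 : ℤ))⁻¹ ∈ Gs S (j + 2) := fun x hx => by
    rw [zpow_one, zpow_neg_one, inv_inv, key x hx]; exact inv x hx
  obtain ⟨a, ha⟩ := exists_a h h4 hm 0
  obtain ⟨b, hb⟩ := exists_a h h4 hm 1
  obtain ⟨c, hc'⟩ := exists_a h h4 hm (j + 1)
  have w1 := wt_of_mem h h4 ha (Gs_zero.ge hu.mem) hu.n1 (Gs_anti (by omega) (inv' s hs)) hm
  obtain ⟨y, hy, hy'⟩ := Gs_ex (k := j + 1) h h4 (by omega)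
  have w2 := wt_of_mem h h4 hc' hy hy' (inv' y (c3.ge hy).1) hm
  obtain ⟨z, hz, hz'⟩ := Gs_ex (k := j + 2) h h4 le_rfl
  have top : Wt m (Gs S (j + 2)) (Gs S (j + 2 + 1)) (b * c) := by
    rw [Gs_bot (k := j + 2 + 1) h h4 le_rfl]; exact wt_top h h4 hX hm hb hc'
  have w3 := wt_of_mem (b := 1) (c := 1) h h4 top hz hz' (by
    rw [zpow_one, key z (hZ hz)]
    exact bot_le (a := Gs S (j + 2 + 1)) (tD.2 z hz)) hm
  rw [Gs_zero] at ha
  have w4 := wt_uniq h h4 (by omega) (wt_chain (j := j) h h4 ha hb hm (Or.inl le_rfl)) hc'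
  exact Pearl2.arith (by omega) jo w1 w2 w3 w4

end Cfsg.Agent.MXC
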