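import Cfsg.Agent.MXC.Bas1

set_option autoImplicit false
set_option linter.unusedSectionVars false

namespace Cfsg.Agent.MXC

open Subgroup Cfsg.Agent.H62 Cfsg.Agent.SR3 Cfsg.Agent.MCF
open scoped commutatorElement

universe u

variable {G : Type u} [Group G] [Finite G] {p n i j k m : ℕ} [hp : Fact p.Prime]
  {S E R N D K Q X : Subgroup G} {e g r s t u x y : G} {a b c l : ℤ}

theorem red1_up_Ga {S' : Subgroup (QuotAux.Qt D)} (hS : QuotAux.up S' = S) (k : ℕ) :
    QuotAux.up (Ga S' k) = Ga S k ⊔ D := by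
  have h1 : (S'.comap (QuotAux.pr D)).map (QuotAux.pr D) = S' :=
    map_comap_eq_self_of_surjective (QuotientGroup.mk'_surjective _) _
  have h2 : (S'.comap (QuotAux.pr D)).map (nm D).subtype = S := hS
  have e1 : Ga S' k = ((S'.comap (QuotAux.pr D)).lowerCentralSeries k).map (QuotAux.pr D) := by
    rw [map_lowerCentralSeries, h1, Ga, top_subtype_lowerCentralSeries]
  have e2 : Ga S k = ((S'.comap (QuotAux.pr D)).lowerCentralSeries k).map (nm D).subtype := by
    rw [map_lowerCentralSeries, h2, Ga, top_subtype_lowerCentralSeries]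
  rw [QuotAux.up, e1, e2, comap_map_eq, Subgroup.map_sup, QuotientGroup.ker_mk',
    subgroupOf_map_subtype, inf_eq_left.2 le_normalizer]

theorem quo (h : MC S p n) (h4 : 4 ≤ n) {d : ℕ} (hd : 4 ≤ d) (hd' : d ≤ n) (hD : D = Gs S d) {S' : Subgroup (QuotAux.Qt D)}
    (hS : QuotAux.up S' = S) : MC S' p d ∧ ∀ k ≤ d, QuotAux.up (Gs S' k) = Gs S k := by
  have hD' : D = Ga S (d - 1) := hD.trans (Gs_eq (by omega))
  have key : ∀ k, k + 1 ≤ d → QuotAux.up (Ga S' k) = Ga S k := fun k hk => by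
    rw [red1_up_Ga hS, sup_eq_left]
    exact hD'.le.trans (Ga_anti (by omega))
  refine ⟨⟨?_, by omega, fun e => ?_⟩, fun k hk => ?_⟩
  · have e1 := QuotAux.card_up (Y := S')
    have e2 : Nat.card D = p ^ (n - d) := by
      rw [hD']
      exact card_Ga h (by omega) (by omega)
    rw [hS, h.card, e2] at e1
    apply Nat.eq_of_mul_eq_mul_right (pow_pos hp.out.pos (n - d))
    rw [← e1, ← pow_add]
    congr 1
    omega
  · obtain ⟨y, h1, h2⟩ := Ga_exists h (k := d - 2) (by omega)
    rw [← key _ (by omega), Ga, e, Subgroup.map_bot, QuotAux.up_bot, hD'] at h1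
    exact h2 (Ga_anti (by omega) h1)
  · match k, hk with
    | 0, _ => rw [Gs_zero, Gs_zero, hS]
    | 1, _ =>
      rw [Gs_one, Gs_one]
      ext x
      constructor
      · intro hx
        obtain ⟨g, rfl, hg⟩ := QuotAux.of_up hx
        rw [mem_Ka] at hg ⊢
        refine ⟨hS ▸ QuotAux.mem_up.2 hg.1, fun y hy => ?_⟩
        rw [← key _ (by omega)] at hy ⊢
        obtain ⟨z, rfl, hz⟩ := QuotAux.of_up hy
        exact QuotAux.comm_up.2 (hg.2 _ hz)
      · intro hx
        rw [mem_Ka] at hx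
        have hx1 : x ∈ QuotAux.up S' := hS ▸ hx.1
        obtain ⟨g, rfl, hg⟩ := QuotAux.of_up hx1
        refine QuotAux.mem_up.2 (mem_Ka.2 ⟨hg, fun y hy => ?_⟩)
        obtain ⟨z, rfl⟩ := QuotAux.lift y
        refine QuotAux.comm_up.1 ?_
        rw [key _ (by omega)]
        exact hx.2 _ (key 1 (by omega) ▸ QuotAux.mem_up.2 hy)
    | (k + 2), hk => rw [Gs_eq (by omega), Gs_eq (by omega), key _ (by omega)]

end Cfsg.Agent.MXC
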