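import Cfsg.Agent.MXC.Bas2
import Cfsg.Agent.MXC.Fus1
import Cfsg.Agent.MXC.Red1
import Cfsg.Agent.MXC.SE
import Cfsg.Agent.MXC.Core

set_option autoImplicit false
set_option linter.unusedSectionVars false

namespace Cfsg.Agent.MXC

open Subgroup Cfsg.Agent.H62 Cfsg.Agent.SR3 Cfsg.Agent.MCF
open scoped commutatorElement

universe u

variable {G : Type u} [Group G] [Finite G] {p n i j k m : ℕ} [hp : Fact p.Prime]
  {S E R N D K Q X : Subgroup G} {e g r s t u x y : G} {a b c l : ℤ}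

namespace R293

open QuotAux

theorem up_inf (A B : Subgroup (Qt D)) : up (A ⊓ B) = up A ⊓ up B := by
  refine le_antisymm (le_inf (up_le_up.2 inf_le_left) (up_le_up.2 inf_le_right)) fun x hx => ?_
  obtain ⟨a, rfl, ha⟩ := of_up hx.1
  exact mem_up.2 ⟨ha, mem_up.1 hx.2⟩

theorem le_up (A : Subgroup (Qt D)) : D ≤ up A := up_bot.ge.trans (up_le_up.2 bot_le)

theorem up_sup (A B : Subgroup (Qt D)) : up (A ⊔ B) = up A ⊔ up B := by
  obtain ⟨C, hC⟩ := exists_up (T := D) (A := up A ⊔ up B) ((le_up A).trans le_sup_left) (sup_le up_le up_le)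
  refine le_antisymm ?_ (sup_le (up_le_up.2 le_sup_left) (up_le_up.2 le_sup_right))
  rw [← hC]
  exact up_le_up.2 (sup_le (up_le_up.1 (le_sup_left.trans hC.ge)) (up_le_up.1 (le_sup_right.trans hC.ge)))

theorem nm_lift {A B : Subgroup (Qt D)} (i : nm (up A) ≤ nm D) (h : nm A ≤ nm B) : nm (up A) ≤ nm (up B) :=
  fun g hg => (nm_up (g := ⟨g, i hg⟩)).2 (h (nm_up.1 hg))

theorem ext_down {S' E' : Subgroup (Qt D)} (hG : up (Gs S' 1) = Gs (up S') 1) (i : nm (up E') ≤ nm D)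
    (iG : nm (Gs (up S') 1) ≤ nm D) (hx : Ext (up S') (up E')) : Ext S' E' := by
  intro Q' K' h1 h2 h3 h4 h5 h6 h7 y hy hy'
  obtain ⟨a, rfl⟩ := lift y
  obtain ⟨m, m1, m2, m3⟩ := hx (up Q') (up K') (up_le_up.2 h1) (by rw [← up_nm i, ← up_inf]; exact up_le_up.2 h2)
    (fun e => h3 (up_le_up.1 e)) (ce_le_up.trans (up_le_up.2 h4)) (by rw [← up_nm i]; exact up_le_up.2 h5)
    (nm_lift i h6) (by rw [← up_inf]; exact up_le_up.2 h7) a (nm_up.2 hy) (by rw [← up_sup]; exact nm_up.2 hy')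
  refine ⟨pr D ⟨m, iG m1⟩, nm_up.1 (hG ▸ m1), nm_up.1 m2, ?_⟩
  rw [← map_inv, ← map_mul]
  exact mem_up.1 m3

end R293

open QuotAux R293 in
theorem red (h : MC S p n) (h4 : 4 ≤ n) (h5 : 5 ≤ p) (hE : Es p S E) (hle : E ≤ Gs S 1) (hN : ¬ S ≤ nm E) (hx : Ext S E)
    (hL : Loc p S (Gs S 1)) : False := by
  have hS : IsPGroup p S := h.isPGroup
  have hZ : Gs S (n - 1) ≤ E := (Gs_cen h h4).ge.trans ((inf_le_inf_left _ (centralizer_le hE.le)).trans hE.cen)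
  have hNG : S ⊓ nm E ≤ Gs S 1 := fun x hx => by
    by_contra k
    obtain ⟨c, -, -, e⟩ := up_eq h h4 hZ hle hx.1 k hx.2
    exact hN (e ▸ nm_Gs)
  have n2 : ¬ Gs S 2 ≤ E := fun e => hN ((S_St_Gs (j := 1) le_rfl).trans (St_le_nm e hle))
  obtain ⟨D, ⟨d1, d2, d3, d4⟩, dm⟩ := (Set.toFinite {D : Subgroup G | D ≤ E ∧ nm E ≤ nm D ∧ nm (Gs S 1) ≤ nm D ∧
      Tr p (S ⊓ nm E) E D ⊥}).exists_maximal ⟨⊥, bot_le, fun _ _ => nm_bot, fun _ _ => nm_bot,
    fun g _ => ⟨0, nm_bot, fun x hx => by simp [mem_bot.1 hx]⟩⟩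
  have hSD : S ≤ nm D := nm_Gs.trans d3
  obtain ⟨d, c1, c2, hD⟩ := Gs_normal h h4 (d1.trans hle) hSD
  have hd : 4 ≤ d := by
    by_contra k
    have k3 : Gs S 3 ≤ D := hD ▸ Gs_anti (by omega)
    refine hE.ntr hS (hE.loc.trans le_rfl d1 (hE.loc.tr_of_card le_rfl d1 le_rfl d2 ?_) d4)
    have e1 := mul_card_le (hS.to_le Gs_le) (lt_of_le_not_ge hle fun e => n2 ((Gs_anti one_le_two).trans e))
    have e2 := (Gs_card_le (k := 1) h h4).trans (Nat.mul_le_mul_left p (Gs_card_le (k := 2) h h4))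
    exact (Nat.le_of_mul_le_mul_left (e1.trans e2) hp.out.pos).trans (Nat.mul_le_mul_left p (card_le_of_le k3))
  obtain ⟨S', rfl⟩ := exists_up (d1.trans hE.le) hSD
  obtain ⟨E', rfl⟩ := exists_up d1 (le_normalizer.trans d2)
  obtain ⟨hM, hG⟩ := quo h h4 hd c2 hD rfl
  have g1 := hG 1 c1
  have cen : S' ⊓ ce E' ≤ E' := fun y hy => by
    obtain ⟨a, rfl⟩ := lift y
    refine mem_up.1 (hE.st d1 d2 d4 ⟨mem_up.2 hy.1, ?_⟩)
    have := (St_up (X := E') (Y := ⊥) (g := a)).2 ((St_bot _).ge hy.2)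
    rwa [up_bot] at this
  have le' : E' ≤ Gs S' 1 := up_le_up.1 (hle.trans g1.ge)
  refine Co.false (p := p) (n := d) (S := S') (E := E') ⟨hM, h5, hd, le', fun e => n2 ((hG 2 (by omega)).ge.trans
    (up_le_up.2 e)), cen, loc_down (by rw [up_inf, up_nm d2]; exact hE.loc) d2, ext_down g1 d2 d3 hx,
    loc_down (by rw [g1]; exact hL) (by rw [g1]; exact d3), fun hW => ?_⟩ fun e => hN ((up_le_up.2 e).trans (up_nm d2).le)
  have w0 := (W0_le hM hd).trans Zo_le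
  have w1 : up (W0 p S') ≤ up E' := up_le_up.2 (w0.trans ((inf_le_inf Gs_le (centralizer_le le')).trans cen))
  have w2 := nm_lift d2 hW
  have w3 : nm (Gs (up S') 1) ≤ nm (up (W0 p S')) := by
    rw [← g1] at d3 ⊢
    exact nm_lift d3 nm_Wc
  have w4 : up S' ⊓ nm (up E') ≤ St (up (W0 p S')) D := fun g hg => by
    obtain ⟨a, rfl, ha⟩ := of_up (g1.ge (hNG hg))
    have := (St_up (X := W0 p S') (Y := ⊥) (g := a)).2 ((St_bot _).ge fun y hy => ((w0 hy).2 _ ha).symm)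
    rwa [up_bot] at this
  have w5 := dm ⟨w1, w2, w3, hE.loc.trans w1 (le_up _) (hE.loc.tr_of_le w1 d1 w2 d2 w4) d4⟩ (le_up _)
  obtain ⟨y, hy, hy'⟩ := Gs_ex (k := d - 1) h h4 (by omega)
  rw [show d - 1 + 1 = d by omega] at hy'
  exact hy' (hD.le (w5 (up_le_up.2 (Z_le_W0 hM hd) ((hG (d - 1) (by omega)).ge hy))))

end Cfsg.Agent.MXC
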