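import Cfsg.Agent.MXC.Ext
import Cfsg.Agent.MXC.CC2
import Cfsg.Agent.MXC.Pearl2
import Cfsg.Agent.MXC.P23
import Cfsg.Agent.MXC.Red2

set_option autoImplicit false
set_option linter.unusedSectionVars false

namespace Cfsg.Agent.MXC

open Subgroup Cfsg.Agent.H62 Cfsg.Agent.SR3 Cfsg.Agent.MCF
open scoped commutatorElement

universe u

variable {G : Type u} [Group G] [Finite G] {p n : ℕ} [hp : Fact p.Prime] {S E : Subgroup G}

theorem eq_of_le_big (h : MC S p n) (h5 : 5 ≤ p) (hn : 5 ≤ n)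
    (hF : (groupFusionSystem S).IsSaturated p) (k : ℕ) : ∀ E : Subgroup G, Nat.card G - Nat.card E = k →
    (groupFusionSystem S).IsEssential p E → E ≤ Gs S 1 → E = Gs S 1 := by
  induction k using Nat.strong_induction_on with
  | _ k ih =>
  intro E hk hE hle
  have h4 : 4 ≤ n := by omega
  by_cases hN : S ≤ nm E
  · rcases nrm h h5 hn hF hE hN with e | e
    · exact e
    · exact eq_of_le_of_card_ge hle (by
        rw [e, card_Cs h h4, Gs_card h h4 le_rfl (show 1 + (n - 1) = n by omega)])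
  exfalso
  refine red h h4 h5 (es_of h.isPGroup hF hE) hle hN (ext_of h h5 hn hF hE hle hN fun R hR h1 h2 => ?_)
    (locG h.isPGroup hF Gs_le nm_Gs)
  have := R.card_le_card_group
  exact ih _ (by omega) R rfl hR h1

theorem main1 (h : MC S p n) (h4 : 4 ≤ n) (hF : (groupFusionSystem S).IsSaturated p)
    (hE : (groupFusionSystem S).IsEssential p E) :
    Nat.card E = p ^ 2 ∨ (Nat.card E = p ^ 3 ∧ ¬ E ≤ ce E) ∨ E = Gs S 1 ∨ E = Cs S n := by
  have es := es_of h.isPGroup hF hE
  by_cases h1 : E ≤ Gs S 1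
  · by_cases h3 : p ≤ 3 ∨ n = 4
    · rcases p23 h h4 h3 es h1 with e | e
      · exact Or.inr (Or.inr (Or.inl e))
      · exact Or.inl e
    · have h5 : 5 ≤ p := by
        have : p ≠ 4 := fun e => by have := hp.out; rw [e] at this; exact absurd this (by decide)
        omega
      exact Or.inr (Or.inr (Or.inl (eq_of_le_big h h5 (by omega) hF _ E rfl hE h1)))
  by_cases h2 : E ≤ Cs S n
  · exact Or.inr (Or.inr (Or.inr (cc2 h h4 (fun e => h1 (e ▸ h2)) hF hE h2 h1)))
  obtain ⟨s, hs, hu⟩ := un_of h h4 es.le h1 h2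
  rcases tyb h h4 es hs hu with e | e
  · exact Or.inl e
  · exact Or.inr (Or.inl e)

theorem main2 (h : MC S p n) (h4 : 4 ≤ n) (hX : Xc S n) (hF : (groupFusionSystem S).IsSaturated p)
    (hE : (groupFusionSystem S).IsEssential p E) (hc : Nat.card E = p ^ 3) : False := by
  obtain ⟨h6, -, hn⟩ := hX.num h h4
  have k : ∀ X : Subgroup G, Nat.card X = p ^ (n - 1) → E ≠ X := fun X hX e => by
    rw [← e, hc] at hX
    have := Nat.pow_right_injective hp.out.two_le hX
    omega
  have h1 : ¬ E ≤ Gs S 1 := fun e => k _ (Gs_card h h4 le_rfl (by omega))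
    (eq_of_le_big h (by omega) (by omega) hF _ E rfl hE e)
  have h2 : ¬ E ≤ Cs S n := fun e => k _ (card_Cs h h4) (cc2 h h4 hX hF hE e h1)
  obtain ⟨s, hs, hu⟩ := un_of h h4 hE.1.1 h1 h2
  exact pearl2 h h4 hX hF hE hs hu hc

end Cfsg.Agent.MXC
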