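import Cfsg.Agent.MXC.Bas2
import Cfsg.Agent.MXC.Bas3
import Cfsg.Agent.MXC.Rep

set_option autoImplicit false
set_option linter.unusedSectionVars false

namespace Cfsg.Agent.MXC

open Subgroup Cfsg.Agent.H62 Cfsg.Agent.SR3 Cfsg.Agent.MCF
open scoped commutatorElement Matrix

universe u

variable {G : Type u} [Group G] [Finite G] {p n i j k m : ℕ} [hp : Fact p.Prime]
  {S E R N D K Q X : Subgroup G} {e g r s t u x y : G} {a b c l : ℤ}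

namespace QuadAux

theorem un_inv (hs : Un S n s) : Un S n s⁻¹ :=
  ⟨inv_mem hs.mem, fun h => hs.n1 (inv_mem_iff.1 h), fun h => hs.n2 (inv_mem_iff.1 h)⟩

theorem not_mem (h : MC S p n) (h4 : 4 ≤ n) {c : ℕ} (h1 : Gs S (c + 1) ≤ E) (h2 : ¬ Gs S c ≤ E)
    (hr : r ∈ Gs S c) (hr' : r ∉ Gs S (c + 1)) : r ∉ E := fun e =>
  h2 (Gs_gen h h4 hr hr' ▸ sup_le h1 (zpowers_le.2 e))

/-- the matrix part: the commutator of a uniform element with an element two steps above `γ_c`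
acts quadratically on an elementary abelian member of the series centralised by `γ_c` -/
theorem mat (h : MC S p n) (h4 : 4 ≤ n) {a w c : ℕ} (ha : 1 ≤ a) (haw : a + w = n) (hw : w < p)
    (hc : 1 ≤ c) (h1 : Gs S a ≤ ce (Gs S (c + 2))) (h2 : Gs S a ≤ ce (Gs S a))
    (h3 : ∀ x ∈ Gs S a, x ^ p = 1) (hs : Un S n s) (hy : y ∈ Gs S c) {v : G} (hv : v ∈ Gs S a) :
    ⁅⁅s⁻¹, y⁆, ⁅⁅s⁻¹, y⁆, v⁆⁆ = 1 := by
  obtain ⟨κ, ρ, hκ, hρ, r1, r2, r3, -⟩ := rep h h4 ha haw.le (M := S) nm_Gs nm_Gs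
    (fun x hx y hy => by
      rw [commutatorElement_eq_one_iff_mul_comm.2 (mem_ce.1 (h2 hy) x hx)]
      exact one_mem _)
    (fun x hx => by rw [h3 x hx]; exact one_mem _)
  have hr : ⁅s⁻¹, y⁆ ∈ Gs S (c + 1) := Gs_comm0' (inv_mem hs.mem) hy
  have triv : ∀ g : S, (g : G) ∈ Gs S (c + 2) → ρ g = 1 := fun g hg => (r1 g).2
    ⟨nm_Gs g.2, fun x hx => by
      rw [commutatorElement_eq_one_iff_mul_comm.2 (mem_ce.1 (h1 hx) g hg)]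
      exact one_mem _⟩
  set s' : S := ⟨s, hs.mem⟩ with es
  set y' : S := ⟨y, Gs_le hy⟩ with ey
  set r' : S := ⟨⁅s⁻¹, y⁆, Gs_le hr⟩ with er
  have c1 : ρ r' * ρ s' = ρ s' * ρ r' := by
    have e1 : ρ ⁅r', s'⁆ = 1 := triv _ (Gs_comm0 hr hs.mem)
    have e2 : r' * s' = ⁅r', s'⁆ * (s' * r') := by rw [commutatorElement_def]; group
    rw [← map_mul, e2, map_mul, e1, one_mul, map_mul]
  have c2 : ρ y' * ρ s' * ρ y'⁻¹ = ρ s' * ρ r' := by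
    rw [← map_mul, ← map_mul, ← map_mul]
    congr 1
    apply Subtype.ext
    show y * s * y⁻¹ = s * ⁅s⁻¹, y⁆
    rw [commutatorElement_def]
    group
  have c3 : ρ y' * ρ r' * ρ y'⁻¹ = ρ r' := by
    have e1 : ρ ⁅y', r'⁆ = 1 := triv _ (Gs_anti (by omega) (Gs_comm hy hr))
    rw [← map_mul, ← map_mul, conj_eq_comm, map_mul, e1, one_mul]
  have c4 : ρ y' * ρ y'⁻¹ = 1 := by rw [← map_mul, mul_inv_cancel, map_one]
  have c5 : ρ y'⁻¹ * ρ y' = 1 := by rw [← map_mul, inv_mul_cancel, map_one]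
  have cc : (ρ r' - 1) * (ρ s' - 1) = (ρ s' - 1) * (ρ r' - 1) := by
    simp only [sub_mul, mul_sub, c1, one_mul, mul_one]
    abel
  have q : (ρ r' - 1) * (ρ r' - 1) = 0 := by
    by_cases h0 : ρ r' - 1 = 0
    · rw [h0, zero_mul]
    obtain ⟨l, l1, l2, l3⟩ := MCE.exists_ex (k := 1) (r3 s' hs) (by simpa using r2 r' r'.2) cc h0
    refine MCE.quad_of_conj (r3 s' hs) l3 l1 (fun e => ?_) cc c5 ?_ ?_
    · have := Nat.le_of_dvd l1 ((ZMod.natCast_eq_zero_iff l p).1 e)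
      omega
    · rw [mul_sub, sub_mul, c2, mul_one, c4]
      noncomm_ring
    · rw [mul_sub, sub_mul, c3, mul_one, c4]
  have tr : ∀ x ∈ Gs S a, κ ⁅⁅s⁻¹, y⁆, x⁆ = (ρ r' - 1) *ᵥ κ x := fun x hx => by
    have m1 : ⁅s⁻¹, y⁆ * x * ⁅s⁻¹, y⁆⁻¹ ∈ Gs S a := conj_mem (nm_Gs (Gs_le hr)) hx
    have e1 : ⁅⁅s⁻¹, y⁆, x⁆ = x⁻¹ * (⁅s⁻¹, y⁆ * x * ⁅s⁻¹, y⁆⁻¹) := by
      rw [mem_ce.1 (h2 m1) _ (inv_mem hx), commutatorElement_def ⁅s⁻¹, y⁆ x]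
    rw [e1, MCE.add_inv' hκ.add hx m1, Matrix.sub_mulVec, Matrix.one_mulVec, hρ r' x hx]
  have m1 : ⁅⁅s⁻¹, y⁆, v⁆ ∈ Gs S a := comm_mem_of_nm (nm_Gs (Gs_le hr)) hv
  have m2 : ⁅⁅s⁻¹, y⁆, ⁅⁅s⁻¹, y⁆, v⁆⁆ ∈ Gs S a := comm_mem_of_nm (nm_Gs (Gs_le hr)) m1
  have z : κ ⁅⁅s⁻¹, y⁆, ⁅⁅s⁻¹, y⁆, v⁆⁆ = 0 := by
    rw [tr _ m1, tr _ hv, Matrix.mulVec_mulVec, q, Matrix.zero_mulVec]
  have m3 : ⁅⁅s⁻¹, y⁆, ⁅⁅s⁻¹, y⁆, v⁆⁆ ∈ Gs S (a + w) :=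
    (hκ.mem w le_rfl _ m2).2 fun i _ => by rw [z]; rfl
  rwa [Gs_bot h h4 haw.ge, mem_bot] at m3

end QuadAux

open QuadAux

theorem Co.quad (h : Co p n S E) : ∃ c r, 3 ≤ c ∧ c + 1 ≤ n ∧ Gs S c ≤ E ∧ r ∈ Gs S (c - 1) ∧ r ∉ E ∧
    ∀ v ∈ Zo p E, ⁅r, ⁅r, v⁆⁆ = 1 := by
  classical
  have h4 := h.h4
  have hES : E ≤ S := h.le.trans Gs_le
  have hZ : Gs S (n - 1) ≤ E := by
    rw [← Gs_cen h.mc h4]
    exact (inf_le_inf_left _ (centralizer_le hES)).trans h.cen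
  have hex : ∃ k, Gs S k ≤ E := ⟨_, hZ⟩
  have c1 := Nat.find_spec hex
  have c2 : Nat.find hex ≤ n - 1 := Nat.find_min' hex hZ
  have c3 : 3 ≤ Nat.find hex := by
    by_contra e
    exact h.n2 ((Gs_anti (by omega)).trans c1)
  have c4 : ¬ Gs S (Nat.find hex - 1) ≤ E := Nat.find_min hex (by omega)
  obtain ⟨c, hc⟩ : ∃ c, Nat.find hex = c + 2 := ⟨Nat.find hex - 2, by omega⟩
  rw [hc] at c1 c2 c3 c4
  have c4' : ¬ Gs S (c + 1) ≤ E := c4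
  have hV : Zo p E ≤ ce (Gs S (c + 2)) := fun v hv => centralizer_le c1 (Zo_le hv).2
  by_cases hVc : Zo p E ≤ Gs S (c + 2)
  · obtain ⟨a, a1, a2, ha⟩ := Gs_normal h.mc h4 (N := Zo p (Gs S (c + 2)))
      (fun x hx => Gs_anti (by omega) (Zo_le hx).1) fun g hg => nm_Zo (nm_Gs hg)
    have hw : n - a < p := by
      have e1 := elem_le h.mc h4 (X := Zo p (Gs S (c + 2))) (fun x hx => Gs_anti (by omega) (Zo_le hx).1)
        (fun e => h.n2 fun x hx => c1 (Zo_le (e.ge (Gs_anti (by omega) hx))).1) fun x hx => hx.2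
      rw [ha, Gs_card h.mc h4 a1 (m := n - a) (by omega)] at e1
      have := (Nat.pow_le_pow_iff_right hp.out.one_lt).1 e1
      have := hp.out.two_le
      omega
    obtain ⟨s, hs⟩ := exists_un h.mc h4
    obtain ⟨y, hy, hy'⟩ := Gs_ex h.mc h4 (k := c) (by omega)
    have hr : ⁅s⁻¹, y⁆ ∈ Gs S (c + 1) := Gs_comm0' (inv_mem hs.mem) hy
    refine ⟨c + 2, ⁅s⁻¹, y⁆, c3, by omega, c1, hr, not_mem h.mc h4 c1 c4' hr fun e =>
      hy' ((un_inv hs).step h.mc h4 (by omega) (by omega) hy (comm_symm e)), fun v hv => ?_⟩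
    refine mat h.mc h4 a1 (w := n - a) (by omega) hw (by omega) ?_ ?_ ?_ hs hy ?_
    · rw [← ha]
      exact fun x hx => (Zo_le hx).2
    · rw [← ha]
      exact fun x hx => centralizer_le (fun z hz => (Zo_le hz).1) (Zo_le hx).2
    · rw [← ha]
      exact fun x hx => hx.2
    · rw [← ha]
      exact ⟨⟨hVc hv, hV hv⟩, hv.2⟩
  · obtain ⟨m, m1, m2, hm⟩ := Gs_normal h.mc h4 (N := Gs S 1 ⊓ ce (Gs S (c + 2))) inf_le_left
      fun g hg => nm_inf (nm_Gs hg) (nm_ce (nm_Gs hg))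
    have hVm : Zo p E ≤ Gs S m := hm ▸ le_inf (fun x hx => h.le (Zo_le hx).1) hV
    have hmc : m ≤ c + 1 := by
      by_contra e
      exact hVc (hVm.trans (Gs_anti (by omega)))
    obtain ⟨r, hr, hr'⟩ := Gs_ex h.mc h4 (k := c + 1) (by omega)
    refine ⟨c + 2, r, c3, by omega, c1, hr, not_mem h.mc h4 c1 c4' hr hr', fun v hv => ?_⟩
    have e1 : r ∈ ce (Gs S (c + 2)) := (hm.ge (Gs_anti hmc hr)).2
    exact commutatorElement_eq_one_iff_mul_comm.2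
      (mem_ce.1 e1 _ (Gs_comm0 hr (hES (Zo_le hv).1))).symm

end Cfsg.Agent.MXC
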